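import Cfsg.Agent.H16.Fi24.U6GLoc
import Cfsg.Agent.H24.U6.Ident

/-!
The quotient of the centraliser of the four-group by the four-group: the local data, the
recognition, and quasisimplicity of the centraliser.
-/

set_option autoImplicit false
set_option linter.style.haveILetI false
set_option linter.unusedSectionVars false

namespace H75.U6Quot

open H16.Fi24

universe u

variable {G : Type u} [Group G] [Finite G] {z : G}
  {Q : Subgroup (Subgroup.centralizer ({z} : Set G))} [Q.Normal] (C : U6Ctx z Q)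

theorem four_le_cen : C.four ≤ C.cen :=
  (Subgroup.closure_le _).2 (by
    rintro x (rfl | rfl)
    · exact C.mem_cen.2 ⟨Commute.refl _, C.commute_ef⟩
    · exact C.mem_cen.2 ⟨C.commute_ef.symm, Commute.refl _⟩)

theorem commute_four {g e : G} (hg : g ∈ C.cen) (he : e ∈ C.four) : Commute g e :=
  (Subgroup.mem_centralizer_iff.1 hg e he).symm

/-- the four-group inside its centraliser -/
abbrev fourIn : Subgroup C.cen := C.four.subgroupOf C.cen

theorem fourIn_le_center : fourIn C ≤ Subgroup.center C.cen := fun n hn =>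
  Subgroup.mem_center_iff.2 fun g => Subtype.ext (commute_four C g.2 hn).eq

instance fourIn_normal : (fourIn C).Normal :=
  ⟨fun n hn g => by
    rw [Subgroup.mem_center_iff.1 (fourIn_le_center C hn) g, mul_inv_cancel_right]
    exact hn⟩

/-- the quotient group -/
abbrev X : Type u := C.cen ⧸ fourIn C

/-- the projection -/
abbrev π : C.cen →* X C := QuotientGroup.mk' (fourIn C)

/-- the image of `z` -/
def zb : X C := π C ⟨z, C.z_mem_cen⟩

theorem π_surj : Function.Surjective (π C) := QuotientGroup.mk'_surjective _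

theorem π_eq_iff {a b : C.cen} : π C a = π C b ↔ ∃ e ∈ C.four, (a : G) * e = b := by
  refine (QuotientGroup.mk'_eq_mk' (fourIn C)).trans ⟨?_, ?_⟩
  · rintro ⟨n, hn, h⟩
    exact ⟨n, hn, congrArg Subtype.val h⟩
  · rintro ⟨e, he, h⟩
    exact ⟨⟨e, four_le_cen C he⟩, he, Subtype.ext h⟩

theorem π_eq_one {a : C.cen} : π C a = 1 ↔ (a : G) ∈ C.four := QuotientGroup.eq_one_iff a

theorem z_mem_dset : z ∈ C.dset := ⟨1, one_mem _, by group⟩

theorem conj_dset {u g : G} (hu : u ∈ C.dset) (hg : g ∈ C.cen) : g * u * g⁻¹ ∈ C.dset := by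
  obtain ⟨h, hh, rfl⟩ := hu
  exact ⟨g * h, mul_mem hg hh, by group⟩

theorem dset_cen {u : G} (hu : u ∈ C.dset) : u ∈ C.cen := by
  obtain ⟨h, hh, rfl⟩ := hu
  exact mul_mem (mul_mem hh C.z_mem_cen) (inv_mem hh)

variable {C}

theorem isConj_zb {q : X C} :
    IsConj (zb C) q ↔ ∃ u : C.cen, (u : G) ∈ C.dset ∧ π C u = q := by
  constructor
  · intro h
    obtain ⟨g, rfl⟩ := isConj_iff.1 h
    obtain ⟨g, rfl⟩ := π_surj C g
    exact ⟨g * ⟨z, C.z_mem_cen⟩ * g⁻¹, ⟨g, g.2, rfl⟩, by simp [zb]⟩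
  · rintro ⟨u, ⟨g, hg, hu⟩, rfl⟩
    refine isConj_iff.2 ⟨π C ⟨g, hg⟩, ?_⟩
    rw [zb, ← map_inv, ← map_mul, ← map_mul]
    exact congrArg _ (Subtype.ext hu)

variable {pt : G → Fin 45}

theorem lift_inj (h : C.GLoc pt) {a b : C.cen} (ha : (a : G) ∈ C.dset) (hb : (b : G) ∈ C.dset)
    (e : π C a = π C b) : a = b := by
  obtain ⟨n, hn, h'⟩ := (π_eq_iff C).1 e
  have h1 : n = 1 := h.unique a ha n hn (h'.symm ▸ hb)
  rw [h1, mul_one] at h'
  exact Subtype.ext h'

theorem commute_π (h : C.GLoc pt) {a b : C.cen} (hb : (b : G) ∈ C.dset) :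
    Commute (π C a) (π C b) ↔ Commute (a : G) (b : G) := by
  refine ⟨fun hc => ?_, fun hc => Commute.map (Subtype.ext hc.eq : a * b = b * a) _⟩
  have h1 : π C (a * b * a⁻¹) = π C b := by
    rw [map_mul, map_mul, map_inv, hc.eq, mul_inv_cancel_right]
  have h2 := lift_inj h (a := a * b * a⁻¹) (conj_dset C hb a.2) hb h1
  exact mul_inv_eq_iff_eq_mul.1 (congrArg Subtype.val h2)

open Classical in
/-- the point of a class member -/
noncomputable def ptb (C : U6Ctx z Q) (pt : G → Fin 45) (q : X C) : Fin 45 :=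
  if hq : ∃ u : C.cen, (u : G) ∈ C.dset ∧ π C u = q then pt hq.choose else 0

theorem ptb_π (h : C.GLoc pt) {a : C.cen} (ha : (a : G) ∈ C.dset) :
    ptb C pt (π C a) = pt a := by
  have hq : ∃ u : C.cen, (u : G) ∈ C.dset ∧ π C u = π C a := ⟨a, ha, rfl⟩
  rw [ptb, dif_pos hq, lift_inj h hq.choose_spec.1 ha hq.choose_spec.2]

theorem mem_perp (h : C.GLoc pt) {q : X C} :
    q ∈ H16.U6.Perp (zb C) ↔ ∃ u : C.cen, (u : G) ∈ C.gperp ∧ π C u = q := by
  constructor
  · rintro ⟨h1, h2, h3⟩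
    obtain ⟨u, hu, rfl⟩ := isConj_zb.1 h1
    exact ⟨u, ⟨hu, fun e => h2 (congrArg (π C) (Subtype.ext e)),
      (commute_π h (b := ⟨z, C.z_mem_cen⟩) (z_mem_dset C)).1 h3⟩, rfl⟩
  · rintro ⟨u, ⟨hu, hne, hc⟩, rfl⟩
    exact ⟨isConj_zb.2 ⟨u, hu, rfl⟩,
      fun e => hne (congrArg Subtype.val (lift_inj h hu (z_mem_dset C) e)),
      (commute_π h (b := ⟨z, C.z_mem_cen⟩) (z_mem_dset C)).2 hc⟩

theorem card_four (C : U6Ctx z Q) : Nat.card C.four = 4 := by
  have h0 : ∀ x : Subgroup.centralizer ({z} : Set G), x ∈ Q → C.D.Φ x ≠ 0 → (x : G) ≠ 1 :=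
    fun x hx hne e => hne ((C.D.eq_zero x hx).2 (Or.inl e))
  obtain ⟨-, -, -, -, hv, -⟩ := v2_facts
  have he : (C.e : G) ≠ 1 := h0 _ C.he (by rw [C.e_img]; exact hv)
  have hf : (C.f : G) ≠ 1 := h0 _ C.hf' (by rw [C.f_img]; decide)
  have hef : (C.e : G) * C.f ≠ 1 := h0 (C.e * C.f) (mul_mem C.he C.hf') (by rw [C.Phi_e_f]; decide)
  have hne : (C.e : G) ≠ C.f := fun e => by
    have := congrArg C.D.Φ (Subtype.ext e : C.e = C.f)
    rw [C.e_img, C.f_img] at this
    exact absurd this (by decide)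
  classical
  have hs : (C.four : Set G) = ↑({1, (C.e : G), (C.f : G), (C.e : G) * C.f} : Finset G) := by
    ext x
    rw [SetLike.mem_coe, C.mem_four]
    simp
  rw [← SetLike.coe_sort_coe, hs]
  simp [he.symm, hf.symm, hef.symm, hne, he, hf]

theorem card_fourIn (C : U6Ctx z Q) : Nat.card (fourIn C) = 4 := by
  rw [Nat.card_congr (Subgroup.subgroupOfEquivOfLe (four_le_cen C)).toEquiv, card_four]

theorem comap_centralizer (h : C.GLoc pt) :
    (Subgroup.centralizer ({zb C} : Set (X C))).comap (π C) =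
      (C.cen ⊓ Subgroup.centralizer ({z} : Set G)).subgroupOf C.cen := by
  ext g
  rw [Subgroup.mem_comap, Subgroup.mem_subgroupOf, Subgroup.mem_inf,
    Subgroup.mem_centralizer_singleton_iff, Subgroup.mem_centralizer_singleton_iff, and_iff_right g.2]
  exact commute_π h (a := g) (b := ⟨z, C.z_mem_cen⟩) (z_mem_dset C)

theorem card_centralizer (h : C.GLoc pt) :
    Nat.card (Subgroup.centralizer ({zb C} : Set (X C))) = 2 ^ 9 * 25920 := by
  set S := Subgroup.centralizer ({zb C} : Set (X C))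
  have h1 := (S.comap (π C)).card_mul_index
  rw [Subgroup.index_comap_of_surjective _ (π_surj C),
    Subgroup.card_eq_card_quotient_mul_card_subgroup (fourIn C), ← S.card_mul_index, card_fourIn,
    comap_centralizer h,
    Nat.card_congr (Subgroup.subgroupOfEquivOfLe (inf_le_left : C.cen ⊓ _ ≤ C.cen)).toEquiv,
    h.card_local] at h1
  have h2 : 2 ^ 11 * 25920 = Nat.card S * 4 :=
    Nat.eq_of_mul_eq_mul_right (Nat.pos_of_ne_zero S.index_ne_zero_of_finite)
      (h1.trans (by ring))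
  omega

theorem closure_perp (h : C.GLoc pt) :
    Subgroup.closure (H16.U6.Perp (zb C)) = Subgroup.centralizer ({zb C} : Set (X C)) := by
  refine le_antisymm ((Subgroup.closure_le _).2 fun q hq => ?_) ?_
  · exact Subgroup.mem_centralizer_singleton_iff.2 hq.2.2.eq
  intro q hq
  obtain ⟨g, rfl⟩ := π_surj C q
  have hg : (g : G) ∈ C.cen ⊓ Subgroup.centralizer ({z} : Set G) := by
    have : g ∈ (Subgroup.centralizer ({zb C} : Set (X C))).comap (π C) := hq
    rwa [comap_centralizer h, Subgroup.mem_subgroupOf] at this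
  have hle : Subgroup.closure C.gperp ⊔ C.four ≤
      ((Subgroup.closure (H16.U6.Perp (zb C))).comap (π C)).map C.cen.subtype := by
    refine sup_le ((Subgroup.closure_le _).2 fun u hu => ⟨⟨u, dset_cen C hu.1⟩, ?_, rfl⟩)
      fun u hu => ⟨⟨u, four_le_cen C hu⟩, ?_, rfl⟩
    · exact Subgroup.subset_closure ((mem_perp h).2 ⟨_, hu, rfl⟩)
    · show π C _ ∈ Subgroup.closure _
      rw [(π_eq_one C).2 hu]
      exact one_mem _
  obtain ⟨g', hg', e⟩ := hle (h.generated hg)
  exact (Subtype.ext e : g' = g) ▸ hg'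

theorem zb_sq : zb C * zb C = 1 := by
  have hz : (⟨z, C.z_mem_cen⟩ : C.cen) * ⟨z, C.z_mem_cen⟩ = 1 := Subtype.ext (by
    have := pow_orderOf_eq_one z
    rwa [C.hz, pow_two] at this)
  rw [zb, ← map_mul, hz, map_one]

/-- the local data in the quotient -/
theorem loc (h : C.GLoc pt) : H16.U6.Loc (zb C) (ptb C pt) := by
  have hp : ∀ {u : C.cen}, (u : G) ∈ C.gperp → π C u ∈ H16.U6.Perp (zb C) ∧
      ptb C pt (π C u) = pt u := fun hu => ⟨(mem_perp h).2 ⟨_, hu, rfl⟩, ptb_π h hu.1⟩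
  refine ⟨zb_sq, fun e => h.z_not_four ((π_eq_one C).1 e), fun p => ?_, fun p => ?_, ?_, ?_, ?_,
    ?_, ?_, card_centralizer h, closure_perp h⟩
  · obtain ⟨u, hu, rfl⟩ := h.surj p
    exact ⟨π C ⟨u, dset_cen C hu.1⟩, hp hu⟩
  · have hS : {x ∈ H16.U6.Perp (zb C) | ptb C pt x = p} =
        π C '' {u : C.cen | (u : G) ∈ C.gperp ∧ pt u = p} := by
      ext q
      simp only [Set.mem_setOf_eq, Set.mem_image, mem_perp h]
      constructor
      · rintro ⟨⟨u, hu, rfl⟩, e⟩
        exact ⟨u, ⟨hu, (hp hu).2.symm.trans e⟩, rfl⟩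
      · rintro ⟨u, ⟨hu, e⟩, rfl⟩
        exact ⟨⟨u, hu, rfl⟩, (hp hu).2.trans e⟩
    rw [hS, Set.InjOn.ncard_image fun a ha b hb e => lift_inj h ha.1.1 hb.1.1 e,
      ← h.card_fibre p, ← Set.ncard_image_of_injective _ C.cen.subtype_injective]
    congr 1
    ext v
    constructor
    · rintro ⟨u, hu, rfl⟩
      exact hu
    · exact fun hv => ⟨⟨v, dset_cen C hv.1.1⟩, hv, rfl⟩
  · intro x hx y hy
    obtain ⟨a, ha, rfl⟩ := (mem_perp h).1 hx
    obtain ⟨b, hb, rfl⟩ := (mem_perp h).1 hy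
    rw [commute_π h hb.1, (hp ha).2, (hp hb).2]
    exact h.commute_iff a ha b hb
  · intro x hx y hy hc
    obtain ⟨a, ha, rfl⟩ := (mem_perp h).1 hx
    obtain ⟨b, hb, rfl⟩ := (mem_perp h).1 hy
    rw [commute_π h hb.1] at hc
    rw [← map_mul, ← map_pow]
    exact (π_eq_one C).2 (h.braid a ha b hb hc)
  · intro a ha b hb c hc d hd nab nac nad nbc nbd ncd pab pac pad
    obtain ⟨a, ha', rfl⟩ := (mem_perp h).1 ha
    obtain ⟨b, hb', rfl⟩ := (mem_perp h).1 hb
    obtain ⟨c, hc', rfl⟩ := (mem_perp h).1 hc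
    obtain ⟨d, hd', rfl⟩ := (mem_perp h).1 hd
    have ne : ∀ {u v : C.cen}, π C u ≠ π C v → (u : G) ≠ v :=
      fun huv e => huv (congrArg _ (Subtype.ext e))
    rw [(hp ha').2, (hp hb').2] at pab
    rw [(hp ha').2, (hp hc').2] at pac
    rw [(hp ha').2, (hp hd').2] at pad
    obtain ⟨e', he', e⟩ := h.five a ha' b hb' c hc' d hd' (ne nab) (ne nac) (ne nad) (ne nbc)
      (ne nbd) (ne ncd) pab pac pad
    rw [← map_mul, ← map_mul, ← map_mul, zb]
    exact ((π_eq_iff C).2 ⟨e', he', e.symm⟩).symm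
  · intro x hx y hy hne hpt g hg
    obtain ⟨a, ha, rfl⟩ := (mem_perp h).1 hx
    obtain ⟨b, hb, rfl⟩ := (mem_perp h).1 hy
    obtain ⟨g, rfl⟩ := π_surj C g
    rw [zb, ← map_inv, ← map_mul, ← map_mul] at hg
    have h1 : (g : G) * z * (g : G)⁻¹ = a :=
      congrArg Subtype.val (lift_inj h (conj_dset C (z_mem_dset C) g.2) ha.1 hg)
    rw [(hp ha).2, (hp hb).2] at hpt
    have key := h.line_symm a ha b hb (fun e => hne (congrArg _ (Subtype.ext e))) hpt g g.2 h1
    have hcj : ∀ {u : C.cen}, (u : G) ∈ C.dset →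
        ptb C pt ((π C g)⁻¹ * π C u * π C g) = pt ((g : G)⁻¹ * u * g) := by
      intro u hu
      rw [← map_inv, ← map_mul, ← map_mul]
      refine ptb_π h (a := g⁻¹ * u * g) ?_
      have := conj_dset C hu (inv_mem g.2)
      rwa [inv_inv] at this
    rw [zb, hcj (u := ⟨z, C.z_mem_cen⟩) (z_mem_dset C), hcj hb.1]
    exact key
  · intro x hx y hy hadj
    obtain ⟨a, ha, rfl⟩ := (mem_perp h).1 hx
    obtain ⟨b, hb, rfl⟩ := (mem_perp h).1 hy
    rw [(hp ha).2, (hp hb).2] at hadj
    constructor <;> intro hcj <;> obtain ⟨w, hw, e⟩ := isConj_zb.1 hcj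
    · rw [← map_mul] at e
      obtain ⟨n, hn, e'⟩ := (π_eq_iff C).1 e
      refine (h.mul_not a ha b hb hadj n⁻¹ (inv_mem hn)).1 ?_
      rw [show (a : G) * b * n⁻¹ = w by
        rw [show (a : G) * b = w * n from e'.symm, mul_inv_cancel_right]]
      exact hw
    · rw [zb, ← map_mul, ← map_mul] at e
      obtain ⟨n, hn, e'⟩ := (π_eq_iff C).1 e
      refine (h.mul_not a ha b hb hadj n⁻¹ (inv_mem hn)).2 ?_
      rw [show (a : G) * b * z * n⁻¹ = w by
        rw [show (a : G) * b * z = w * n from e'.symm, mul_inv_cancel_right]]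
      exact hw

/-- the quotient is simple and is the unitary group -/
theorem quotient_facts (h : C.GLoc pt) : IsSimpleGroup (X C) ∧
    ∃ (F : Type) (_ : Field F) (_ : Fintype F),
      Fintype.card F = 4 ∧ Nonempty (X C ≃* Cfsg.PSU 6 F 2) :=
  H24.U6.recognition (loc h)

theorem not_comm (h : C.GLoc pt) [IsSimpleGroup (X C)] : ¬ ∀ a b : X C, a * b = b * a := by
  intro hab
  obtain ⟨a, ha, -⟩ := (loc h).surj 0
  obtain ⟨g, hg⟩ := isConj_iff.1 ha.1
  rw [hab g, mul_inv_cancel_right] at hg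
  exact ha.2.1 hg.symm

/-- the centraliser is quasisimple -/
theorem quasisimple (h : C.GLoc pt) :
    Cfsg.IsQuasisimple C.cen ∧ Subgroup.center C.cen = fourIn C := by
  haveI := (quotient_facts h).1
  have hne := not_comm h
  have hcomm : commutator (X C) = ⊤ := by
    rcases (inferInstance : (commutator (X C)).Normal).eq_bot_or_eq_top with e | e
    · exfalso
      refine hne fun a b => ?_
      have := Subgroup.commutator_mem_commutator (Subgroup.mem_top a) (Subgroup.mem_top b)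
      rw [← commutator_def, e, Subgroup.mem_bot, commutatorElement_eq_one_iff_mul_comm] at this
      exact this
    · exact e
  have hfour : fourIn C ≤ commutator C.cen := by
    intro n hn
    have h1 := h.four_le_derived hn
    rw [← C.cen.map_subtype_commutator] at h1
    obtain ⟨m, hm, e⟩ := h1
    exact (Subtype.ext e : m = n) ▸ hm
  have hperf : commutator C.cen = ⊤ := by
    have hmap : (commutator C.cen).map (π C) = ⊤ := by
      rw [commutator_def, Subgroup.map_commutator, Subgroup.map_top_of_surjective _ (π_surj C),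
        ← commutator_def, hcomm]
    have := Subgroup.comap_map_eq (π C) (commutator C.cen)
    rw [hmap, Subgroup.comap_top, QuotientGroup.ker_mk', sup_eq_left.2 hfour] at this
    exact this.symm
  have hcenter : Subgroup.center C.cen = fourIn C := by
    refine le_antisymm (fun c hc => ?_) (fourIn_le_center C)
    have hN : ((Subgroup.center C.cen).map (π C)).Normal :=
      Subgroup.Normal.map inferInstance _ (π_surj C)
    rcases hN.eq_bot_or_eq_top with e | e
    · refine (π_eq_one C).1 (Subgroup.mem_bot.1 ?_)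
      rw [← e]
      exact Subgroup.mem_map_of_mem _ hc
    · exfalso
      refine hne fun a b => ?_
      obtain ⟨a', ha', rfl⟩ : a ∈ (Subgroup.center C.cen).map (π C) := e ▸ Subgroup.mem_top a
      obtain ⟨b, rfl⟩ := π_surj C b
      rw [← map_mul, ← map_mul, Subgroup.mem_center_iff.1 ha' b]
  refine ⟨⟨⟨hperf⟩, ?_⟩, hcenter⟩
  exact (QuotientGroup.quotientMulEquivOfEq hcenter).isSimpleGroup

theorem up_eq (Q : Subgroup (Subgroup.centralizer ({z} : Set G))) :
    up Q = Q.map (Subgroup.centralizer ({z} : Set G)).subtype := rfl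

/-- the statement from the local data -/
theorem result_of_gloc (h : C.GLoc pt) :
    ∃ E : Subgroup G, E ≤ (Q.map (Subgroup.centralizer ({z} : Set G)).subtype) ∧
      Cfsg.IsElementaryAbelian 2 E ∧ Nat.card E = 4 ∧ z ∉ E ∧
      (∃ t ∈ E, orderOf t = 2 ∧ ¬ IsConj z t) ∧
      Cfsg.IsQuasisimple ↥(Subgroup.centralizer (E : Set G)) ∧
      ∃ (_ : (E.subgroupOf (Subgroup.centralizer (E : Set G))).Normal) (K : Type) (_ : Field K)
        (_ : Fintype K), Fintype.card K = 4 ∧
        Nonempty (↥(Subgroup.centralizer (E : Set G)) ⧸ E.subgroupOf (Subgroup.centralizer (E : Set G))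
          ≃* Cfsg.PSU 6 K 2) := by
  obtain ⟨-, F, iF, iF', hF, hiso⟩ := quotient_facts h
  refine ⟨C.four, C.four_le_Q, ⟨⟨⟨fun a b => ?_⟩⟩, fun a ha => ?_⟩, card_four C, h.z_not_four,
    ⟨C.e, C.mem_four.2 (Or.inr (Or.inl rfl)), ?_, ?_⟩, (quasisimple h).1, fourIn_normal C,
    F, iF, iF', hF, hiso⟩
  · exact Subtype.ext (commute_four C (four_le_cen C a.2) b.2).eq
  · obtain ⟨ee, ff⟩ := C.ef_sq
    have hc := C.commute_ef.eq
    rw [pow_two]
    rcases C.mem_four.1 ha with rfl | rfl | rfl | rfl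
    · exact one_mul _
    · exact ee
    · exact ff
    · rw [mul_assoc, ← mul_assoc (C.f : G), ← hc, mul_assoc, ff, mul_one, ee]
  · refine orderOf_eq_prime (by rw [pow_two]; exact C.ef_sq.1) fun e => ?_
    have := (C.D.eq_zero _ C.he).2 (Or.inl e)
    rw [C.e_img] at this
    exact v2_facts.2.2.2.2.1 this
  · intro hc
    have he : (C.e : G) ≠ z := fun e => h.z_not_four (C.mem_four.2 (Or.inr (Or.inl e.symm)))
    have := (isConj_iff_lab C.hF C.D C.he he).1 hc
    rw [C.e_img, v2_facts.1] at this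
    omega

end H75.U6Quot
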