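import Cfsg.Agent.S1952
import Cfsg.Agent.H5.Tate
import Cfsg.Agent.H6.Basic
import Cfsg.Agent.H70.Conj

/-!
Yoshida's transfer theorem.
-/

set_option autoImplicit false

namespace H75

open Subgroup MulAction
open scoped commutatorElement

variable {G A : Type*} [Group G] [CommGroup A] {p : ℕ}

/-- The value at the coset of `x` of a class function on `K`, evaluated at `v`. -/
noncomputable def fixVal {K : Subgroup G} (φ : K →* A) (v x : G) : A := by
  classical exact if h : x⁻¹ * v * x ∈ K then φ ⟨_, h⟩ else 1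

theorem fixVal_of_mem {K : Subgroup G} (φ : K →* A) {v x : G} (h : x⁻¹ * v * x ∈ K) :
    fixVal φ v x = φ ⟨_, h⟩ := by rw [fixVal, dif_pos h]

theorem fixVal_of_not_mem {K : Subgroup G} (φ : K →* A) {v x : G} (h : ¬ x⁻¹ * v * x ∈ K) :
    fixVal φ v x = 1 := by rw [fixVal, dif_neg h]

theorem fixVal_mul_mem {K : Subgroup G} (φ : K →* A) (v x : G) {k : G} (hk : k ∈ K) :
    fixVal φ v (x * k) = fixVal φ v x := by
  have e : (x * k)⁻¹ * v * (x * k) = k⁻¹ * (x⁻¹ * v * x) * k := by group
  by_cases h : x⁻¹ * v * x ∈ K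
  · have h' : (x * k)⁻¹ * v * (x * k) ∈ K := e ▸ mul_mem (mul_mem (inv_mem hk) h) hk
    rw [fixVal_of_mem φ h, fixVal_of_mem φ h',
      show (⟨_, h'⟩ : K) = ⟨k, hk⟩⁻¹ * ⟨_, h⟩ * ⟨k, hk⟩ from Subtype.ext e, map_mul, map_mul, map_inv,
      mul_comm (φ ⟨k, hk⟩)⁻¹, inv_mul_cancel_right]
  · rw [fixVal_of_not_mem φ h, fixVal_of_not_mem φ fun h' => h ?_]
    have h2 : k * (k⁻¹ * (x⁻¹ * v * x) * k) * k⁻¹ ∈ K := mul_mem (mul_mem hk (e ▸ h')) (inv_mem hk)
    simpa [mul_assoc] using h2

theorem fixVal_congr {K : Subgroup G} (φ : K →* A) (v : G) {x y : G}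
    (h : (x : G ⧸ K) = y) : fixVal φ v x = fixVal φ v y := by
  have h' : x⁻¹ * y ∈ K := QuotientGroup.eq.mp h
  rw [show y = x * (x⁻¹ * y) by group, fixVal_mul_mem φ v x h']

/-- The transfer at `v` is the product over the fixed cosets, when the proper powers are killed. -/
theorem transfer_eq_fixed [Finite G] {K : Subgroup G} [Fintype (G ⧸ K)] (φ : K →* A) (v : G)
    (hv : ∀ (k : ℕ) (x : G), 1 < k → k ∣ orderOf v → ∀ h : x⁻¹ * v ^ k * x ∈ K, φ ⟨_, h⟩ = 1) :
    MonoidHom.transfer φ v = ∏ q : G ⧸ K, fixVal φ v q.out := by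
  classical
  have : Fintype (Quotient (orbitRel (zpowers v) (G ⧸ K))) := Fintype.ofFinite _
  rw [MonoidHom.transfer_eq_prod_quotient_orbitRel_zpowers_quot]
  rw [← Fintype.prod_fiberwise (Quotient.mk (orbitRel (zpowers v) (G ⧸ K)))
    (fun q : G ⧸ K => fixVal φ v q.out)]
  refine Fintype.prod_congr _ _ fun q => ?_
  have hmk : ∀ y : G ⧸ K, fixVal φ v y.out ≠ 1 → v • y = y := by
    intro y hy
    by_cases h : y.out⁻¹ * v * y.out ∈ K
    · conv_rhs => rw [← QuotientGroup.out_eq' y]
      rw [← QuotientGroup.out_eq' y, MulAction.Quotient.smul_mk, QuotientGroup.eq]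
      have := inv_mem h
      simpa [mul_assoc] using this
    · exact absurd (fixVal_of_not_mem φ h) hy
  have horbit : ∀ y : G ⧸ K, v • y = y → ∀ z : G ⧸ K,
      Quotient.mk (orbitRel (zpowers v) (G ⧸ K)) z = Quotient.mk _ y → z = y := by
    intro y hy z hz
    obtain ⟨⟨_, i, rfl⟩, hi⟩ := orbitRel_apply.mp (Quotient.exact hz)
    rw [← hi]
    exact (MulAction.stabilizer G y).zpow_mem (show v ∈ MulAction.stabilizer G y from hy) i
  set y0 := q.out
  have hq : Quotient.mk (orbitRel (zpowers v) (G ⧸ K)) y0 = q := Quotient.out_eq q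
  have hper : Function.minimalPeriod (v • ·) y0 ∣ orderOf v := by
    refine Function.IsPeriodicPt.minimalPeriod_dvd ?_
    show (v • ·)^[orderOf v] y0 = y0
    rw [smul_iterate, pow_orderOf_eq_one]
    exact one_smul G y0
  by_cases h1 : v • y0 = y0
  · have hk : Function.minimalPeriod (v • ·) y0 = 1 :=
      Function.minimalPeriod_eq_one_iff_isFixedPt.mpr h1
    rw [Fintype.prod_eq_single (⟨y0, hq⟩ : {y // Quotient.mk _ y = q}) fun z hz => absurd
      (Subtype.ext (horbit y0 h1 z.1 (z.2.trans hq.symm))) hz]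
    have hmem : y0.out⁻¹ * v * y0.out ∈ K := by
      have := QuotientGroup.out_conj_pow_minimalPeriod_mem K v y0
      rwa [hk, pow_one] at this
    rw [fixVal_of_mem φ hmem]
    congr 1
    refine Subtype.ext ?_
    show y0.out⁻¹ * v ^ Function.minimalPeriod (v • ·) y0 * y0.out = y0.out⁻¹ * v * y0.out
    rw [hk, pow_one]
  · have hk : 1 < Function.minimalPeriod (v • ·) y0 := by
      have h2 : 0 < Function.minimalPeriod (v • ·) y0 :=
        Nat.pos_of_dvd_of_pos hper (orderOf_pos v)
      have h3 : Function.minimalPeriod (v • ·) y0 ≠ 1 :=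
        fun e => h1 (Function.minimalPeriod_eq_one_iff_isFixedPt.mp e)
      omega
    rw [Finset.prod_eq_one fun z _ => ?_]
    · exact hv _ _ hk hper _
    by_contra hne
    have h4 := hmk z.1 hne
    refine h1 ?_
    rw [horbit z.1 h4 y0 (hq.trans z.2.symm)]
    exact h4

/-- `Z_p ≀ Z_p` is a homomorphic image. -/
def HasWreathImage (p : ℕ) (P : Type*) [Group P] : Prop :=
  ∃ (W : Sylow p (Equiv.Perm (Fin (p ^ 2)))) (f : P →* ↥(W : Subgroup (Equiv.Perm (Fin (p ^ 2))))),
    Function.Surjective f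

/-- Without wreath images the norm from a maximal subgroup is killed by elementary characters. -/
theorem norm_eq_one {P : Type*} [Group P] [Finite P] [hp : Fact p.Prime] (hP : IsPGroup p P)
    (hW : ¬ HasWreathImage p P) {R : Subgroup P} [R.Normal] [Fintype (P ⧸ R)] (hR : R.index = p)
    (τ : R →* A) (hA : ∀ a : A, a ^ p = 1) {u : P} (hu : u ∈ R) :
    ∏ a : P ⧸ R, τ ⟨a.out⁻¹ * u * a.out, (inferInstance : R.Normal).conj_mem' u hu a.out⟩ = 1 := by
  classical
  set K := (τ.ker.map R.subtype).normalCore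
  have hKmem : ∀ r : P, (∀ s : P, ∃ h : s * r * s⁻¹ ∈ R, τ ⟨_, h⟩ = 1) → r ∈ K := fun r h s => by
    obtain ⟨hs, hs'⟩ := h s
    exact ⟨⟨_, hs⟩, hs', rfl⟩
  set q := QuotientGroup.mk' K
  have hel : Cfsg.IsElementaryAbelian p (R.map q) := by
    refine ⟨le_centralizer_iff_isMulCommutative.mp ?_, ?_⟩
    · rw [← commutator_eq_bot_iff_le_centralizer, ← Subgroup.map_commutator, Subgroup.map_eq_bot_iff,
        QuotientGroup.ker_mk', commutator_le]
      intro a ha b hb
      refine hKmem _ fun s => ?_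
      rw [conjugate_commutatorElement]
      have h1 := (inferInstance : R.Normal).conj_mem a ha s
      have h2 := (inferInstance : R.Normal).conj_mem b hb s
      have hc : ⁅s * a * s⁻¹, s * b * s⁻¹⁆ ∈ R := by
        rw [commutatorElement_def]
        exact mul_mem (mul_mem (mul_mem h1 h2) (inv_mem h1)) (inv_mem h2)
      refine ⟨hc, ?_⟩
      rw [show (⟨⁅s * a * s⁻¹, s * b * s⁻¹⁆, hc⟩ : R) =
        ⁅(⟨_, h1⟩ : R), ⟨_, h2⟩⁆ from Subtype.ext rfl, map_commutatorElement,
        commutatorElement_eq_one_iff_commute]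
      exact Commute.all _ _
    · rintro _ ⟨a, ha, rfl⟩
      rw [← map_pow]
      refine (QuotientGroup.eq_one_iff _).mpr (hKmem _ fun s => ?_)
      have h1 := (inferInstance : R.Normal).conj_mem a ha s
      rw [← conj_pow]
      refine ⟨pow_mem h1 p, ?_⟩
      rw [show (⟨(s * a * s⁻¹) ^ p, pow_mem h1 p⟩ : R) = ⟨_, h1⟩ ^ p from Subtype.ext rfl, map_pow]
      exact hA _
  have hKR : K ≤ R := (normalCore_le _).trans (map_subtype_le _)
  have hn : (R.map q).Normal := Normal.map inferInstance q (QuotientGroup.mk'_surjective K)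
  have hidx : (R.map q).index = p := by
    rw [index_map, QuotientGroup.ker_mk', sup_eq_left.mpr hKR,
      MonoidHom.range_eq_top.mpr (QuotientGroup.mk'_surjective K), index_top, mul_one, hR]
  obtain ⟨y, hy⟩ : ∃ y : P, y ∉ R := by
    by_contra h
    push Not at h
    have : R = ⊤ := eq_top_iff.mpr fun x _ => h x
    rw [this, index_top] at hR
    exact hp.out.ne_one hR.symm
  have hy' : q y ∉ R.map q := by
    rintro ⟨r, hr, he⟩
    refine hy ?_
    have : r⁻¹ * y ∈ K := by
      rw [← QuotientGroup.eq]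
      exact he
    simpa using mul_mem hr (hKR this)
  have hmemK : ((List.range p).map fun i => (y ^ i)⁻¹ * u * y ^ i).prod ∈ K := by
    by_contra hne
    refine hW ?_
    obtain ⟨W, f, hf⟩ := Cfsg.Agent.S1952.result (hP.to_quotient K) (R.map q) hel hidx (q u) (q y)
      (mem_map_of_mem q hu) hy' (by
        rw [show ((List.range p).map fun i => (q y ^ i)⁻¹ * q u * q y ^ i).prod =
            q ((List.range p).map fun i => (y ^ i)⁻¹ * u * y ^ i).prod by
          rw [map_list_prod, List.map_map]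
          congr 1]
        exact fun e => hne ((QuotientGroup.eq_one_iff _).mp e))
    exact ⟨W, f.comp q, hf.comp (QuotientGroup.mk'_surjective K)⟩
  -- the powers of `y` are representatives
  have hcard : Fintype.card (P ⧸ R) = p := by rw [← Nat.card_eq_fintype_card, ← index_eq_card, hR]
  have hord : orderOf (y : P ⧸ R) = p := by
    refine orderOf_eq_prime ?_ fun e => hy ((QuotientGroup.eq_one_iff y).mp e)
    conv_lhs => rw [← hcard]
    exact pow_card_eq_one
  have hbij : Function.Bijective (fun i : Fin p => ((y ^ (i : ℕ) : P) : P ⧸ R)) := by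
    refine (Fintype.bijective_iff_injective_and_card _).mpr ⟨fun i j hij => ?_, by simp [hcard]⟩
    simp only [QuotientGroup.mk_pow] at hij
    exact Fin.ext (pow_injOn_Iio_orderOf (by simp [hord, i.2]) (by simp [hord, j.2]) hij)
  have hterm : ∀ a b : P, (a : P ⧸ R) = b →
      τ ⟨a⁻¹ * u * a, (inferInstance : R.Normal).conj_mem' u hu a⟩ =
        τ ⟨b⁻¹ * u * b, (inferInstance : R.Normal).conj_mem' u hu b⟩ := by
    intro a b hab
    have hr : a⁻¹ * b ∈ R := QuotientGroup.eq.mp hab
    rw [show (⟨b⁻¹ * u * b, (inferInstance : R.Normal).conj_mem' u hu b⟩ : R) = ⟨_, hr⟩⁻¹ *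
      ⟨a⁻¹ * u * a, (inferInstance : R.Normal).conj_mem' u hu a⟩ * ⟨_, hr⟩ from
        Subtype.ext (show b⁻¹ * u * b = (a⁻¹ * b)⁻¹ * (a⁻¹ * u * a) * (a⁻¹ * b) by group),
      map_mul, map_mul, map_inv, mul_comm (τ ⟨_, hr⟩)⁻¹, inv_mul_cancel_right]
  rw [← hbij.prod_comp]
  rw [Fintype.prod_congr _ (fun i : Fin p =>
      τ ⟨(y ^ (i : ℕ))⁻¹ * u * y ^ (i : ℕ), (inferInstance : R.Normal).conj_mem' u hu _⟩)
    fun i => hterm _ _ (QuotientGroup.out_eq' _)]
  have hprod : ∀ n : ℕ, ∃ h : ((List.range n).map fun i => (y ^ i)⁻¹ * u * y ^ i).prod ∈ R,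
      τ ⟨_, h⟩ = ∏ i : Fin n,
        τ ⟨(y ^ (i : ℕ))⁻¹ * u * y ^ (i : ℕ), (inferInstance : R.Normal).conj_mem' u hu _⟩ := by
    intro n
    induction n with
    | zero =>
      refine ⟨by simp, ?_⟩
      simp only [Finset.univ_eq_empty, Finset.prod_empty]
      rw [← map_one τ]
      exact congrArg τ (Subtype.ext (by simp))
    | succ n ih =>
      obtain ⟨h, he⟩ := ih
      have e : ((List.range (n + 1)).map fun i => (y ^ i)⁻¹ * u * y ^ i).prod =
          ((List.range n).map fun i => (y ^ i)⁻¹ * u * y ^ i).prod * ((y ^ n)⁻¹ * u * y ^ n) := by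
        simp [List.range_succ]
      refine ⟨e ▸ mul_mem h ((inferInstance : R.Normal).conj_mem' u hu _), ?_⟩
      rw [Fin.prod_univ_castSucc]
      simp only [Fin.val_castSucc, Fin.val_last]
      rw [← he, ← map_mul]
      exact congrArg τ (Subtype.ext e)
  obtain ⟨h, he⟩ := hprod p
  rw [← he]
  obtain ⟨r, hr, hre⟩ := normalCore_le _ hmemK
  rw [show (⟨_, h⟩ : R) = r from Subtype.ext hre.symm]
  exact hr

variable [Finite G] [hp : Fact p.Prime]

/-- The product over a non-trivial orbit of `S` on its cosets vanishes. -/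
theorem orbit_prod_eq_one (S : Sylow p G) (hW : ¬ HasWreathImage p ↥(S : Subgroup G))
    (φ : ↥(S : Subgroup G) →* A) (hA : ∀ a : A, a ^ p = 1) {u : ↥(S : Subgroup G)}
    (hmin : ∀ (x : G) (k : ℕ), 1 < k → k ∣ orderOf (u : G) →
      ∀ h : x⁻¹ * (u : G) ^ k * x ∈ (S : Subgroup G), φ ⟨_, h⟩ = 1)
    (x : G ⧸ (S : Subgroup G)) [Fintype (MulAction.orbit (S : Subgroup G) x)]
    (hx : MulAction.stabilizer (S : Subgroup G) x ≠ ⊤) :
    ∏ y : MulAction.orbit (S : Subgroup G) x, fixVal φ (u : G) (y : G ⧸ (S : Subgroup G)).out = 1 := by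
  classical
  set Q := MulAction.stabilizer (S : Subgroup G) x
  obtain ⟨R, hR, hQR⟩ : ∃ R : Subgroup ↥(S : Subgroup G), IsCoatom R ∧ Q ≤ R :=
    (eq_top_or_exists_le_coatom Q).resolve_left hx
  have hRn : R.Normal := H6.normal_of_isCoatom S.isPGroup' hR
  have hRi : R.index = p := H6.index_eq_prime_of_isCoatom S.isPGroup' hR
  have : Fintype (↥(S : Subgroup G) ⧸ Q) := Fintype.ofFinite _
  have : Fintype (↥(S : Subgroup G) ⧸ R) := Fintype.ofFinite _
  have : Fintype (↥R ⧸ Q.subgroupOf R) := Fintype.ofFinite _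
  set o := x.out
  have hox : ∀ s : ↥(S : Subgroup G), s ∈ Q ↔ o⁻¹ * (s : G) * o ∈ (S : Subgroup G) := by
    intro s
    rw [MulAction.mem_stabilizer_iff, ← QuotientGroup.out_eq' x]
    show (((s : G) * o : G) : G ⧸ (S : Subgroup G)) = (o : G ⧸ (S : Subgroup G)) ↔ _
    rw [eq_comm, QuotientGroup.eq, ← mul_assoc]
  have hval : ∀ s : ↥(S : Subgroup G),
      fixVal φ (u : G) ((MulAction.orbitEquivQuotientStabilizer (S : Subgroup G) x).symm s :
        G ⧸ (S : Subgroup G)).out = fixVal φ (u : G) ((s : G) * o) := by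
    intro s
    refine fixVal_congr φ _ ?_
    rw [QuotientGroup.out_eq', MulAction.orbitEquivQuotientStabilizer_symm_apply,
      ← QuotientGroup.out_eq' x]
    rfl
  rw [← (MulAction.orbitEquivQuotientStabilizer (S : Subgroup G) x).symm.prod_comp,
    ← (Subgroup.quotientEquivProdOfLE hQR).symm.prod_comp, Fintype.prod_prod_type]
  let φ' : Q.subgroupOf R →* A :=
    { toFun := fun s => φ ⟨o⁻¹ * ((s : R) : G) * o, (hox _).mp s.2⟩
      map_one' := by
        rw [← map_one φ]; congr 1; exact Subtype.ext (by simp)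
      map_mul' := fun a b => by
        rw [← map_mul]; congr 1; exact Subtype.ext (by simp [mul_assoc]) }
  have hstep : ∀ (a : ↥(S : Subgroup G) ⧸ R) (b : ↥R ⧸ Q.subgroupOf R),
      fixVal φ (u : G) ((MulAction.orbitEquivQuotientStabilizer (S : Subgroup G) x).symm
        ((Subgroup.quotientEquivProdOfLE hQR).symm (a, b)) : G ⧸ (S : Subgroup G)).out =
      fixVal φ (((a.out⁻¹ * u * a.out : ↥(S : Subgroup G)) : G)) (((b.out : R) : G) * o) := by
    intro a b
    conv_lhs => rw [← QuotientGroup.out_eq' b]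
    rw [show (Subgroup.quotientEquivProdOfLE hQR).symm (a, ((b.out : R) : ↥R ⧸ Q.subgroupOf R)) =
      ((a.out * (b.out : R) : ↥(S : Subgroup G)) : ↥(S : Subgroup G) ⧸ Q) from rfl, hval]
    have e : ∀ z : G, z⁻¹ * ((a.out⁻¹ * u * a.out : ↥(S : Subgroup G)) : G) * z =
        ((a.out : G) * z)⁻¹ * (u : G) * ((a.out : G) * z) := fun z => by
      simp [mul_assoc]
    rw [Subgroup.coe_mul, mul_assoc]
    by_cases h : (((b.out : R) : G) * o)⁻¹ * ((a.out⁻¹ * u * a.out : ↥(S : Subgroup G)) : G) *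
        (((b.out : R) : G) * o) ∈ (S : Subgroup G)
    · rw [fixVal_of_mem φ h, fixVal_of_mem φ (e _ ▸ h)]
      exact congrArg φ (Subtype.ext (e _).symm)
    · rw [fixVal_of_not_mem φ h, fixVal_of_not_mem φ (e _ ▸ h)]
  rw [Fintype.prod_congr _ _ fun a => Fintype.prod_congr _ _ fun b => hstep a b]
  by_cases huR : u ∈ R
  · have hconv : ∀ a : ↥(S : Subgroup G) ⧸ R,
        ∏ b : ↥R ⧸ Q.subgroupOf R, fixVal φ (((a.out⁻¹ * u * a.out : ↥(S : Subgroup G)) : G))
            (((b.out : R) : G) * o) =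
          MonoidHom.transfer φ' (⟨a.out⁻¹ * u * a.out, hRn.conj_mem' u huR a.out⟩ : R) := by
      intro a
      set w : R := ⟨a.out⁻¹ * u * a.out, hRn.conj_mem' u huR a.out⟩ with hw
      have hord : orderOf w = orderOf (u : G) := by
        rw [← Subgroup.orderOf_coe, hw, ← orderOf_injective (MulAut.conj a.out).toMonoidHom
          (MulAut.conj a.out).injective, Subgroup.orderOf_coe]
        congr 1
        simp [mul_assoc]
      rw [transfer_eq_fixed φ' w fun k r hk hkw h => ?_]
      · refine Fintype.prod_congr _ _ fun b => ?_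
        have e : o⁻¹ * (((b.out⁻¹ * w * b.out : R) : ↥(S : Subgroup G)) : G) * o =
            (((b.out : R) : G) * o)⁻¹ * ((a.out⁻¹ * u * a.out : ↥(S : Subgroup G)) : G) *
              (((b.out : R) : G) * o) := by simp [hw, mul_assoc]
        by_cases h : b.out⁻¹ * w * b.out ∈ Q.subgroupOf R
        · rw [fixVal_of_mem φ' h, fixVal_of_mem φ (e ▸ (hox _).mp h)]
          exact congrArg φ (Subtype.ext e.symm)
        · rw [fixVal_of_not_mem φ' h, fixVal_of_not_mem φ]
          exact fun h' => h ((hox _).mpr (e ▸ h'))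
      · have e : o⁻¹ * (((r⁻¹ * w ^ k * r : R) : ↥(S : Subgroup G)) : G) * o =
            ((a.out : G) * (r : G) * o)⁻¹ * (u : G) ^ k * ((a.out : G) * (r : G) * o) := by
          have : ((a.out : G)⁻¹ * (u : G) * (a.out : G)) ^ k =
              (a.out : G)⁻¹ * (u : G) ^ k * (a.out : G) := by
            have := conj_pow (i := k) (a := (a.out : G)⁻¹) (b := (u : G))
            simpa using this
          simp [hw, mul_assoc] at this ⊢
          rw [this]
          simp [mul_assoc]
        have h0 := hmin ((a.out : G) * (r : G) * o) k hk (hord ▸ hkw) (e ▸ (hox _).mp h)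
        rw [← h0]
        exact congrArg φ (Subtype.ext e)
    rw [Fintype.prod_congr _ _ hconv]
    exact norm_eq_one S.isPGroup' hW hRi (MonoidHom.transfer φ') hA huR
  · refine Finset.prod_eq_one fun a _ => Finset.prod_eq_one fun b _ => ?_
    refine fixVal_of_not_mem φ fun h => huR ?_
    have h1 : ((b.out : R) : ↥(S : Subgroup G))⁻¹ * (a.out⁻¹ * u * a.out) * (b.out : R) ∈ R := by
      refine hQR ((hox _).mpr ?_)
      simpa [mul_assoc] using h
    have h2 : a.out⁻¹ * u * a.out ∈ R := by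
      have := mul_mem (mul_mem b.out.2 h1) (inv_mem b.out.2)
      simpa [mul_assoc] using this
    have := hRn.conj_mem _ h2 a.out
    simpa [mul_assoc] using this

/-- A character of `S` that kills `S ∩ N'` kills `S ∩ G'`. -/
theorem char_kills_derived (S : Sylow p G) (hW : ¬ HasWreathImage p ↥(S : Subgroup G))
    (φ : ↥(S : Subgroup G) →* A) (hA : ∀ a : A, a ^ p = 1)
    (hD : ∀ s : ↥(S : Subgroup G), (s : G) ∈ ⁅normalizer ((S : Subgroup G) : Set G),
      normalizer ((S : Subgroup G) : Set G)⁆ → φ s = 1) :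
    ∀ (n : ℕ) (s : ↥(S : Subgroup G)), orderOf s = n → (s : G) ∈ commutator G → φ s = 1 := by
  intro n
  induction n using Nat.strong_induction_on with
  | _ n ih =>
  intro u hn hu
  classical
  by_cases hu1 : u = 1
  · rw [hu1, map_one]
  have hmin : ∀ (x : G) (k : ℕ), 1 < k → k ∣ orderOf (u : G) →
      ∀ h : x⁻¹ * (u : G) ^ k * x ∈ (S : Subgroup G), φ ⟨_, h⟩ = 1 := by
    intro x k hk hkd h
    refine ih (orderOf (⟨_, h⟩ : ↥(S : Subgroup G))) ?_ _ rfl
      ((inferInstance : (commutator G).Normal).conj_mem' _ (pow_mem hu k) x)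
    have e : orderOf (x⁻¹ * (u : G) ^ k * x) = orderOf ((u : G) ^ k) := by
      rw [← orderOf_injective (MulAut.conj x).toMonoidHom (MulAut.conj x).injective]
      congr 1
      simp [mul_assoc]
    rw [← Subgroup.orderOf_coe, e, orderOf_pow_of_dvd (by omega) hkd, ← hn, ← Subgroup.orderOf_coe u]
    exact Nat.div_lt_self (orderOf_pos _) hk
  have : Fintype (G ⧸ (S : Subgroup G)) := Fintype.ofFinite _
  have hT : MonoidHom.transfer φ (u : G) = 1 := Abelianization.commutator_subset_ker _ hu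
  rw [transfer_eq_fixed φ (u : G) fun k x hk hkd h => hmin x k hk hkd h] at hT
  set π := Quotient.mk (MulAction.orbitRel (S : Subgroup G) (G ⧸ (S : Subgroup G)))
  have : Fintype (MulAction.orbitRel.Quotient (S : Subgroup G) (G ⧸ (S : Subgroup G))) :=
    Fintype.ofFinite _
  set fx := Finset.univ.filter fun q : G ⧸ (S : Subgroup G) =>
    MulAction.stabilizer (S : Subgroup G) q = ⊤
  rw [← Finset.prod_filter_mul_prod_filter_not Finset.univ
    (fun q : G ⧸ (S : Subgroup G) => MulAction.stabilizer (S : Subgroup G) q = ⊤)] at hT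
  have hnonfix : ∏ q ∈ Finset.univ.filter (fun q : G ⧸ (S : Subgroup G) =>
      ¬ MulAction.stabilizer (S : Subgroup G) q = ⊤), fixVal φ (u : G) q.out = 1 := by
    rw [← Finset.prod_fiberwise (g := π)]
    refine Finset.prod_eq_one fun o _ => ?_
    induction o using Quotient.inductionOn with
    | h x =>
      by_cases hx : MulAction.stabilizer (S : Subgroup G) x = ⊤
      · refine Finset.prod_eq_one fun y hy => ?_
        obtain ⟨hy1, hy2⟩ := Finset.mem_filter.mp hy
        exfalso
        obtain ⟨s, hs⟩ := Quotient.exact hy2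
        have hsx : s • x = x := MulAction.mem_stabilizer_iff.mp (hx ▸ mem_top s)
        have hyx : y = x := hs.symm.trans hsx
        exact (Finset.mem_filter.mp hy1).2 (hyx ▸ hx)
      · have hset : (Finset.univ.filter (fun q : G ⧸ (S : Subgroup G) =>
            ¬ MulAction.stabilizer (S : Subgroup G) q = ⊤)).filter (fun y => π y = π x) =
              (MulAction.orbit (S : Subgroup G) x).toFinset := by
          ext y
          simp only [Finset.mem_filter, Finset.mem_univ, true_and, Set.mem_toFinset]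
          constructor
          · exact fun h => Quotient.exact h.2
          · intro h
            refine ⟨fun htop => hx ?_, Quotient.sound h⟩
            obtain ⟨s, rfl⟩ := h
            rw [eq_top_iff]
            intro t _
            have h1 : (s * t * s⁻¹) • (s • x) = s • x :=
              MulAction.mem_stabilizer_iff.mp (htop ▸ mem_top _)
            rw [smul_smul, inv_mul_cancel_right, ← smul_smul] at h1
            exact MulAction.mem_stabilizer_iff.mpr (MulAction.injective s h1)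
        rw [hset, Finset.prod_subtype (p := fun y => y ∈ MulAction.orbit (S : Subgroup G) x)
          (h := fun y => Set.mem_toFinset)]
        exact orbit_prod_eq_one S hW φ hA hmin x hx
  rw [hnonfix, mul_one] at hT
  have hfix : ∀ q ∈ fx, fixVal φ (u : G) q.out = φ u := by
    intro q hq
    have hq' := (Finset.mem_filter.mp hq).2
    have hN : q.out ∈ normalizer ((S : Subgroup G) : Set G) := by
      have h1 : ∀ s ∈ (S : Subgroup G), q.out⁻¹ * s * q.out ∈ (S : Subgroup G) := by
        intro s hs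
        have h2 : (⟨s, hs⟩ : ↥(S : Subgroup G)) • q = q :=
          MulAction.mem_stabilizer_iff.mp (hq' ▸ mem_top _)
        rw [← QuotientGroup.out_eq' q] at h2
        have h3 : ((s * q.out : G) : G ⧸ (S : Subgroup G)) = (q.out : G ⧸ (S : Subgroup G)) := h2
        rw [eq_comm, QuotientGroup.eq, ← mul_assoc] at h3
        exact h3
      have h2 : (S : Subgroup G).map (MulAut.conj q.out⁻¹).toMonoidHom ≤ (S : Subgroup G) := by
        rintro _ ⟨s, hs, rfl⟩
        simpa using h1 s hs
      have h3 := H70.cj_eq_self_iff.mp (H70.eq_of_cj_le h2)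
      simpa using h3
    have hmem : q.out⁻¹ * (u : G) * q.out ∈ (S : Subgroup G) := by
      have := (mem_normalizer_iff.mp (inv_mem hN) (u : G)).mp u.2
      simpa using this
    rw [fixVal_of_mem φ hmem, show (⟨_, hmem⟩ : ↥(S : Subgroup G)) = (⟨_, hmem⟩ * u⁻¹) * u by group,
      map_mul, hD (⟨_, hmem⟩ * u⁻¹) ?_, one_mul]
    have := commutator_mem_commutator (inv_mem hN) (le_normalizer u.2 :
      (u : G) ∈ normalizer ((S : Subgroup G) : Set G))
    simpa [commutatorElement_def, mul_assoc] using this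
  rw [Finset.prod_congr rfl hfix, Finset.prod_const] at hT
  have hcard : ¬ p ∣ fx.card := by
    intro hd
    have h1 := S.isPGroup'.card_modEq_card_fixedPoints (G ⧸ (S : Subgroup G))
    have h2 : Nat.card (MulAction.fixedPoints (S : Subgroup G) (G ⧸ (S : Subgroup G))) = fx.card := by
      rw [Nat.card_eq_fintype_card, ← Set.toFinset_card]
      congr 1
      ext q
      simp only [Set.mem_toFinset, MulAction.mem_fixedPoints, fx, Finset.mem_filter,
        Finset.mem_univ, true_and, eq_top_iff]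
      exact ⟨fun h s _ => MulAction.mem_stabilizer_iff.mpr (h s),
        fun h s => MulAction.mem_stabilizer_iff.mp (h (mem_top s))⟩
    rw [h2, ← index_eq_card] at h1
    exact S.not_dvd_index (Nat.modEq_zero_iff_dvd.mp (h1.trans (Nat.modEq_zero_iff_dvd.mpr hd)))
  rw [← orderOf_eq_one_iff]
  exact Nat.eq_one_of_dvd_coprimes ((Nat.Prime.coprime_iff_not_dvd hp.out).mpr hcard)
    (orderOf_dvd_of_pow_eq_one (hA _)) (orderOf_dvd_of_pow_eq_one hT)

theorem pResidual_inf_le_derived {N : Subgroup G} {a : G} (ha : a ∈ (Cfsg.pResidual p N).map N.subtype)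
    (hap : ∃ k, a ^ p ^ k = 1) : a ∈ ⁅N, N⁆ := by
  obtain ⟨b, hb, rfl⟩ := ha
  obtain ⟨k, hk⟩ := hap
  rw [← map_pow, map_eq_one_iff _ N.subtype_injective] at hk
  have h1 : ∀ x ∈ Cfsg.pResidual p N, (orderOf (Abelianization.of x)).Coprime p := by
    intro x hx
    induction hx using closure_induction with
    | mem x hx => exact Nat.Coprime.coprime_dvd_left (orderOf_map_dvd _ x) hx
    | one => rw [map_one, orderOf_one]; exact Nat.coprime_one_left p
    | mul x y _ _ ihx ihy =>
      rw [map_mul]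
      exact Nat.Coprime.coprime_dvd_left
        ((Commute.all _ _).orderOf_mul_dvd_mul_orderOf) (Nat.Coprime.mul_left ihx ihy)
    | inv x _ ih => rw [map_inv, orderOf_inv]; exact ih
  have h2 : Abelianization.of b = 1 := by
    rw [← orderOf_eq_one_iff]
    refine Nat.eq_one_of_dvd_coprimes ((h1 b hb).pow_right k) dvd_rfl (orderOf_dvd_of_pow_eq_one ?_)
    rw [← map_pow, hk, map_one]
  rw [← Subgroup.map_subtype_commutator]
  exact mem_map_of_mem _ (by rwa [← Abelianization.ker_of, MonoidHom.mem_ker])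

/-- Yoshida: without `Z_p ≀ Z_p` images, `N(S)` controls transfer. -/
theorem yoshida (S : Sylow p G) (hW : ¬ HasWreathImage p ↥(S : Subgroup G)) :
    (S : Subgroup G) ⊓ commutator G ≤ ⁅normalizer ((S : Subgroup G) : Set G),
      normalizer ((S : Subgroup G) : Set G)⁆ := by
  set P : Subgroup G := (S : Subgroup G)
  set H := normalizer (P : Set G)
  have hPH : P ≤ H := le_normalizer
  have hder : ∀ K : Subgroup G, P ≤ K → (Cfsg.pResidual p K).map K.subtype ⊔ P = K →
      ⁅K, K⁆ ≤ ⁅P, P⁆ ⊔ (Cfsg.pResidual p K).map K.subtype := by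
    intro K hPK _
    set π := QuotientGroup.mk' (Cfsg.pResidual p K)
    have h4 : (P.subgroupOf K).map π = ⊤ := by
      rw [Subgroup.map_eq_map_iff.mpr (?_ : _ = (⊤ : Subgroup K) ⊔ π.ker),
        Subgroup.map_top_of_surjective π (QuotientGroup.mk'_surjective _)]
      rw [QuotientGroup.ker_mk', top_sup_eq, sup_comm, ← Sylow.coe_subtype (h := hPK)]
      exact H5.pResidual_sup_sylow _
    have h3 : commutator K ≤ ⁅P.subgroupOf K, P.subgroupOf K⁆ ⊔ Cfsg.pResidual p K := by
      conv_rhs => rw [← QuotientGroup.ker_mk' (Cfsg.pResidual p K), ← Subgroup.comap_map_eq,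
        Subgroup.map_commutator, h4]
      rw [← Subgroup.map_le_iff_le_comap, commutator_def, Subgroup.map_commutator,
        Subgroup.map_top_of_surjective π (QuotientGroup.mk'_surjective _)]
    have h5 := Subgroup.map_mono (f := K.subtype) h3
    rwa [Subgroup.map_subtype_commutator, Subgroup.map_sup, Subgroup.map_commutator,
      Subgroup.map_subgroupOf_eq_of_le hPK] at h5
  have hsup : ∀ K : Subgroup G, P ≤ K → (Cfsg.pResidual p K).map K.subtype ⊔ P = K := by
    intro K hPK
    have h := congrArg (Subgroup.map K.subtype) (H5.pResidual_sup_sylow (S.subtype hPK))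
    rw [Subgroup.map_sup, Sylow.coe_subtype, Subgroup.map_subgroupOf_eq_of_le hPK,
      ← MonoidHom.range_eq_map, range_subtype] at h
    exact h
  have hdecomp : ∀ K : Subgroup G, P ≤ K → ∀ a ∈ P, a ∈ ⁅K, K⁆ →
      ∃ c ∈ ⁅P, P⁆, ∃ r ∈ P ⊓ (Cfsg.pResidual p K).map K.subtype, c * r = a := by
    intro K hPK a haP ha
    have h := hder K hPK (hsup K hPK) ha
    have hn : ⁅P, P⁆ ≤ normalizer ((Cfsg.pResidual p K).map K.subtype : Set G) := by
      intro x hx
      have hxK : x ∈ K := hPK (Subgroup.commutator_le_self P hx)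
      exact le_normalizer_map K.subtype (mem_map_of_mem K.subtype
        (le_top.trans (normalizer_eq_top_iff.mpr
          (inferInstance : (Cfsg.pResidual p K).Normal)).ge (mem_top ⟨x, hxK⟩)))
    rw [← SetLike.mem_coe, coe_mul_of_left_le_normalizer_right _ _ hn] at h
    obtain ⟨c, hc, r, hr, rfl⟩ := h
    refine ⟨c, hc, r, mem_inf.mpr ⟨?_, hr⟩, rfl⟩
    simpa using mul_mem (inv_mem (Subgroup.commutator_le_self P hc)) haP
  -- Tate's step
  set L := (Cfsg.pResidual p H).map H.subtype
  have hmain : P ⊓ Cfsg.pResidual p G ≤ L := by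
    set P0 := (Cfsg.pResidual p G).subgroupOf P
    set P1 := L.subgroupOf P
    have hP1n : P1.Normal := by
      refine ⟨fun a ha x => ?_⟩
      obtain ⟨b, hb, hba⟩ := ha
      refine ⟨⟨x, hPH x.2⟩ * b * ⟨x, hPH x.2⟩⁻¹,
        (inferInstance : (Cfsg.pResidual p H).Normal).conj_mem _ hb _, ?_⟩
      rw [map_mul, map_mul, map_inv, hba]; simp
    have hle : P1 ≤ P0 := fun a ha => H5.pResidual_subtype_map_le H ha
    rcases hle.eq_or_lt with he | hlt
    · intro x hx
      exact (he ▸ (show (⟨x, hx.1⟩ : ↥P) ∈ P0 from hx.2) : (⟨x, hx.1⟩ : ↥P) ∈ P1)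
    exfalso
    obtain ⟨lam, hinv, hkill, a, ha⟩ := H5.exists_invariant_character (p := p) S.2 hlt
    have hA : IsPGroup p (Multiplicative (ZMod p)) := IsPGroup.of_card (n := 1) (by simp)
    obtain ⟨θ, hθ⟩ := H5.tate_extend S H5.pResidual_pResidual (H5.pResidual_sup_sylow S) hA lam hinv
    apply ha
    rw [← hθ]
    refine char_kills_derived S hW θ (fun z => ?_) (fun s hs => ?_) _ _ rfl ?_
    · have := pow_card_eq_one' (G := Multiplicative (ZMod p)) (x := z)
      simpa using this
    · obtain ⟨c, hc, r, hr, hcr⟩ := hdecomp H hPH s s.2 hs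
      obtain ⟨hrP, hrL⟩ := mem_inf.mp hr
      rw [show s = ⟨c, Subgroup.commutator_le_self P hc⟩ * ⟨r, hrP⟩ from Subtype.ext hcr.symm, map_mul]
      have h1 : θ ⟨c, Subgroup.commutator_le_self P hc⟩ = 1 := by
        refine Abelianization.commutator_subset_ker θ ?_
        obtain ⟨c', hc', e⟩ := (Subgroup.map_subtype_commutator P).ge hc
        rwa [show (⟨c, Subgroup.commutator_le_self P hc⟩ : ↥P) = c' from Subtype.ext e.symm]
      have h2 : θ ⟨r, hrP⟩ = 1 :=
        (hθ ⟨⟨r, hrP⟩, hle (show (⟨r, hrP⟩ : ↥P) ∈ P1 from hrL)⟩).trans (hkill _ hrL)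
      rw [h1, h2, one_mul]
    · have h1 : ((a : ↥P) : G) ∈ commutator G ⊓ P := by
        rw [Subgroup.commutator_inf_eq_focalSubgroup, ← Subgroup.ker_transferFocal_inf_eq_focalSubgroup]
        exact ⟨H5.pResidual_le_ker _ (S.2.to_quotient _) a.2, (a : ↥P).2⟩
      exact h1.1
  intro a ha
  obtain ⟨haP, haG⟩ := mem_inf.mp ha
  rw [commutator_def] at haG
  obtain ⟨c, hc, r, hr, rfl⟩ := hdecomp ⊤ le_top a haP haG
  refine mul_mem (commutator_mono hPH hPH hc) ?_
  obtain ⟨hrP, hrR⟩ := mem_inf.mp hr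
  have hrG : r ∈ Cfsg.pResidual p G := H5.pResidual_subtype_map_le ⊤ hrR
  refine pResidual_inf_le_derived (hmain (mem_inf.mpr ⟨hrP, hrG⟩)) ?_
  obtain ⟨k, hk⟩ := S.isPGroup' ⟨r, hrP⟩
  exact ⟨k, by simpa using congrArg Subtype.val hk⟩

end H75
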