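import Cfsg.Agent.H75.FrakMExists
import Cfsg.Agent.H75.Large

/-!
Asymmetric `Y_M` for members with the basic property.
-/

set_option autoImplicit false

namespace H75

open Subgroup
open scoped commutatorElement
open H70 (cj)

variable {G : Type*} [Group G] {p : ℕ}

theorem maxP_inf_normal [Finite G] [Fact p.Prime] {T H N : Subgroup G} (hT : MaxP p T H)
    (hNH : N ≤ H) (hHN : H ≤ normalizer (N : Set G)) : MaxP p (T ⊓ N) N := by
  refine ⟨inf_le_right, hT.pgroup.to_le inf_le_left, fun R hR hRN hle => ?_⟩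
  obtain ⟨S, hS, hRS⟩ := exists_maxP hR (hRN.trans hNH)
  obtain ⟨k, hk, hkS⟩ := hT.exists_conj hS
  refine (Subgroup.eq_of_le_of_card_ge hle ?_).symm
  rw [← H70.card_cj k R]
  exact card_le_of_le (le_inf ((H70.cj_mono k hRS).trans hkS.le)
    ((H70.cj_mono k hRN).trans (H70.cj_eq_self_iff.mpr (hHN hk)).le))

theorem resOf_sup_maxP [Finite G] [Fact p.Prime] {T0 N : Subgroup G} (h : MaxP p T0 N) :
    resOf p N ⊔ T0 = N := by
  obtain ⟨P, hP⟩ := (h.pgroup.comap_subtype (K := N)).exists_le_sylow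
  have e : (P : Subgroup N).map N.subtype = T0 := by
    refine h.max _ (P.isPGroup'.map _) (map_subtype_le _) ?_
    intro x hx
    exact ⟨⟨x, h.le hx⟩, hP (show (⟨x, h.le hx⟩ : N) ∈ T0.comap N.subtype from hx), rfl⟩
  have h2 : (Cfsg.pResidual p N ⊔ (P : Subgroup N)).map N.subtype = N := by
    rw [pResidual_sup_sylow, ← MonoidHom.range_eq_map, range_subtype]
  rwa [Subgroup.map_sup, map_pResidual_eq_resOf, e] at h2

/-- The conjugates of `Y` generate a group centralized by `N`. -/
theorem le_centralizer_closure [Finite G] [Fact p.Prime] {Y K N T0 V : Subgroup G}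
    (hNK : N ≤ K) (hKN : K ≤ normalizer (N : Set G)) (hT0 : MaxP p T0 N)
    (hT0Y : T0 ≤ centralizer (Y : Set G)) (hV : V = ⨆ k : K, cj (k : G) Y)
    (hp : PowInto p N (centralizer (V : Set G))) : N ≤ centralizer (V : Set G) := by
  set C := centralizer (V : Set G)
  set R := resOf p N
  have hRC : R ≤ C := resOf_le_of_powInto hp
  have hT0R : T0 ≤ normalizer (R : Set G) :=
    (hT0.le.trans le_normalizer).trans (normalizer_le_normalizer_resOf N)
  have hgen := resOf_sup_maxP hT0
  have hYV : ∀ k ∈ K, cj k Y ≤ V := fun k hk =>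
    hV ▸ le_iSup (fun k : K => cj (k : G) Y) ⟨k, hk⟩
  have hT0V : T0 ≤ C := by
    refine le_centralizer_iff.mp (hV ▸ iSup_le fun k => ?_)
    have h' := hT0.conj (k : G)
    rw [H70.cj_eq_self_iff.mpr (hKN k.2)] at h'
    obtain ⟨c, hc, hck⟩ := hT0.exists_conj h'
    rw [H70.cj_cj] at hck
    obtain ⟨r, hr, t, ht, rfl⟩ := sup_eq_mul_of_le_normalizer hT0R (hgen.ge hc)
    have hnT : r * t * (k : G) ∈ normalizer (T0 : Set G) := H70.cj_eq_self_iff.mp hck
    have hnK : r * t * (k : G) ∈ K := mul_mem (hNK hc) k.2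
    set n := r * t * (k : G)
    have e1 : cj (k : G) Y = cj t⁻¹ (cj r⁻¹ (cj n Y)) := by
      rw [H70.cj_cj, H70.cj_cj]
      congr 1
      simp [n, mul_assoc]
    have e2 : cj r⁻¹ (cj n Y) = cj n Y := H70.cj_eq_self_iff.mpr
      (centralizer_le_normalizer _ (centralizer_le (hYV n hnK) (hRC (inv_mem hr))))
    have h3 : T0 ≤ centralizer (cj n Y : Set G) := by
      intro s hs
      rw [mem_centralizer_iff]
      rintro _ ⟨y, hy, rfl⟩
      have h4 := (mem_centralizer_iff.mp (hT0Y (conj'_mem_of_mem_normalizer hnT hs))) y hy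
      show n * y * n⁻¹ * s = s * (n * y * n⁻¹)
      calc n * y * n⁻¹ * s = n * (y * (n⁻¹ * s * n)) * n⁻¹ := by group
        _ = n * ((n⁻¹ * s * n) * y) * n⁻¹ := by rw [h4]
        _ = _ := by group
    rw [e1, e2, H70.cj_eq_self_iff.mpr (centralizer_le_normalizer _ (h3 (inv_mem ht)))]
    exact le_centralizer_iff.mp h3
  rw [← hgen]
  exact sup_le hRC hT0V

variable (S : Sylow p G) (M : Subgroup G)

/-- Facts about a member with the basic property. -/
structure FrakFacts : Prop where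
  dag_le : M ⊔ centralizer (Cfsg.largestPReducedOf p M : Set G) ≤
    normalizer (Cfsg.largestPReducedOf p M : Set G)
  core_eq : Cfsg.pCoreOf p M =
    (S : Subgroup G) ⊓ centralizer (Cfsg.largestPReducedOf p M : Set G)
  core_cent : centralizer (Cfsg.pCoreOf p M : Set G) ≤ Cfsg.pCoreOf p M
  core_ne : Cfsg.pCoreOf p M ≠ ⊥
  unique : ∀ K ∈ Cfsg.charPSubgroups p G, M ≤ K →
    K ≤ M ⊔ centralizer (Cfsg.largestPReducedOf p M : Set G)

variable {S M}

theorem frakFacts [Finite G] [Fact p.Prime] (hSM : (S : Subgroup G) ≤ M)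
    (hM : Cfsg.IsInFrakM p M) : FrakFacts S M := by
  obtain ⟨hne, hc⟩ := mem_charPSubgroups_iff.mp hM.1
  have hY := redIn_largest (p := p) M
  refine ⟨sup_le hY.norm (centralizer_le_normalizer _), le_antisymm
    (le_inf (pCoreOf_le_sylow S hSM) hY.pCoreOf_le) ?_, hc, hne, fun K hK hMK => ?_⟩
  · intro x hx
    obtain ⟨hxS, hxC⟩ := mem_inf.mp hx
    set D := M ⊓ centralizer (Cfsg.largestPReducedOf p M : Set G)
    obtain ⟨k, hk⟩ := S.isPGroup' ⟨x, hxS⟩
    have h1 := isPClosed_subgroup_iff.mp hM.2.2.2.2.1 x (mem_inf.mpr ⟨hSM hxS, hxC⟩)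
      ⟨k, by simpa using congrArg Subtype.val hk⟩
    refine le_pCoreOf ((pCoreOf_le D).trans inf_le_left) ?_ (isPGroup_pCoreOf D) h1
    refine le_trans ?_ (normalizer_le_normalizer_pCoreOf D)
    exact (le_inf le_normalizer (hY.norm.trans (normalizer_le_normalizer_centralizer _))).trans
      (normalizer_inf_le_normalizer_inf _ _)
  · obtain ⟨Z, ⟨hZ, hKZ⟩, hZmax⟩ := exists_max_card
      (P := fun Z : Subgroup G => Z ∈ Cfsg.charPSubgroups p G ∧ K ≤ Z) ⟨K, hK, le_rfl⟩
    have hmax : Z ∈ Cfsg.maxCharPSubgroups p G := ⟨hZ, fun W hW hle =>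
      (Subgroup.eq_of_le_of_card_ge hle (hZmax W ⟨hW, hKZ.trans hle⟩)).symm⟩
    exact hKZ.trans (hM.2.2.1 Z hmax (hMK.trans hKZ)).le

theorem FrakFacts.normalizer_core_le [Finite G] [Fact p.Prime] (h : FrakFacts S M)
    (hG : Cfsg.IsOfParabolicCharacteristic p G) (hSM : (S : Subgroup G) ≤ M) :
    normalizer (Cfsg.pCoreOf p M : Set G) ≤
      M ⊔ centralizer (Cfsg.largestPReducedOf p M : Set G) := by
  refine h.unique _ (mem_charP_of_parabolic hG S (hSM.trans (le_normalizer_pCoreOf M))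
    fun e => h.core_ne ?_) (le_normalizer_pCoreOf M)
  exact le_bot_iff.mp (e ▸ le_pCoreOf le_normalizer le_rfl (isPGroup_pCoreOf M))

theorem frak_core_wc [Finite G] [Fact p.Prime] (hSM : (S : Subgroup G) ≤ M)
    (hM : Cfsg.IsInFrakM p M) :
    Cfsg.IsWeaklyClosedSubgroup p ((Cfsg.pCoreOf p M).subgroupOf
      (M ⊔ centralizer (Cfsg.largestPReducedOf p M : Set G))) := by
  have h := frakFacts hSM hM
  set Y := Cfsg.largestPReducedOf p M
  set D := M ⊔ centralizer (Y : Set G)
  set P := Cfsg.pCoreOf p M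
  have hSD : (S : Subgroup G) ≤ D := hSM.trans le_sup_left
  have hPD : P ≤ D := (pCoreOf_le M).trans le_sup_left
  refine ⟨S.subtype hSD, ?_, fun g hg => ?_⟩
  · rw [Sylow.coe_subtype]
    exact comap_mono (h.core_eq.le.trans inf_le_left)
  · apply Subgroup.map_injective D.subtype_injective
    rw [cj_map_subtype, map_subgroupOf_eq_of_le hPD]
    have hg' : cj (g : G) P ≤ (S : Subgroup G) := by
      have := Subgroup.map_mono (f := D.subtype) hg
      rwa [cj_map_subtype, map_subgroupOf_eq_of_le hPD, Sylow.coe_subtype,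
        map_subgroupOf_eq_of_le hSD] at this
    refine Subgroup.eq_of_le_of_card_ge ?_ (H70.card_cj _ _).ge
    refine (le_inf hg' ?_).trans h.core_eq.ge
    refine (H70.cj_mono _ (h.core_eq.le.trans inf_le_right)).trans ?_
    exact (H70.cj_eq_self_iff.mpr
      (h.dag_le.trans (normalizer_le_normalizer_centralizer Y) g.2)).le

/-- Conjugates which normalise each other commute, for asymmetric `Y`. -/
theorem asym_commute {Y : Subgroup G} (hasym : ¬ Cfsg.IsSymmetricIn Y) {g : G}
    (h1 : cj g Y ≤ normalizer (Y : Set G)) (h2 : Y ≤ normalizer (cj g Y : Set G)) :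
    cj g Y ≤ centralizer (Y : Set G) := by
  by_contra hne
  refine hasym ⟨g, fun e => hne ?_, le_inf (le_normalizer_iff_commutator_le_left.mp h1)
    (le_normalizer_iff_commutator_le_right.mp h2)⟩
  exact le_centralizer_iff.mp (commutator_eq_bot_iff_le_centralizer.mp e)

theorem cj_le_normalizer_cj {Y A : Subgroup G} (h : A ≤ normalizer (Y : Set G)) (g : G) :
    cj g A ≤ normalizer (cj g Y : Set G) :=
  (H70.cj_mono g h).trans (le_normalizer_map _)

theorem frak_closure_elemAb [Finite G] [Fact p.Prime] (hasym : ¬ Cfsg.IsSymmetricIn (Cfsg.largestPReducedOf p M))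
    {R : Subgroup G} (hYR : Cfsg.largestPReducedOf p M ≤ R)
    (hRM : R ≤ M ⊔ centralizer (Cfsg.largestPReducedOf p M : Set G)) :
    Cfsg.IsElementaryAbelian p
      (⨆ n : ↥(normalizer (R : Set G)), cj (n : G) (Cfsg.largestPReducedOf p M)) := by
  set Y := Cfsg.largestPReducedOf p M
  have hY := redIn_largest (p := p) M
  have hRY : R ≤ normalizer (Y : Set G) :=
    hRM.trans (sup_le hY.norm (centralizer_le_normalizer _))
  have hone : ∀ n ∈ normalizer (R : Set G), cj n Y ≤ centralizer (Y : Set G) := by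
    intro n hn
    refine asym_commute hasym ?_ ?_
    · exact ((H70.cj_mono n hYR).trans (H70.cj_eq_self_iff.mpr hn).le).trans hRY
    · have h1 : cj n⁻¹ Y ≤ normalizer (Y : Set G) :=
        ((H70.cj_mono _ hYR).trans (H70.cj_eq_self_iff.mpr (inv_mem hn)).le).trans hRY
      have := cj_le_normalizer_cj h1 n
      rwa [H70.cj_cj, mul_inv_cancel, H70.cj_one] at this
  have htwo : ∀ a ∈ normalizer (R : Set G), ∀ b ∈ normalizer (R : Set G),
      cj b Y ≤ centralizer (cj a Y : Set G) := by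
    intro a ha b hb
    have h := H70.cj_mono a (hone (a⁻¹ * b) (mul_mem (inv_mem ha) hb))
    rw [H70.cj_cj, mul_inv_cancel_left] at h
    refine h.trans ?_
    rintro _ ⟨c, hc, rfl⟩
    rw [mem_centralizer_iff]
    rintro _ ⟨y, hy, rfl⟩
    rw [← map_mul, ← map_mul, (mem_centralizer_iff.mp hc) y hy]
  set W := ⨆ n : ↥(normalizer (R : Set G)), cj (n : G) Y
  have hWab : W ≤ centralizer (W : Set G) :=
    iSup_le fun b => le_centralizer_iff.mp (iSup_le fun a => htwo _ b.2 _ a.2)
  refine ⟨le_centralizer_iff_isMulCommutative.mp hWab, fun a ha => ?_⟩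
  have hle : W ≤ Cfsg.omegaOne p W := iSup_le fun n => le_omegaOne
    (elemAb_map hY.elem _).2 (le_iSup (fun n : ↥(normalizer (R : Set G)) => cj (n : G) Y) n)
  exact (omegaOne_elemAb (p := p) hWab).2 a (hle ha)

theorem list_prod_inv_mem {Γ : Set G} (hΓ : ∀ x ∈ Γ, x⁻¹ ∈ Γ) (l : List G)
    (hl : ∀ x ∈ l, x ∈ Γ) : ∀ x ∈ (l.map fun x => x⁻¹).reverse, x ∈ Γ := by
  intro x hx
  rw [List.mem_reverse, List.mem_map] at hx
  obtain ⟨y, hy, rfl⟩ := hx
  exact hΓ y (hl y hy)

/-- All conjugates of `Y_M` under `⟨M, N(R)⟩` lie in `O_p(M)`. -/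
theorem frak_conj_le_core [Finite G] [Fact p.Prime] (hSM : (S : Subgroup G) ≤ M)
    (hM : Cfsg.IsInFrakM p M) (hasym : ¬ Cfsg.IsSymmetricIn (Cfsg.largestPReducedOf p M))
    {R : Subgroup G} (hPR : Cfsg.pCoreOf p M ≤ R) (hRS : R ≤ (S : Subgroup G)) :
    ∀ n : ℕ, ∀ l : List G, l.length ≤ n → (∀ x ∈ l, x ∈ M ∨ x ∈ normalizer (R : Set G)) →
      cj l.prod (Cfsg.largestPReducedOf p M) ≤ Cfsg.pCoreOf p M := by
  have h := frakFacts hSM hM
  set Y := Cfsg.largestPReducedOf p M
  set P := Cfsg.pCoreOf p M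
  have hY := redIn_largest (p := p) M
  have hYP : Y ≤ P := hY.le_pCoreOf
  have hRY : R ≤ normalizer (Y : Set G) := (hRS.trans hSM).trans hY.norm
  have hRC : R ⊓ centralizer (Y : Set G) ≤ P :=
    (inf_le_inf_right _ hRS).trans h.core_eq.ge
  intro n
  induction n with
  | zero =>
    intro l hl _
    rw [List.length_eq_zero_iff.mp (Nat.le_zero.mp hl), List.prod_nil, H70.cj_one]
    exact hYP
  | succ n ih =>
    intro l hl hmem
    rcases List.eq_nil_or_concat l with rfl | ⟨l', b, rfl⟩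
    · rw [List.prod_nil, H70.cj_one]; exact hYP
    simp only [List.length_concat, Nat.add_le_add_iff_right] at hl
    simp only [List.concat_eq_append, List.mem_append, List.mem_singleton] at hmem
    rw [List.concat_eq_append, List.prod_append, List.prod_singleton, ← H70.cj_cj]
    rcases hmem b (Or.inr rfl) with hb | hb
    · rw [H70.cj_eq_self_iff.mpr (hY.norm hb)]
      exact ih l' hl fun x hx => hmem x (Or.inl hx)
    rw [H70.cj_cj]
    cases l' with
    | nil =>
      rw [List.prod_nil, one_mul]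
      have h1 : ∀ c ∈ normalizer (R : Set G), cj c Y ≤ R := fun c hc =>
        (H70.cj_mono c (hYP.trans hPR)).trans (H70.cj_eq_self_iff.mpr hc).le
      refine (le_inf (h1 b hb) (asym_commute hasym ((h1 b hb).trans hRY) ?_)).trans hRC
      have := cj_le_normalizer_cj ((h1 _ (inv_mem hb)).trans hRY) b
      rwa [H70.cj_cj, mul_inv_cancel, H70.cj_one] at this
    | cons a l'' =>
      rw [List.prod_cons]
      rcases hmem a (Or.inl (List.mem_cons_self)) with ha | ha
      · have hlen : (l'' ++ [b]).length ≤ n := by simpa using hl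
        have h1 := ih (l'' ++ [b]) hlen (fun x hx => by
          rcases List.mem_append.mp hx with hx | hx
          · exact hmem x (Or.inl (List.mem_cons_of_mem _ hx))
          · exact hmem x (Or.inr (List.mem_singleton.mp hx)))
        rw [List.prod_append, List.prod_singleton] at h1
        rw [mul_assoc, ← H70.cj_cj]
        exact (H70.cj_mono a h1).trans (H70.cj_eq_self_iff.mpr (le_normalizer_pCoreOf M ha)).le
      · have h1 : cj (a * l''.prod * b) Y ≤ R := by
          have hlen : (l'' ++ [b]).length ≤ n := by simpa using hl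
          have h2 := ih (l'' ++ [b]) hlen (fun x hx => by
            rcases List.mem_append.mp hx with hx | hx
            · exact hmem x (Or.inl (List.mem_cons_of_mem _ hx))
            · exact hmem x (Or.inr (List.mem_singleton.mp hx)))
          rw [List.prod_append, List.prod_singleton] at h2
          rw [mul_assoc, ← H70.cj_cj]
          exact (H70.cj_mono a (h2.trans hPR)).trans (H70.cj_eq_self_iff.mpr ha).le
        have h3 : cj (a * l''.prod * b)⁻¹ Y ≤ R := by
          have h4 := ih ((a :: l'').map fun x => x⁻¹).reverse (by simpa using hl)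
            (list_prod_inv_mem (Γ := {x | x ∈ M ∨ x ∈ normalizer (R : Set G)})
              (fun x hx => hx.imp inv_mem inv_mem) _ fun x hx => hmem x (Or.inl hx))
          rw [← List.prod_inv_reverse, List.prod_cons] at h4
          rw [mul_inv_rev, ← H70.cj_cj]
          exact (H70.cj_mono _ (h4.trans hPR)).trans (H70.cj_eq_self_iff.mpr (inv_mem hb)).le
        refine (le_inf h1 (asym_commute hasym (h1.trans hRY) ?_)).trans hRC
        have := cj_le_normalizer_cj (h3.trans hRY) (a * l''.prod * b)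
        rwa [H70.cj_cj, mul_inv_cancel, H70.cj_one] at this

/-- `N(R) ≤ N(O_p(M))` for every `p`-group `R` over `O_p(M)`. -/
theorem frak_normalizer_le [Finite G] [Fact p.Prime] (hG : Cfsg.IsOfParabolicCharacteristic p G)
    (hSM : (S : Subgroup G) ≤ M) (hM : Cfsg.IsInFrakM p M)
    (hasym : ¬ Cfsg.IsSymmetricIn (Cfsg.largestPReducedOf p M)) :
    ∀ (n : ℕ) (R : Subgroup G), Nat.card R ≤ n → IsPGroup p R → Cfsg.pCoreOf p M ≤ R →
      normalizer (R : Set G) ≤ normalizer (Cfsg.pCoreOf p M : Set G) := by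
  have h := frakFacts hSM hM
  set Y := Cfsg.largestPReducedOf p M
  set P := Cfsg.pCoreOf p M
  intro n
  induction n with
  | zero => intro R hR; exact absurd hR (by simp [Nat.card_pos.ne'])
  | succ n ih =>
  intro R hcard hR hPR
  have hRP : R ≤ normalizer (P : Set G) := by
    by_contra hne
    have hlt : R ⊓ normalizer (P : Set G) < R := inf_le_left.lt_of_ne fun e => hne (inf_eq_left.mp e)
    have h1 := ih (R ⊓ normalizer (P : Set G)) (by have := card_lt_of_lt hlt; omega)
      (hR.to_le inf_le_left) (le_inf hPR le_normalizer)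
    exact (lt_inf_normalizer hR hlt).not_ge (inf_le_inf_left R h1)
  obtain ⟨k, hk, hkR⟩ := H70.exists_cj_le_sylow S (hSM.trans (le_normalizer_pCoreOf M)) hR hRP
  have hkP : cj k P = P := H70.cj_eq_self_iff.mpr hk
  set R' := cj k R
  have hPR' : P ≤ R' := hkP.ge.trans (H70.cj_mono k hPR)
  suffices hsuf : normalizer (R' : Set G) ≤ normalizer (P : Set G) by
    intro g hg
    have h1 : k * g * k⁻¹ ∈ normalizer (R' : Set G) :=
      le_normalizer_map (MulAut.conj k).toMonoidHom ⟨g, hg, rfl⟩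
    have := mul_mem (mul_mem (inv_mem hk) (hsuf h1)) hk
    simpa [mul_assoc] using this
  set K := M ⊔ normalizer (R' : Set G)
  have hconj : ∀ x ∈ K, cj x Y ≤ P := by
    intro x hx
    rw [show K = closure ((M : Set G) ∪ normalizer (R' : Set G)) by
      rw [Subgroup.closure_union, Subgroup.closure_eq, Subgroup.closure_eq]] at hx
    obtain ⟨l, hl, rfl⟩ : ∃ l : List G, (∀ y ∈ l, y ∈ M ∨ y ∈ normalizer (R' : Set G)) ∧
        l.prod = x := by
      rw [← mem_toSubmonoid, closure_toSubmonoid] at hx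
      obtain ⟨l, hl, rfl⟩ := Submonoid.exists_list_of_mem_closure hx
      refine ⟨l, fun y hy => ?_, rfl⟩
      rcases hl y hy with hy' | hy'
      · exact hy'
      · exact hy'.imp (fun a => by simpa using inv_mem a) (fun a => by simpa using inv_mem a)
    exact frak_conj_le_core hSM hM hasym hPR' hkR _ l le_rfl hl
  set V := ⨆ x : K, cj (x : G) Y
  have hVP : V ≤ P := iSup_le fun x => hconj x x.2
  have hKV : K ≤ normalizer (V : Set G) := by
    intro l hl
    refine H70.cj_eq_self_iff.mp (H70.eq_of_cj_le ?_)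
    simp only [V, cj, Subgroup.map_iSup]
    exact iSup_le fun x => (H70.cj_cj l (x : G) Y).le.trans
      (le_iSup (fun x : K => cj (x : G) Y) ⟨l * x, mul_mem hl x.2⟩)
  have hKne : Cfsg.pCoreOf p K ≠ ⊥ := by
    intro e
    refine largest_ne_bot S hSM h.core_ne h.core_cent (le_bot_iff.mp ?_)
    rw [← e]
    refine le_trans ?_ (le_pCoreOf (hVP.trans ((pCoreOf_le M).trans le_sup_left)) hKV
      ((isPGroup_pCoreOf M).to_le hVP))
    refine le_trans ?_ (le_iSup (fun x : K => cj (x : G) Y) 1)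
    rw [Subgroup.coe_one, H70.cj_one]
  have hKdag := h.unique K (mem_charP_of_parabolic hG S (hSM.trans le_sup_left) hKne) le_sup_left
  intro g hg
  have hgY : g ∈ normalizer (centralizer (Y : Set G) : Set G) :=
    normalizer_le_normalizer_centralizer Y (h.dag_le (hKdag (mem_sup_right hg)))
  refine H70.cj_eq_self_iff.mp (H70.eq_of_cj_le ?_)
  refine le_trans ?_ ((inf_le_inf_right _ hkR).trans h.core_eq.ge)
  refine le_inf ((H70.cj_mono g hPR').trans (H70.cj_eq_self_iff.mpr hg).le) ?_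
  exact (H70.cj_mono g (h.core_eq.le.trans inf_le_right)).trans (H70.cj_eq_self_iff.mpr hgY).le

theorem frak_asym_props [Finite G] [Fact p.Prime] (hG : Cfsg.IsOfParabolicCharacteristic p G)
    (hSM : (S : Subgroup G) ≤ M) (hM : Cfsg.IsInFrakM p M)
    (hasym : ¬ Cfsg.IsSymmetricIn (Cfsg.largestPReducedOf p M)) :
    (∀ L : Subgroup G, IsPGroup p ↥L → Cfsg.pCoreOf p M ≤ L →
      normalizer (L : Set G) ≤ normalizer (Cfsg.pCoreOf p M : Set G) ∧
      normalizer (Cfsg.pCoreOf p M : Set G) ≤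
        M ⊔ centralizer (Cfsg.largestPReducedOf p M : Set G)) ∧
    Cfsg.IsWeaklyClosedSubgroup p (Cfsg.pCoreOf p M) := by
  have h1 := (frakFacts hSM hM).normalizer_core_le hG hSM
  refine ⟨fun L hL hPL => ⟨frak_normalizer_le hG hSM hM hasym _ L le_rfl hL hPL, h1⟩, ?_⟩
  exact wc_of_normalizers (isPGroup_pCoreOf M) fun R hR hPR =>
    frak_normalizer_le hG hSM hM hasym _ R le_rfl hR hPR

theorem frak_asym_fusion [Finite G] [Fact p.Prime] (hG : Cfsg.IsOfParabolicCharacteristic p G)
    (hSM : (S : Subgroup G) ≤ M) (hM : Cfsg.IsInFrakM p M)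
    (hasym : ¬ Cfsg.IsSymmetricIn (Cfsg.largestPReducedOf p M)) {x g : G}
    (hx : x ∈ Cfsg.largestPReducedOf p M) (hgx : g * x * g⁻¹ ∈ Cfsg.largestPReducedOf p M) :
    ∃ m ∈ M, m * x * m⁻¹ = g * x * g⁻¹ := by
  obtain ⟨hN, hwc⟩ := frak_asym_props hG hSM hM hasym
  have hY := redIn_largest (p := p) M
  set Y := Cfsg.largestPReducedOf p M
  set P := Cfsg.pCoreOf p M
  set y := g * x * g⁻¹ with hy
  set K := centralizer ({y} : Set G)
  have hPK : P ≤ K := by
    intro a ha
    rw [mem_centralizer_iff]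
    intro z hz
    rw [Set.mem_singleton_iff.mp hz]
    exact (mem_centralizer_iff.mp (hY.pCoreOf_le ha)) y hgx
  have hgK : cj g P ≤ K := by
    rintro _ ⟨a, ha, rfl⟩
    rw [mem_centralizer_iff]
    intro z hz
    rw [Set.mem_singleton_iff.mp hz]
    show g * x * g⁻¹ * (g * a * g⁻¹) = g * a * g⁻¹ * (g * x * g⁻¹)
    calc g * x * g⁻¹ * (g * a * g⁻¹) = g * (x * a) * g⁻¹ := by group
      _ = g * (a * x) * g⁻¹ := by rw [(mem_centralizer_iff.mp (hY.pCoreOf_le ha)) x hx]
      _ = _ := by group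
  obtain ⟨k, hk, hgk⟩ := wc_conj_in (isPGroup_pCoreOf M) hwc hPK hgK
  have hmem : k⁻¹ * g ∈ normalizer (P : Set G) := by
    rw [← H70.cj_eq_self_iff, ← H70.cj_cj, hgk, H70.cj_cj, inv_mul_cancel, H70.cj_one]
  obtain ⟨c, hc, m, hm, hcm⟩ := sup_eq_mul_of_le_normalizer
    (hY.norm.trans (normalizer_le_normalizer_centralizer Y))
    (show k⁻¹ * g ∈ centralizer (Y : Set G) ⊔ M by
      rw [sup_comm]; exact (hN P (isPGroup_pCoreOf M) le_rfl).2 hmem)
  refine ⟨m, hm, ?_⟩
  have h1 : m * x * m⁻¹ ∈ Y := conj_mem_of_mem_normalizer (hY.norm hm) hx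
  have h2 : k * y = y * k := ((mem_centralizer_iff.mp hk) y rfl).symm
  have h3 : c * (m * x * m⁻¹) = (m * x * m⁻¹) * c := ((mem_centralizer_iff.mp hc) _ h1).symm
  calc m * x * m⁻¹ = (m * x * m⁻¹) * c * c⁻¹ := by group
    _ = c * (m * x * m⁻¹) * c⁻¹ := by rw [h3]
    _ = (c * m) * x * (c * m)⁻¹ := by group
    _ = k⁻¹ * (g * x * g⁻¹) * k := by rw [hcm]; group
    _ = k⁻¹ * (y * k) := by rw [hy]; group
    _ = g * x * g⁻¹ := by rw [← h2, hy]; group

/-- Every subgroup over `O_p(M)` of a group of characteristic `p` has characteristic `p`. -/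
theorem charPSub_of_wc [Finite G] [Fact p.Prime] {P K L : Subgroup G} (hP : IsPGroup p P)
    (hP1 : P ≠ ⊥) (hwc : Cfsg.IsWeaklyClosedSubgroup p P) (hC : centralizer (P : Set G) ≤ P)
    (hPK : P ≤ K) (hKL : K ≤ L) (hL : CharPSub p L) : CharPSub p K := by
  have hPL : P ≤ L := hPK.trans hKL
  have htop : CharPSub p (⊤ : Subgroup L) := charPSub_top.mpr (charP_iff.mpr hL)
  have h := (wc_centralizer_isPGroup (Q := P.subgroupOf L) (L := K.subgroupOf L)
    (hP.comap_subtype) (fun e => hP1 ?_) (wc_subgroupOf hP hwc hPL) (comap_mono hPK) (Or.inl htop)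
    ?_).2.2
  · have h' := H74.IsCharP.map (f := L.subtype) (show H74.IsCharP p (K.subgroupOf L) from h)
      L.subtype_injective
    rwa [map_subgroupOf_eq_of_le hKL] at h'
  · rw [← map_subgroupOf_eq_of_le hPL, e, Subgroup.map_bot]
  · intro x hx
    rw [mem_subgroupOf]
    refine hC ?_
    rw [mem_centralizer_iff]
    intro a ha
    exact congrArg Subtype.val ((mem_centralizer_iff.mp hx) ⟨a, hPL ha⟩ ha)

end H75
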