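import Cfsg.Agent.H75.Asym
import Cfsg.Agent.H75.FStar

/-!
`Y_M ≤ Y_H` for characteristic `p` subgroups over the preimage of `F*`; tall `Y_M`.
-/

set_option autoImplicit false

namespace H75

open Subgroup
open scoped commutatorElement
open H70 (cj)

variable {G : Type*} [Group G] {p : ℕ}

theorem frak_le_largest [Finite G] [Fact p.Prime] (S : Sylow p G) (M : Subgroup G)
    (hSM : (S : Subgroup G) ≤ M) (hG : Cfsg.IsOfParabolicCharacteristic p G)
    (hM : Cfsg.IsInFrakM p M)
    (hasym : ¬ Cfsg.IsSymmetricIn (Cfsg.largestPReducedOf p M))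
    [hn : ((centralizer (Cfsg.largestPReducedOf p M : Set G)).subgroupOf
      (M ⊔ centralizer (Cfsg.largestPReducedOf p M : Set G))).Normal]
    (F : Subgroup G)
    (hF : F = ((Cfsg.generalizedFittingSubgroup
      (↥(M ⊔ centralizer (Cfsg.largestPReducedOf p M : Set G)) ⧸
        (centralizer (Cfsg.largestPReducedOf p M : Set G)).subgroupOf
          (M ⊔ centralizer (Cfsg.largestPReducedOf p M : Set G)))).comap
      (QuotientGroup.mk' ((centralizer (Cfsg.largestPReducedOf p M : Set G)).subgroupOf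
          (M ⊔ centralizer (Cfsg.largestPReducedOf p M : Set G))))).map
      (M ⊔ centralizer (Cfsg.largestPReducedOf p M : Set G)).subtype)
    (H : Subgroup G) (hFH : F ≤ H) (hH : CharPSub p H) :
    Cfsg.largestPReducedOf p M ≤ Cfsg.largestPReducedOf p H := by
  have h := frakFacts hSM hM
  obtain ⟨hN, hwc⟩ := frak_asym_props hG hSM hM hasym
  set Y := Cfsg.largestPReducedOf p M
  set C := centralizer (Y : Set G)
  set D := M ⊔ C
  set P := Cfsg.pCoreOf p M
  set Cn := C.subgroupOf D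
  set q := QuotientGroup.mk' Cn
  have hCD : C ≤ D := le_sup_right
  have hqC : ∀ a : D, q a = 1 ↔ (a : G) ∈ C := fun a => QuotientGroup.eq_one_iff a
  have hCF : C ≤ F := fun x hx => by
    rw [hF]
    refine ⟨⟨x, hCD hx⟩, ?_, rfl⟩
    rw [SetLike.mem_coe, mem_comap, (hqC ⟨x, hCD hx⟩).mpr hx]
    exact one_mem _
  have hFD : F ≤ D := hF ▸ map_subtype_le _
  -- the quotient has trivial `p`-core
  have hred : RedIn p Y D := by
    have := redIn_largest (p := p) D
    rwa [← hM.2.2.2.1] at this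
  have hQ : Cfsg.pCore p (↥D ⧸ Cn) = ⊥ := by
    have := H1.pCore_normal' p (↥D ⧸ Cn)
    set N := ((Cfsg.pCore p (↥D ⧸ Cn)).comap q).map D.subtype
    have hND : N ≤ C := hred.red N (map_subtype_le _) (le_normalizer_of_conj fun k hk a ha => by
      obtain ⟨b, hb, rfl⟩ := ha
      exact ⟨⟨k, hk⟩ * b * ⟨k, hk⟩⁻¹,
        (Normal.comap (inferInstance : (Cfsg.pCore p (↥D ⧸ Cn)).Normal) q).conj_mem b hb _, rfl⟩) (by
      rintro _ ⟨b, hb, rfl⟩
      obtain ⟨k, hk⟩ := H1.isPGroup_pCore p _ ⟨q b, hb⟩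
      refine ⟨k, ?_⟩
      rw [← map_pow]
      exact (hqC (b ^ p ^ k)).mp (by rw [map_pow]; exact congrArg Subtype.val hk))
    rw [eq_bot_iff]
    intro z hz
    obtain ⟨b, rfl⟩ := QuotientGroup.mk'_surjective Cn z
    rw [mem_bot]
    exact (hqC b).mpr (hND ⟨b, hz, rfl⟩)
  set X := Cfsg.generalizedFittingSubgroup (↥D ⧸ Cn)
  have hFmem : ∀ a : D, (a : G) ∈ F ↔ q a ∈ X := fun a => by
    rw [hF]
    constructor
    · rintro ⟨b, hb, hba⟩
      rwa [← D.subtype_injective hba]
    · exact fun ha => ⟨a, ha, rfl⟩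
  -- a `p`-subgroup of `D` centralizing `F` modulo `C` lies in `C`
  have lemA : ∀ U : Subgroup G, IsPGroup p U → U ≤ D →
      (∀ f ∈ F, ∀ u ∈ U, ⁅f, u⁆ ∈ C) → U ≤ C := by
    intro U hU hUD hcomm u hu
    have h1 : ⁅X, (U.subgroupOf D).map q⁆ = ⊥ := by
      rw [eq_bot_iff, commutator_le]
      rintro x hx _ ⟨v, hv, rfl⟩
      obtain ⟨a, rfl⟩ := QuotientGroup.mk'_surjective Cn x
      rw [mem_bot]
      show ⁅q a, q v⁆ = 1
      rw [← map_commutatorElement, hqC]
      exact hcomm _ ((hFmem a).mpr hx) _ hv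
    have h2 := eq_bot_of_centralizes_fStar hQ ((hU.comap_subtype).map q) h1
    exact (hqC ⟨u, hUD hu⟩).mp (mem_bot.mp (h2 ▸ mem_map_of_mem q (show (⟨u, hUD hu⟩ : D) ∈ U.subgroupOf D from hu)))
  -- a subgroup normal in `F`, a `p`-group modulo `C`, lies in `C`
  have lemB : ∀ N : Subgroup G, N ≤ F → F ≤ normalizer (N : Set G) → PowInto p N C → N ≤ C := by
    intro N hNF hFN hp x hx
    set Nq := (N.subgroupOf D).map q
    have hle : Nq ≤ X := by
      rintro _ ⟨v, hv, rfl⟩
      exact (hFmem v).mp (hNF hv)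
    have hnorm : X ≤ normalizer (Nq : Set (↥D ⧸ Cn)) := by
      intro z hz
      obtain ⟨a, rfl⟩ := QuotientGroup.mk'_surjective Cn z
      refine le_normalizer_map q (mem_map_of_mem q ?_)
      exact le_normalizer_comap D.subtype (hFN ((hFmem a).mpr hz))
    have hs : Nq.IsSubnormal :=
      IsSubnormal.step Nq X hle (inferInstance : X.Normal).isSubnormal
        ((normal_subgroupOf_iff_le_normalizer hle).mpr hnorm)
    have hNp : IsPGroup p Nq := by
      rintro ⟨_, v, hv, rfl⟩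
      obtain ⟨k, hk⟩ := hp _ hv
      refine ⟨k, Subtype.ext ?_⟩
      show (q v) ^ p ^ k = 1
      rw [← map_pow, hqC]
      simpa using hk
    have h2 := le_pCore_of_subnormal hs hNp
    rw [hQ] at h2
    have hxD : x ∈ D := hFD (hNF hx)
    exact (hqC ⟨x, hxD⟩).mp (mem_bot.mp (h2 (mem_map_of_mem q (show (⟨x, hxD⟩ : D) ∈ N.subgroupOf D from hx))))
  have hFn : D ≤ normalizer (F : Set G) := by
    intro d hd
    have : (⟨d, hd⟩ : D) ∈ normalizer ((X.comap q : Subgroup D) : Set D) :=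
      le_top.trans (normalizer_eq_top_iff.mpr (Normal.comap inferInstance q)).ge (mem_top _)
    rw [hF]
    exact le_normalizer_map D.subtype (mem_map_of_mem D.subtype this)
  have hYD : Y ≤ H := (elemAb_le_centralizer (redIn_largest M).elem).trans (hCF.trans hFH)
  have hPH : P ≤ H := (h.core_eq.le.trans inf_le_right).trans (hCF.trans hFH)
  obtain ⟨T, hT, hPT⟩ := exists_maxP (isPGroup_pCoreOf M) hPH
  have hTD : T ≤ D :=
    le_normalizer.trans ((hN T hT.pgroup hPT).1.trans (hN T hT.pgroup hPT).2)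
  set O := Cfsg.pCoreOf p H
  have hOT : O ≤ T := hT.le_of_normalized (isPGroup_pCoreOf H) (pCoreOf_le H)
    (hT.le.trans (le_normalizer_pCoreOf H))
  have hOC : O ≤ C := by
    refine lemA O (isPGroup_pCoreOf H) (hOT.trans hTD) fun f hf u hu => ?_
    have hOF : O ⊓ F ≤ C := lemB _ inf_le_right
      ((le_inf (hFH.trans (le_normalizer_pCoreOf H)) le_normalizer).trans
        (normalizer_inf_le_normalizer_inf _ _))
      (powInto_of_isPGroup ((isPGroup_pCoreOf H).to_le inf_le_left))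
    have h1 : ⁅F, O⁆ ≤ O ⊓ F := le_inf
      (le_normalizer_iff_commutator_le_right.mp (hFH.trans (le_normalizer_pCoreOf H)))
      (le_normalizer_iff_commutator_le_left.mp (hOT.trans (hTD.trans hFn)))
    exact hOF (h1 (commutator_mem_commutator hf hu))
  set Zc := Cfsg.omegaOne p (O ⊓ centralizer (O : Set G))
  have hYO : Y ≤ centralizer (O : Set G) := le_centralizer_iff.mp hOC
  have hYZ : Y ≤ Zc :=
    le_omegaOne (redIn_largest M).elem.2 (le_inf ((le_inf hYD hYO).trans hH) hYO)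
  set V := ⨆ k : H, cj (k : G) Y with hVdef
  have hVZ : V ≤ Zc := iSup_le fun k => by
    refine (H70.cj_mono _ hYZ).trans ?_
    have e := H74.omegaZ_map (p := p) O (MulAut.conj (k : G)).toMonoidHom (MulAut.conj (k : G)).injective
    rw [show O.map (MulAut.conj (k : G)).toMonoidHom = O from
      H70.cj_eq_self_iff.mpr (le_normalizer_pCoreOf H k.2)] at e
    exact e.ge
  have hVn : H ≤ normalizer (V : Set G) := by
    intro l hl
    refine H70.cj_eq_self_iff.mp (H70.eq_of_cj_le ?_)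
    rw [hVdef]
    simp only [cj, Subgroup.map_iSup]
    exact iSup_le fun k => (H70.cj_cj l (k : G) Y).le.trans
      (le_iSup (fun k : H => cj (k : G) Y) ⟨l * k, mul_mem hl k.2⟩)
  have hYV : Y ≤ V := by
    refine le_trans ?_ (le_iSup (fun k : H => cj (k : G) Y) 1)
    rw [Subgroup.coe_one, H70.cj_one]
  refine hYV.trans (RedIn.le_largest (L := H) ⟨hVZ.trans ((omegaOne_le _).trans
    (inf_le_left.trans (pCoreOf_le H))), hVn, elemAb_mono (omegaOne_elemAb (centre_abelian O)) hVZ,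
    fun N hNH hHN hp => ?_⟩)
  have hT0 := maxP_inf_normal hT hNH hHN
  refine le_centralizer_closure hNH hHN hT0 ?_ hVdef hp
  refine lemA _ (hT.pgroup.to_le inf_le_left) (inf_le_left.trans hTD) fun f hf u hu => ?_
  obtain ⟨huT, huN⟩ := mem_inf.mp hu
  refine lemB (N ⊓ F) inf_le_right ((le_inf (hFH.trans hHN) le_normalizer).trans
    (normalizer_inf_le_normalizer_inf _ _))
    (powInto_mono hp inf_le_left (centralizer_le hYV)) (mem_inf.mpr ⟨?_, ?_⟩)
  · rw [commutatorElement_def]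
    exact mul_mem (conj_mem_of_mem_normalizer (hHN (hFH hf)) huN) (inv_mem huN)
  · rw [commutatorElement_def, mul_assoc, mul_assoc, ← mul_assoc u]
    exact mul_mem hf (conj_mem_of_mem_normalizer (hFn (hTD huT)) (inv_mem hf))

theorem frak_exists_frakH [Finite G] [Fact p.Prime] (S : Sylow p G) (M : Subgroup G)
    (hSM : (S : Subgroup G) ≤ M) (hG : Cfsg.IsOfParabolicCharacteristic p G)
    (hM : Cfsg.IsInFrakM p M) (htall : Cfsg.IsCharPTall p (Cfsg.largestPReducedOf p M))
    (hasym : ¬ Cfsg.IsSymmetricIn (Cfsg.largestPReducedOf p M)) :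
    ∃ H : Subgroup G, Cfsg.IsInFrakH p M H := by
  have h := frakFacts hSM hM
  obtain ⟨hN, hwc⟩ := frak_asym_props hG hSM hM hasym
  set Y := Cfsg.largestPReducedOf p M
  set C := centralizer (Y : Set G)
  set P := Cfsg.pCoreOf p M
  obtain ⟨T, L, hTL, hL, hYL⟩ := htall
  have hSD : (S : Subgroup G) ≤ M ⊔ C := hSM.trans le_sup_left
  have hP : MaxP p P C := by
    have h1 := maxP_sylow_inf S hSD (le_sup_right : C ≤ M ⊔ C)
      (h.dag_le.trans (normalizer_le_normalizer_centralizer Y))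
    rwa [← h.core_eq] at h1
  have hT : MaxP p ((T : Subgroup C).map C.subtype) C :=
    ⟨map_subtype_le _, T.isPGroup'.map _, fun R hR hRC hle => by
      have h1 : R.subgroupOf C = (T : Subgroup C) := T.is_maximal' hR.comap_subtype
        (fun x hx => hle (mem_map_of_mem _ hx))
      rw [← h1, map_subgroupOf_eq_of_le hRC]⟩
  obtain ⟨c, hc, hcT⟩ := hP.exists_conj hT
  have hL' : CharPSub p (cj c L) :=
    H74.IsCharP.map (f := (MulAut.conj c).toMonoidHom)
      (show H74.IsCharP p L from charP_iff.mp hL) (MulAut.conj c).injective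
  have hPL : P ≤ cj c L := hcT ▸ H70.cj_mono c hTL
  have hYL' : ¬ Y ≤ Cfsg.pCoreOf p (cj c L) := by
    intro hle
    rw [pCoreOf_cj, ← H70.cj_eq_self_iff.mpr (centralizer_le_normalizer _ hc)] at hle
    exact hYL ((Subgroup.map_le_map_iff_of_injective (MulAut.conj c).injective).mp hle)
  obtain ⟨H, ⟨hPH, hHL, hYH⟩, hmin⟩ := exists_min_card
    (P := fun H : Subgroup G => P ≤ H ∧ H ≤ cj c L ∧ ¬ Y ≤ Cfsg.pCoreOf p H)
    ⟨cj c L, hPL, le_rfl, hYL'⟩
  refine ⟨H, charP_iff.mpr (charPSub_of_wc (isPGroup_pCoreOf M) h.core_ne hwc h.core_cent hPH hHL hL'),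
    hPH, hYH, fun K hPK hKH => ?_⟩
  by_contra hn
  exact (card_lt_of_lt hKH).not_ge (hmin K ⟨hPK, hKH.le.trans hHL, hn⟩)

end H75
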