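import Cfsg.Agent.H75.Irreducible
import Cfsg.Agent.H75.WeaklyClosed
import Cfsg.Agent.H74.SylIn

/-!
The L-Lemma for groups minimal over a Sylow subgroup.
-/

set_option autoImplicit false

namespace H75

open Subgroup
open scoped commutatorElement
open H70 (cj)

variable {G : Type*} [Group G] {p : ℕ}

/-- `S` is a maximal `p`-subgroup of `K`. -/
structure MaxP (p : ℕ) (S K : Subgroup G) : Prop where
  le : S ≤ K
  pgroup : IsPGroup p S
  max : ∀ R : Subgroup G, IsPGroup p R → R ≤ K → S ≤ R → R = S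

theorem exists_maxP [Finite G] {D K : Subgroup G} (hD : IsPGroup p D) (hDK : D ≤ K) :
    ∃ S, MaxP p S K ∧ D ≤ S := by
  obtain ⟨S, ⟨hS, hSK, hDS⟩, hmax⟩ := exists_max_card
    (P := fun S : Subgroup G => IsPGroup p S ∧ S ≤ K ∧ D ≤ S) ⟨D, hD, hDK, le_rfl⟩
  refine ⟨S, ⟨hSK, hS, fun R hR hRK hSR => ?_⟩, hDS⟩
  exact (Subgroup.eq_of_le_of_card_ge hSR (hmax R ⟨hR, hRK, hDS.trans hSR⟩)).symm

theorem MaxP.conj {S K : Subgroup G} (h : MaxP p S K) (g : G) : MaxP p (cj g S) (cj g K) := by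
  refine ⟨H70.cj_mono g h.le, h.pgroup.map _, fun R hR hRK hSR => ?_⟩
  have h1 := h.max (cj g⁻¹ R) (hR.map _) (by
    have := H70.cj_mono g⁻¹ hRK
    rwa [H70.cj_cj, inv_mul_cancel, H70.cj_one] at this) (by
    have := H70.cj_mono g⁻¹ hSR
    rwa [H70.cj_cj, inv_mul_cancel, H70.cj_one] at this)
  exact (H70.cj_eq_iff.mp h1.symm.symm).trans (by rw [inv_inv])

theorem MaxP.conj_mem {S K : Subgroup G} (h : MaxP p S K) {g : G} (hg : g ∈ K) :
    MaxP p (cj g S) K := by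
  have := h.conj g
  rwa [H70.cj_of_mem hg] at this

theorem MaxP.exists_conj [Finite G] [Fact p.Prime] {S S' K : Subgroup G} (h : MaxP p S K)
    (h' : MaxP p S' K) : ∃ k ∈ K, cj k S' = S := by
  obtain ⟨R, hR, hRK, hSR, k, hk, hkR⟩ :=
    exists_conj_common_pgroup h.pgroup h'.pgroup h.le h'.le
  refine ⟨k, hk, ?_⟩
  rw [← h.max R hR hRK hSR]
  exact ((h'.conj_mem hk).max R hR hRK hkR).symm

theorem MaxP.card_eq [Finite G] [Fact p.Prime] {S S' K : Subgroup G} (h : MaxP p S K)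
    (h' : MaxP p S' K) : Nat.card S' = Nat.card S := by
  obtain ⟨k, -, hk⟩ := h.exists_conj h'
  rw [← hk, H70.card_cj]

theorem MaxP.le_of_normalized [Finite G] [Fact p.Prime] {S K W : Subgroup G} (h : MaxP p S K)
    (hW : IsPGroup p W) (hWK : W ≤ K) (hSW : S ≤ normalizer (W : Set G)) : W ≤ S :=
  le_sup_right.trans (h.max _ (h.pgroup.to_sup_of_normal_right' hW hSW) (sup_le h.le hWK)
    le_sup_left).le

theorem maxP_top_sylow [Finite G] [Fact p.Prime] {S : Subgroup G} (h : MaxP p S ⊤) :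
    ∃ P : Sylow p G, (P : Subgroup G) = S :=
  ⟨⟨S, h.pgroup, fun {Q} hQ hle => h.max Q hQ le_top hle⟩, rfl⟩

theorem sylow_maxP (P : Sylow p G) : MaxP p (P : Subgroup G) ⊤ :=
  ⟨le_top, P.isPGroup', fun R hR _ hle => P.is_maximal' hR hle⟩

theorem pCoreOf_cj (g : G) (K : Subgroup G) :
    Cfsg.pCoreOf p (cj g K) = cj g (Cfsg.pCoreOf p K) :=
  H74.pCoreOf_map K _ (MulAut.conj g).injective

/-- The data on which the recursion runs. -/
structure LData (p : ℕ) (A B : Subgroup G) (K : Subgroup G) (M₁ : Subgroup G) : Prop where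
  hB : B ≤ K
  hA : ¬ A ≤ Cfsg.pCoreOf p K
  proper : ¬ K ≤ M₁
  sylow : ∃ S, MaxP p S K ∧ S ≤ M₁
  inv : ∀ S W : Subgroup G, MaxP p S K → IsPGroup p W → B ≤ W → W ≤ K →
    S ≤ normalizer (W : Set G) → ∀ g ∈ K, S ≤ cj g M₁ →
      K ⊓ normalizer (W : Set G) ≤ cj g M₁

/-- The conclusion of the L-Lemma. -/
def LConcl (p : ℕ) (A B M : Subgroup G) : Prop :=
  ∃ L : Subgroup G, B ≤ L ∧ ∃ L₀ : Subgroup G, A ⊔ Cfsg.pCoreOf p L ≤ L₀ ∧ L₀ < L ∧
    (∀ X : Subgroup G, A ⊔ Cfsg.pCoreOf p L ≤ X → X < L → X ≤ L₀) ∧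
    (∃ g : G, L₀ = L ⊓ cj g M) ∧
    ∀ x ∈ L, x ∉ L₀ → (A ⊔ cj x A) ⊔ Cfsg.pCoreOf p L = L

theorem lLemma_aux [Finite G] [Fact p.Prime] (A M : Subgroup G)
    (hB : IsPGroup p ↥(A ⊔ Cfsg.pCore p G))
    (hMn : normalizer (M : Set G) = M) :
    ∀ (n : ℕ) (K : Subgroup G) (a : G), Nat.card K ≤ n →
      LData p A (A ⊔ Cfsg.pCore p G) K (cj a M) → LConcl p A (A ⊔ Cfsg.pCore p G) M := by
  intro n
  induction n with
  | zero => intro K a h; exact absurd h (by simp [Nat.card_pos.ne'])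
  | succ n ih =>
  intro K a hcard hd
  set Q := Cfsg.pCore p G with hQdef
  set B := A ⊔ Q with hBdef
  have hQn : Q.Normal := H1.pCore_normal' p G
  have hQp : IsPGroup p Q := H1.isPGroup_pCore p G
  set M₁ := cj a M with hM₁
  have hQcj : ∀ g : G, cj g Q = Q := fun g => Normal.map_conj_eq Q g
  -- self-normalisation of members
  have hself : ∀ g x : G, cj x (cj g M₁) = cj g M₁ → x ∈ cj g M₁ := by
    intro g x h
    have h1 : x ∈ normalizer ((cj g M₁ : Subgroup G) : Set G) := H70.cj_eq_self_iff.mp h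
    rw [hM₁, H70.cj_cj] at h1 ⊢
    have h2 : cj (g * a)⁻¹ (cj x (cj (g * a) M)) = M := by
      rw [H70.cj_eq_self_iff.mpr h1, H70.cj_cj, inv_mul_cancel, H70.cj_one]
    rw [H70.cj_cj, H70.cj_cj, H70.cj_eq_self_iff, hMn] at h2
    rw [H70.mem_cj]
    simpa [mul_assoc] using h2
  obtain ⟨S₀, hS₀, hS₀M⟩ := hd.sylow
  have hex : ∀ D : Subgroup G, IsPGroup p D → D ≤ K → ∃ S, MaxP p S K ∧ D ≤ S ∧
      ∃ g ∈ K, S ≤ cj g M₁ := by
    intro D hD hDK
    obtain ⟨S, hS, hDS⟩ := exists_maxP hD hDK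
    obtain ⟨k, hk, hkS⟩ := hS.exists_conj hS₀
    exact ⟨S, hS, hDS, k, hk, hkS ▸ H70.cj_mono k hS₀M⟩
  -- each Sylow subgroup lies in one member
  have huniq : ∀ S : Subgroup G, MaxP p S K → ∀ g ∈ K, ∀ g' ∈ K, S ≤ cj g M₁ → S ≤ cj g' M₁ →
      cj g M₁ = cj g' M₁ := by
    intro S hS g hg g' hg' h1 h2
    obtain ⟨T, hT, hBT⟩ := exists_maxP hB hd.hB
    obtain ⟨h, hh, hhS⟩ := hT.exists_conj hS
    have e1 : T ≤ cj (h * g) M₁ := by rw [← hhS, ← H70.cj_cj]; exact H70.cj_mono h h1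
    have e2 : T ≤ cj (h * g') M₁ := by rw [← hhS, ← H70.cj_cj]; exact H70.cj_mono h h2
    suffices cj (h * g) M₁ = cj (h * g') M₁ by
      rw [← H70.cj_cj, ← H70.cj_cj] at this
      exact Subgroup.map_injective (MulAut.conj h).injective this
    set g1 := h * g
    set g2 := h * g'
    have hg1 : g1 ∈ K := mul_mem hh hg
    have hg2 : g2 ∈ K := mul_mem hh hg'
    set x := g1 * g2⁻¹ with hx
    have hxK : x ∈ K := mul_mem hg1 (inv_mem hg2)
    have hN := hd.inv T T hT hT.pgroup hBT hT.le le_normalizer g1 hg1 e1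
    have hxT : cj x T ≤ cj g1 M₁ := by
      have := H70.cj_mono x e2
      rwa [H70.cj_cj, show x * g2 = g1 by rw [hx]; group] at this
    have hmax : ∀ U, MaxP p U K → U ≤ cj g1 M₁ → MaxP p U (K ⊓ cj g1 M₁) := fun U hU hU' =>
      ⟨le_inf hU.le hU', hU.pgroup, fun R hR hRK hUR => hU.max R hR (hRK.trans inf_le_left) hUR⟩
    obtain ⟨k, hk, hkT⟩ := (hmax T hT e1).exists_conj (hmax _ (hT.conj_mem hxK) hxT)
    rw [H70.cj_cj] at hkT
    have h3 : k * x ∈ cj g1 M₁ :=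
      hN (mem_inf.mpr ⟨mul_mem (mem_inf.mp hk).1 hxK, H70.cj_eq_self_iff.mp hkT⟩)
    have h4 : x ∈ cj g1 M₁ := by
      simpa using mul_mem (inv_mem (mem_inf.mp hk).2) h3
    have h5 := H70.cj_of_mem h4
    calc cj g1 M₁ = cj x⁻¹ (cj x (cj g1 M₁)) := by rw [H70.cj_cj x⁻¹, inv_mul_cancel, H70.cj_one]
      _ = cj x⁻¹ (cj g1 M₁) := by rw [h5]
      _ = cj g2 M₁ := by
        have h6 : x⁻¹ ∈ cj g1 M₁ := inv_mem h4
        rw [H70.cj_of_mem h6]
        have h7 : cj x (cj g2 M₁) = cj g1 M₁ := by rw [H70.cj_cj, hx]; congr 1; group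
        rw [← h7] at h6 ⊢
        have h8 := H70.cj_of_mem h6
        rw [H70.cj_cj, inv_mul_cancel, H70.cj_one] at h8
        exact h8.symm
  -- a Sylow subgroup of `K` inside a member above a `p`-subgroup of it
  have hsylMem : ∀ D : Subgroup G, IsPGroup p D → D ≤ K → ∀ g ∈ K, D ≤ cj g M₁ →
      ∃ S, MaxP p S K ∧ D ≤ S ∧ S ≤ cj g M₁ := by
    intro D hD hDK g hg hDg
    obtain ⟨S, hS, hDS⟩ := exists_maxP hD (le_inf hDK hDg)
    refine ⟨S, ⟨hS.le.trans inf_le_left, hS.pgroup, fun R hR hRK hSR => ?_⟩, hDS,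
      hS.le.trans inf_le_right⟩
    obtain ⟨R', hR', hRR'⟩ := exists_maxP hR hRK
    have hS' : MaxP p (cj g S₀) (K ⊓ cj g M₁) :=
      ⟨le_inf (hS₀.conj_mem hg).le (H70.cj_mono g hS₀M), hS₀.pgroup.map _,
        fun R hR hRK hle => (hS₀.conj_mem hg).max R hR (hRK.trans inf_le_left) hle⟩
    refine (Subgroup.eq_of_le_of_card_ge hSR ?_).symm
    rw [hS'.card_eq hS, H70.card_cj, hR'.card_eq hS₀]
    exact card_le_of_le hRR'
  -- generic uniqueness above a bound
  have huniqB : ∀ m : ℕ, (∀ W S : Subgroup G, IsPGroup p W → B ≤ W → W ≤ K →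
      MaxP p S (K ⊓ normalizer (W : Set G)) → m < Nat.card S → ∀ g ∈ K, S ≤ cj g M₁ →
      K ⊓ normalizer (W : Set G) ≤ cj g M₁) →
      ∀ D : Subgroup G, IsPGroup p D → B ≤ D → D ≤ K → m ≤ Nat.card D →
        ∀ g ∈ K, ∀ g' ∈ K, D ≤ cj g M₁ → D ≤ cj g' M₁ → cj g M₁ = cj g' M₁ := by
    intro m hgood D hD hBD hDK hm g hg g' hg' h1 h2
    by_contra hne
    obtain ⟨D', ⟨hD', hBD', hD'K, hm', g1, hg1, g2, hg2, e1, e2, hne'⟩, hmax⟩ := exists_max_card
      (P := fun D : Subgroup G => IsPGroup p D ∧ B ≤ D ∧ D ≤ K ∧ m ≤ Nat.card D ∧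
        ∃ g ∈ K, ∃ g' ∈ K, D ≤ cj g M₁ ∧ D ≤ cj g' M₁ ∧ cj g M₁ ≠ cj g' M₁)
      ⟨D, hD, hBD, hDK, hm, g, hg, g', hg', h1, h2, hne⟩
    obtain ⟨S1, hS1, hDS1, hS1g⟩ := hsylMem D' hD' hD'K g1 hg1 e1
    obtain ⟨S2, hS2, hDS2, hS2g⟩ := hsylMem D' hD' hD'K g2 hg2 e2
    have hlt1 : D' < S1 := lt_of_le_of_ne hDS1 fun e =>
      hne' (huniq S1 hS1 g1 hg1 g2 hg2 hS1g (e ▸ e2))
    have hlt2 : D' < S2 := lt_of_le_of_ne hDS2 fun e =>
      hne' (huniq S2 hS2 g1 hg1 g2 hg2 (e ▸ e1) hS2g)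
    have n1 := lt_inf_normalizer hS1.pgroup hlt1
    have n2 := lt_inf_normalizer hS2.pgroup hlt2
    set U := K ⊓ normalizer (D' : Set G)
    set D1 := S1 ⊓ normalizer (D' : Set G)
    set D2 := S2 ⊓ normalizer (D' : Set G)
    obtain ⟨R, hR, hD1R⟩ := exists_maxP (K := U) (D := D1) hS1.pgroup.to_inf_left
      (inf_le_inf_right _ hS1.le)
    obtain ⟨S3, hS3, hRS3, g3, hg3, hS3g⟩ := hex R hR.pgroup (hR.le.trans inf_le_left)
    have hRg : R ≤ cj g3 M₁ := hRS3.trans hS3g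
    have hlt : Nat.card D' < Nat.card D1 := card_lt_of_lt n1
    have hU := hgood D' R hD' hBD' hD'K hR (by have := card_le_of_le hD1R; omega) g3 hg3 hRg
    have hD2U : D2 ≤ U := inf_le_inf_right _ hS2.le
    have key : ∀ (D'' : Subgroup G), IsPGroup p D'' → D' < D'' → D'' ≤ K → ∀ u ∈ K, ∀ v ∈ K,
        D'' ≤ cj u M₁ → D'' ≤ cj v M₁ → cj u M₁ = cj v M₁ := by
      intro D'' hD'' hlt'' hD''K u hu v hv hu' hv'
      by_contra hne''
      have := card_lt_of_lt hlt''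
      exact absurd (hmax D'' ⟨hD'', hBD'.trans hlt''.le, hD''K, by omega, u, hu, v, hv, hu', hv', hne''⟩)
        (by omega)
    have k1 := key D1 hS1.pgroup.to_inf_left n1 (inf_le_left.trans hS1.le) g1 hg1 g3 hg3
      (inf_le_left.trans hS1g) (hD1R.trans hRg)
    have k2 := key D2 hS2.pgroup.to_inf_left n2 (inf_le_left.trans hS2.le) g2 hg2 g3 hg3
      (inf_le_left.trans hS2g) (hD2U.trans hU)
    exact hne' (k1.trans k2.symm)
  by_cases hbad : ∀ W S : Subgroup G, IsPGroup p W → B ≤ W → W ≤ K →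
      MaxP p S (K ⊓ normalizer (W : Set G)) → ∀ g ∈ K, S ≤ cj g M₁ →
        K ⊓ normalizer (W : Set G) ≤ cj g M₁
  · -- `B` lies in one member; take a minimal subgroup over `B` outside it
    obtain ⟨S, hS, hBS, g0, hg0, hSg0⟩ := hex B hB hd.hB
    set X0 := cj g0 M₁
    have hBX : B ≤ X0 := hBS.trans hSg0
    have hU : ∀ D : Subgroup G, IsPGroup p D → B ≤ D → D ≤ K → ∀ g ∈ K, D ≤ cj g M₁ →
        cj g M₁ = X0 := fun D hD hBD hDK g hg hDg =>
      huniqB 0 (fun W S h1 h2 h3 h4 _ => hbad W S h1 h2 h3 h4) B hB le_rfl hd.hB (Nat.zero_le _)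
        g hg g0 hg0 (hBD.trans hDg) hBX
    obtain ⟨L, ⟨hBL, hLK, hLX⟩, hmin⟩ := exists_min_card
      (P := fun L : Subgroup G => B ≤ L ∧ L ≤ K ∧ ¬ L ≤ X0)
      ⟨K, hd.hB, le_rfl, fun h => hd.proper (by
        have := H70.cj_mono g0⁻¹ h
        rwa [H70.cj_cj, inv_mul_cancel, H70.cj_one, H70.cj_of_mem (inv_mem hg0)] at this)⟩
    set P := Cfsg.pCoreOf p L
    have hQP : Q ≤ P := le_pCoreOf (le_sup_right.trans hBL)
      (by rw [normalizer_eq_top]; exact le_top) hQp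
    have hPL : P ≤ L := H75.pCoreOf_le L
    have hAL : A ≤ L := le_sup_left.trans hBL
    have hAP : ¬ A ≤ P := by
      intro hAP
      obtain ⟨S', hS', hPS', g', hg', hS'g⟩ := hex P (isPGroup_pCoreOf L) (hPL.trans hLK)
      have e : cj g' M₁ = X0 :=
        hU P (isPGroup_pCoreOf L) (sup_le hAP hQP) (hPL.trans hLK) g' hg' (hPS'.trans hS'g)
      refine hLX fun l hl => hself g0 l ?_
      have hlP : cj l P = P := H70.cj_eq_self_iff.mpr (le_normalizer_pCoreOf L hl)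
      change cj l X0 = X0
      rw [← e, H70.cj_cj]
      refine (hU P (isPGroup_pCoreOf L) (sup_le hAP hQP) (hPL.trans hLK) (l * g')
        (mul_mem (hLK hl) hg') ?_).trans e.symm
      rw [← H70.cj_cj, ← hlP]
      exact H70.cj_mono l (hPS'.trans hS'g)
    set B' := A ⊔ P
    have hB'p : IsPGroup p B' := (hB.to_le le_sup_left).to_sup_of_normal_right'
      (isPGroup_pCoreOf L) (hAL.trans (le_normalizer_pCoreOf L))
    have hB'L : B' ≤ L := sup_le hAL hPL
    have hBB' : B ≤ B' := sup_le le_sup_left (hQP.trans le_sup_right)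
    obtain ⟨S', hS', hPS', g', hg', hS'g⟩ := hex B' hB'p (hB'L.trans hLK)
    have e : cj g' M₁ = X0 := hU B' hB'p hBB' (hB'L.trans hLK) g' hg' (hPS'.trans hS'g)
    have hB'X : B' ≤ X0 := e ▸ hPS'.trans hS'g
    have hlow : ∀ X : Subgroup G, B ≤ X → X < L → X ≤ X0 := fun X hX hXL => by
      by_contra h
      exact (card_lt_of_lt hXL).not_ge (hmin X ⟨hX, hXL.le.trans hLK, h⟩)
    refine ⟨L, hBL, L ⊓ X0, le_inf hB'L hB'X, inf_le_left.lt_of_ne fun h => hLX (inf_eq_left.mp h),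
      fun X hX hXL => le_inf hXL.le (hlow X (hBB'.trans hX) hXL), ⟨g0 * a, ?_⟩, fun x hx hx0 => ?_⟩
    · rw [← H70.cj_cj]
    · by_contra hne
      have hle : (A ⊔ cj x A) ⊔ P ≤ L :=
        sup_le (sup_le hAL ((H70.cj_mono x hAL).trans (H70.cj_of_mem hx).le)) hPL
      have hYX := hlow _ (sup_le (le_sup_left.trans le_sup_left) (hQP.trans le_sup_right))
        (lt_of_le_of_ne hle hne)
      refine hx0 (mem_inf.mpr ⟨hx, ?_⟩)
      have h1 : cj x B ≤ X0 := by
        refine le_trans ?_ hYX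
        rw [hBdef, show cj x (A ⊔ Q) = cj x A ⊔ cj x Q from Subgroup.map_sup _ _ _, hQcj]
        exact sup_le (le_sup_right.trans le_sup_left) (hQP.trans le_sup_right)
      have h2 : B ≤ cj (x⁻¹ * g0) M₁ := by
        have := H70.cj_mono x⁻¹ h1
        rwa [H70.cj_cj, inv_mul_cancel, H70.cj_one, H70.cj_cj] at this
      have h3 := hU B hB le_rfl hd.hB (x⁻¹ * g0) (mul_mem (inv_mem (hLK hx)) hg0) h2
      rw [← H70.cj_cj] at h3
      exact inv_mem_iff.mp (hself g0 x⁻¹ h3)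
  · -- recursion
    push Not at hbad
    have hbad' : ∃ m : ℕ × ℕ, ∃ W S : Subgroup G, IsPGroup p W ∧ B ≤ W ∧ W ≤ K ∧
        MaxP p S (K ⊓ normalizer (W : Set G)) ∧
        (∃ g ∈ K, S ≤ cj g M₁ ∧ ¬ K ⊓ normalizer (W : Set G) ≤ cj g M₁) ∧
        m = (Nat.card S, Nat.card W) := by
      obtain ⟨W, S, h1, h2, h3, h4, g, hg, h5, h6⟩ := hbad
      exact ⟨_, W, S, h1, h2, h3, h4, ⟨g, hg, h5, h6⟩, rfl⟩
    let Bad : Set (Subgroup G × Subgroup G) := {x | IsPGroup p x.1 ∧ B ≤ x.1 ∧ x.1 ≤ K ∧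
        MaxP p x.2 (K ⊓ normalizer (x.1 : Set G)) ∧
        ∃ g ∈ K, x.2 ≤ cj g M₁ ∧ ¬ K ⊓ normalizer (x.1 : Set G) ≤ cj g M₁}
    have hBad : Bad.Nonempty := by
      obtain ⟨W, S, h1, h2, h3, h4, g, hg, h5, h6⟩ := hbad
      exact ⟨(W, S), h1, h2, h3, h4, g, hg, h5, h6⟩
    obtain ⟨⟨W, S1⟩, hWS, hmax⟩ := Set.exists_max_image Bad
      (fun x => Nat.card x.2 * (Nat.card G + 1) + Nat.card x.1) (Set.toFinite _) hBad
    obtain ⟨hWp, hBW, hWK, hS1, gX, hgX, hS1X, hUX⟩ := hWS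
    simp only at hWp hBW hWK hS1 hS1X hUX
    set U := K ⊓ normalizer (W : Set G)
    set μ := Nat.card S1
    have hlex : ∀ W' S' : Subgroup G, IsPGroup p W' → B ≤ W' → W' ≤ K →
        MaxP p S' (K ⊓ normalizer (W' : Set G)) → ∀ g ∈ K, S' ≤ cj g M₁ →
        ¬ K ⊓ normalizer (W' : Set G) ≤ cj g M₁ →
        Nat.card S' ≤ μ ∧ (Nat.card S' = μ → Nat.card W' ≤ Nat.card W) := by
      intro W' S' h1 h2 h3 h4 g hg h5 h6
      have h := hmax (W', S') ⟨h1, h2, h3, h4, g, hg, h5, h6⟩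
      simp only at h
      have b1 := Subgroup.card_le_card_group W
      refine ⟨?_, fun e => by rw [e] at h; omega⟩
      by_contra hlt
      have : (μ + 1) * (Nat.card G + 1) ≤ Nat.card S' * (Nat.card G + 1) :=
        Nat.mul_le_mul_right _ (by omega)
      rw [add_mul, one_mul] at this
      omega
    have hU1 : ∀ D : Subgroup G, IsPGroup p D → B ≤ D → D ≤ K → μ ≤ Nat.card D →
        ∀ g ∈ K, ∀ g' ∈ K, D ≤ cj g M₁ → D ≤ cj g' M₁ → cj g M₁ = cj g' M₁ :=
      huniqB μ fun W' S' h1 h2 h3 h4 h5 g hg h6 => by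
        by_contra h7
        have := (hlex W' S' h1 h2 h3 h4 g hg h6 h7).1
        omega
    have hWU : W ≤ U := le_inf hWK le_normalizer
    have hWS1 : W ≤ S1 := hS1.le_of_normalized hWp hWU (hS1.le.trans inf_le_right)
    have hBS1 : B ≤ S1 := hBW.trans hWS1
    have hS1K : S1 ≤ K := hS1.le.trans inf_le_left
    -- an overgroup of `U` normalising a larger group is not in a member
    have hgrow : ∀ W' : Subgroup G, IsPGroup p W' → B ≤ W' → W' ≤ K →
        U ≤ K ⊓ normalizer (W' : Set G) → ∀ R, MaxP p R (K ⊓ normalizer (W' : Set G)) → S1 ≤ R →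
        Nat.card R = μ ∧ Nat.card W' ≤ Nat.card W := by
      intro W' h1 h2 h3 hUU' R hR hS1R
      obtain ⟨S', hS', hRS', g', hg', hS'g⟩ := hex R hR.pgroup (hR.le.trans inf_le_left)
      have e := hU1 S1 hS1.pgroup hBS1 hS1K le_rfl gX hgX g' hg' hS1X (hS1R.trans (hRS'.trans hS'g))
      have h := hlex W' R h1 h2 h3 hR g' hg' (hRS'.trans hS'g)
        (fun hle => hUX (e.symm ▸ hUU'.trans hle))
      have : μ ≤ Nat.card R := card_le_of_le hS1R
      exact ⟨by omega, h.2 (by omega)⟩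
    have hW : Cfsg.pCoreOf p U = W := by
      have hle : W ≤ Cfsg.pCoreOf p U := le_pCoreOf hWU inf_le_right hWp
      refine (Subgroup.eq_of_le_of_card_ge hle ?_).symm
      have hUU' : U ≤ K ⊓ normalizer (Cfsg.pCoreOf p U : Set G) :=
        le_inf inf_le_left (le_normalizer_pCoreOf U)
      obtain ⟨R, hR, hS1R⟩ := exists_maxP hS1.pgroup (hS1.le.trans hUU')
      exact (hgrow _ (isPGroup_pCoreOf U) (hBW.trans hle) ((pCoreOf_le U).trans inf_le_left)
        hUU' R hR hS1R).2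
    obtain ⟨S, hS, hS1S⟩ := exists_maxP hS1.pgroup hS1K
    have hS1lt : S1 < S := by
      refine lt_of_le_of_ne hS1S fun e => hUX ?_
      exact hd.inv S1 W (e ▸ hS) hWp hBW hWK (hS1.le.trans inf_le_right) gX hgX hS1X
    obtain ⟨s, hs, hsS1⟩ := SetLike.exists_of_lt (lt_inf_normalizer hS.pgroup hS1lt)
    obtain ⟨hsS, hsN⟩ := mem_inf.mp hs
    by_cases hmem : ∃ h ∈ K, A ≤ normalizer (cj h W : Set G) ∧ ¬ A ≤ cj h W
    · obtain ⟨h, hh, hAN, hAP⟩ := hmem
      set G2 := cj h U with hG2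
      set P' := cj h W with hP'def
      have hG2' : G2 = K ⊓ normalizer (P' : Set G) := by
        have e1 : cj h (normalizer (W : Set G)) = normalizer (P' : Set G) :=
          map_normalizer_eq_of_bijective W (MulAut.conj h).bijective
        rw [hG2, hP'def] at *
        rw [← e1]
        exact (Subgroup.map_inf _ _ _ (MulAut.conj h).injective).trans
          (congrArg (· ⊓ _) (H70.cj_of_mem hh))
      have hcore : Cfsg.pCoreOf p G2 = P' := by rw [hG2, pCoreOf_cj, hW]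
      have hBG2 : B ≤ G2 := by
        rw [hG2']
        refine le_inf hd.hB (sup_le hAN ?_)
        rw [hP'def]
        intro q hq
        refine le_normalizer ?_
        rw [H70.mem_cj]
        refine (hBW.trans le_rfl) (mem_sup_right ?_)
        exact (hQn.conj_mem q hq h⁻¹ : _) |> fun hh => by simpa using hh
      have hlt : Nat.card G2 < Nat.card K := by
        refine lt_of_le_of_ne (card_le_of_le (hG2' ▸ inf_le_left)) fun e => ?_
        rw [hG2, H70.card_cj] at e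
        have hUK : U = K := Subgroup.eq_of_le_of_card_ge inf_le_left e.ge
        exact hS1lt.ne (hS1.max S hS.pgroup (hUK.ge.trans' hS.le) hS1S).symm
      refine ih G2 (h * gX * a) (by omega) ?_
      have eM : cj (h * gX * a) M = cj h (cj gX M₁) := by rw [hM₁, H70.cj_cj, H70.cj_cj]
      rw [eM]
      refine ⟨hBG2, hcore ▸ hAP, fun hle => hUX ?_, ⟨cj h S1, hS1.conj h, H70.cj_mono h hS1X⟩, ?_⟩
      · have := H70.cj_mono h⁻¹ hle
        rwa [hG2, H70.cj_cj, H70.cj_cj h⁻¹, inv_mul_cancel, H70.cj_one, H70.cj_one] at this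
      intro S' W2 hS' hW2 hBW2 hW2G hS'W2 g hg hS'g
      have hgK : g ∈ K := by rw [hG2'] at hg; exact (mem_inf.mp hg).1
      have emem : cj g (cj h (cj gX M₁)) = cj (g * h * gX) M₁ := by rw [H70.cj_cj, H70.cj_cj]
      rw [emem] at hS'g ⊢
      have hgm : g * h * gX ∈ K := mul_mem (mul_mem hgK hh) hgX
      have hcardS' : Nat.card S' = μ := by
        rw [(hS1.conj h).card_eq hS', H70.card_cj]
      have hW2S' : W2 ≤ S' := hS'.le_of_normalized hW2 hW2G hS'W2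
      have hP'p : IsPGroup p P' := hWp.map _
      have hG2P' : G2 ≤ normalizer (P' : Set G) := hG2'.le.trans inf_le_right
      have hP'G2 : P' ≤ G2 := H70.cj_mono h hWU
      have hG2K : G2 ≤ K := hG2'.le.trans inf_le_left
      set W3 := W2 ⊔ P'
      have hW3 : IsPGroup p W3 := hW2.to_sup_of_normal_right' hP'p (hW2G.trans hG2P')
      set U3 := K ⊓ normalizer (W3 : Set G)
      have hsub : G2 ⊓ normalizer (W2 : Set G) ≤ U3 :=
        le_inf (inf_le_left.trans hG2K) ((le_inf inf_le_right (inf_le_left.trans hG2P')).trans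
          (normalizer_inf_le_normalizer_sup W2 P'))
      obtain ⟨R, hR, hS'R⟩ := exists_maxP hS'.pgroup ((le_inf hS'.le hS'W2).trans hsub)
      obtain ⟨S3, hS3, hRS3, g3, hg3, hS3g⟩ := hex R hR.pgroup (hR.le.trans inf_le_left)
      have e := hU1 S' hS'.pgroup (hBW2.trans hW2S') (hS'.le.trans hG2K) hcardS'.ge
        (g * h * gX) hgm g3 hg3 hS'g (hS'R.trans (hRS3.trans hS3g))
      rw [e]
      by_contra hnot
      have hb := hlex W3 R hW3 (hBW2.trans le_sup_left) ((sup_le hW2G hP'G2).trans hG2K) hR g3 hg3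
        (hRS3.trans hS3g) (fun hle => hnot (hsub.trans hle))
      have : μ ≤ Nat.card R := hcardS'.ge.trans (card_le_of_le hS'R)
      have h3 := hb.2 (by omega)
      rw [← H70.card_cj h W] at h3
      have e3 : P' = W3 := Subgroup.eq_of_le_of_card_ge le_sup_right h3
      exact hAP (((le_sup_left.trans hBW2).trans le_sup_left).trans e3.ge)
    · push Not at hmem
      exfalso
      set Wc := Q ⊔ ⨆ h : {h : G // h ∈ K ∧ cj h A ≤ W}, cj (h : G) A
      have hAW : A ≤ W := le_sup_left.trans hBW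
      have hWcW : Wc ≤ W := sup_le (le_sup_right.trans hBW) (iSup_le fun h => h.2.2)
      have hBWc : B ≤ Wc := by
        refine sup_le ?_ le_sup_left
        refine le_trans ?_ (le_sup_right (a := Q))
        refine le_trans ?_ (le_iSup _ ⟨1, one_mem _, by rw [H70.cj_one]; exact hAW⟩)
        simp
      have hnorm : ∀ g ∈ K, (∀ h ∈ K, cj h A ≤ W → cj (g * h) A ≤ W) →
          cj g Wc ≤ Wc := by
        intro g hg hgh
        rw [show cj g Wc = cj g Q ⊔ cj g (⨆ h : {h : G // h ∈ K ∧ cj h A ≤ W}, cj (h : G) A) from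
          Subgroup.map_sup _ _ _, hQcj]
        refine sup_le_sup_left ?_ _
        simp only [cj, Subgroup.map_iSup]
        refine iSup_le fun h => ?_
        exact (H70.cj_cj g (h : G) A).le.trans (le_iSup (fun h : {h : G // h ∈ K ∧ cj h A ≤ W} =>
          cj (h : G) A) ⟨g * h, mul_mem hg h.2.1, hgh h h.2.1 h.2.2⟩)
      have hnormU : ∀ u ∈ U, u ∈ normalizer (Wc : Set G) := by
        intro u hu
        obtain ⟨huK, huW⟩ := mem_inf.mp hu
        refine H70.cj_eq_self_iff.mp (H70.eq_of_cj_le (hnorm u huK fun h _ hA => ?_))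
        rw [← H70.cj_cj]
        exact (H70.cj_mono u hA).trans (H70.cj_eq_self_iff.mpr huW).le
      have hsK : s ∈ K := hS.le hsS
      have hsnorm : s ∈ normalizer (Wc : Set G) := by
        refine H70.cj_eq_self_iff.mp (H70.eq_of_cj_le (hnorm s hsK fun h hh hA => ?_))
        -- `cj (s*h) A` normalises `W`
        have h1 : cj (s * h) A ≤ normalizer (W : Set G) := by
          rw [← H70.cj_cj]
          refine ((H70.cj_mono s (hA.trans hWS1)).trans ?_).trans (hS1.le.trans inf_le_right)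
          exact (H70.cj_eq_self_iff.mpr hsN).le
        have h2 : A ≤ normalizer (cj (s * h)⁻¹ W : Set G) :=
          (H70.cj_le_iff.mp h1).trans (le_normalizer_map _)
        exact H70.cj_le_iff.mpr (hmem _ (inv_mem (mul_mem hsK hh)) h2)
      have hUU' : U ≤ K ⊓ normalizer (Wc : Set G) := le_inf inf_le_left hnormU
      have hp' : IsPGroup p ↥(S1 ⊔ zpowers s) :=
        hS.pgroup.to_le (sup_le hS1S (zpowers_le.mpr hsS))
      obtain ⟨R, hR, hR1⟩ := exists_maxP hp' (K := K ⊓ normalizer (Wc : Set G))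
        (sup_le (hS1.le.trans hUU') (zpowers_le.mpr (mem_inf.mpr ⟨hsK, hsnorm⟩)))
      have h5 := (hgrow Wc (hWp.to_le hWcW) hBWc (hWcW.trans hWK) hUU' R hR
        (le_sup_left.trans hR1)).1
      have hlt : S1 < R := lt_of_le_of_ne (le_sup_left.trans hR1) fun e =>
        hsS1 (e.symm ▸ hR1 (mem_sup_right (mem_zpowers s)))
      have h6 := card_lt_of_lt hlt
      omega

theorem lLemma [Finite G] [Fact p.Prime] (T : Sylow p G)
    (hmin : Cfsg.IsMinimalOver (T : Subgroup G)) (M : Subgroup G)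
    (hM : IsCoatom M) (hTM : (T : Subgroup G) ≤ M) (A : Subgroup G) (hAT : A ≤ (T : Subgroup G))
    (hA : ¬ A ≤ Cfsg.pCore p G) : LConcl p A (A ⊔ Cfsg.pCore p G) M := by
  have hBT : A ⊔ Cfsg.pCore p G ≤ (T : Subgroup G) := sup_le hAT (H1.pCore_le_sylow T)
  refine lLemma_aux A M (T.isPGroup'.to_le hBT) (min_self_normalizing hmin hM hTM) _ ⊤ 1 le_rfl
    ⟨le_top, by rwa [pCoreOf_top], fun h => hM.1 (top_le_iff.mp (by simpa using h)),
      ⟨(T : Subgroup G), sylow_maxP T, by simpa using hTM⟩, ?_⟩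
  intro S W hS hW hBW _ hSW g _ hSg
  rw [H70.cj_one] at hSg ⊢
  rw [top_inf_eq]
  obtain ⟨P, rfl⟩ := maxP_top_sylow hS
  have h1 : cj g⁻¹ (P : Subgroup G) ≤ M := by
    rw [← H70.cj_one M, ← inv_mul_cancel g, ← H70.cj_cj]
    exact H70.cj_mono g⁻¹ hSg
  obtain ⟨m, hm, hmP⟩ := H70.exists_cj_le_sylow T hTM (P.isPGroup'.map _) h1
  rw [H70.cj_cj] at hmP
  set b := m * g⁻¹
  have hT : cj b (P : Subgroup G) = (T : Subgroup G) :=
    Subgroup.eq_of_le_of_card_ge hmP (by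
      rw [H70.card_cj, ((sylow_maxP T).card_eq (sylow_maxP P))])
  have h2 : (T : Subgroup G) ≤ normalizer (cj b W : Set G) := by
    rw [← hT]
    exact (H70.cj_mono b hSW).trans (le_normalizer_map _)
  have h3 : normalizer (cj b W : Set G) ≠ ⊤ := by
    intro htop
    have hn : (cj b W).Normal := normalizer_eq_top_iff.mp htop
    have := H1.le_pCore (p := p) (N := cj b W) (hW.map _)
    refine hA ((le_sup_left.trans hBW).trans ?_)
    have h4 := H70.cj_le_iff.mp this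
    have := H1.pCore_normal' p G
    exact h4.trans (Normal.map_conj_eq (Cfsg.pCore p G) b⁻¹).le
  have h4 : cj b (normalizer (W : Set G)) ≤ M :=
    (le_normalizer_map _).trans (le_coatom_of_minimalOver hmin hM hTM h2 h3)
  refine (H70.cj_le_iff.mp h4).trans ?_
  rw [show b⁻¹ = g * m⁻¹ by simp [b], ← H70.cj_cj, H70.cj_of_mem (inv_mem hm)]

end H75
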