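import Cfsg.Agent.H75.Large

/-!
p-reduced normal subgroups, the largest one Y_L, and the subgroup Z_L.
-/

set_option autoImplicit false

namespace H75

open Subgroup
open scoped commutatorElement
open H70 (cj)

variable {G : Type*} [Group G] {p : ℕ}

/-- Every element of `N` has a `p`-power in `C`. -/
def PowInto (p : ℕ) (N C : Subgroup G) : Prop := ∀ x ∈ N, ∃ k : ℕ, x ^ (p ^ k) ∈ C

theorem powInto_mono {N N' C C' : Subgroup G} (h : PowInto p N C) (hN : N' ≤ N) (hC : C ≤ C') :
    PowInto p N' C' := fun x hx => (h x (hN hx)).imp fun _ hk => hC hk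

theorem powInto_inf {N C : Subgroup G} (h : PowInto p N C) (L : Subgroup G) :
    PowInto p (N ⊓ L) (C ⊓ L) := fun x hx =>
  (h x (mem_inf.mp hx).1).imp fun _ hk => mem_inf.mpr ⟨hk, pow_mem (mem_inf.mp hx).2 _⟩

theorem powInto_of_isPGroup {N C : Subgroup G} (h : IsPGroup p N) : PowInto p N C := by
  intro x hx
  obtain ⟨k, hk⟩ := h ⟨x, hx⟩
  exact ⟨k, by rw [show x ^ (p ^ k) = 1 by simpa using congrArg Subtype.val hk]; exact one_mem _⟩

theorem powInto_of_resOf_le [Finite G] [Fact p.Prime] {N C : Subgroup G} (h : resOf p N ≤ C) :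
    PowInto p N C := fun x hx => by
  obtain ⟨k, hk⟩ := exists_pow_coprime (p := p) x
  exact ⟨k, h (subset_closure ⟨pow_mem hx _, hk⟩)⟩

theorem resOf_le_of_powInto [Finite G] {N C : Subgroup G} (h : PowInto p N C) :
    resOf p N ≤ C := by
  rw [resOf, closure_le]
  rintro x ⟨hx, hxc⟩
  obtain ⟨k, hk⟩ := h x hx
  have hmem : x ^ (p ^ k) ∈ C := hk
  obtain ⟨m, hm⟩ := exists_pow_eq_self_of_coprime (hxc.pow_right k).symm
  rw [← hm]
  exact pow_mem hmem m

theorem pow_mul_normalizer {C : Subgroup G} {n c : G} (hn : n ∈ normalizer (C : Set G)) (hc : c ∈ C)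
    (k : ℕ) : ∃ d ∈ C, (n * c) ^ k = n ^ k * d := by
  induction k with
  | zero => exact ⟨1, one_mem _, by simp⟩
  | succ k ih =>
    obtain ⟨d, hd, h⟩ := ih
    refine ⟨n⁻¹ * d * n * c, mul_mem (conj'_mem_of_mem_normalizer hn hd) hc, ?_⟩
    rw [pow_succ, h, pow_succ]
    group

theorem powInto_sup {N C : Subgroup G} (h : PowInto p N C) (hN : N ≤ normalizer (C : Set G)) :
    PowInto p (N ⊔ C) C := by
  intro x hx
  obtain ⟨c, hc, n, hn, rfl⟩ := sup_eq_mul_of_le_normalizer hN (show x ∈ C ⊔ N by rwa [sup_comm])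
  obtain ⟨k, hk⟩ := h n hn
  refine ⟨k, ?_⟩
  obtain ⟨d, hd, hpow⟩ :=
    pow_mul_normalizer (hN hn) (conj'_mem_of_mem_normalizer (hN hn) hc) (p ^ k)
  rw [show c * n = n * (n⁻¹ * c * n) by group, hpow]
  exact mul_mem hk hd

/-- A subgroup which is a `p`-group modulo `C` is generated by `C` and a Sylow subgroup. -/
theorem le_of_powInto [Finite G] [Fact p.Prime] (T : Sylow p G) {N C : Subgroup G} [N.Normal]
    (h : PowInto p N C) (hT : (T : Subgroup G) ⊓ N ≤ C) : N ≤ C := by
  obtain ⟨P, hP⟩ := exists_sylow_inf_normal T N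
  have h1 : (Cfsg.pResidual p N ⊔ (P : Subgroup N)).map N.subtype = N := by
    rw [pResidual_sup_sylow, ← MonoidHom.range_eq_map, range_subtype]
  rw [Subgroup.map_sup, map_pResidual_eq_resOf, hP] at h1
  rw [← h1]
  exact sup_le (resOf_le_of_powInto h) hT

/-! ### reduced subgroups relative to a subgroup -/

/-- `V` is a `p`-reduced normal subgroup of `L`, stated in the ambient group. -/
structure RedIn (p : ℕ) (V L : Subgroup G) : Prop where
  le : V ≤ L
  norm : L ≤ normalizer (V : Set G)
  elem : Cfsg.IsElementaryAbelian p V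
  red : ∀ N : Subgroup G, N ≤ L → L ≤ normalizer (N : Set G) →
    PowInto p N (centralizer (V : Set G)) → N ≤ centralizer (V : Set G)

theorem elemAb_isPGroup {V : Subgroup G} (h : Cfsg.IsElementaryAbelian p V) : IsPGroup p V :=
  fun x => ⟨1, Subtype.ext (by simpa using h.2 x x.2)⟩

theorem elemAb_le_centralizer {V : Subgroup G} (h : Cfsg.IsElementaryAbelian p V) :
    V ≤ centralizer (V : Set G) :=
  le_centralizer_iff_isMulCommutative.mpr h.1

theorem elemAb_mono {V W : Subgroup G} (h : Cfsg.IsElementaryAbelian p W) (hVW : V ≤ W) :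
    Cfsg.IsElementaryAbelian p V :=
  ⟨le_centralizer_iff_isMulCommutative.mp
    (hVW.trans ((elemAb_le_centralizer h).trans (centralizer_le hVW))), fun a ha => h.2 a (hVW ha)⟩

theorem elemAb_map {H : Type*} [Group H] {V : Subgroup G} (h : Cfsg.IsElementaryAbelian p V)
    (f : G →* H) : Cfsg.IsElementaryAbelian p (V.map f) := by
  have := h.1
  refine ⟨Subgroup.map_isMulCommutative V f, ?_⟩
  rintro _ ⟨v, hv, rfl⟩
  rw [← map_pow, h.2 v hv, map_one]

theorem elemAb_comap {H : Type*} [Group H] {f : G →* H} (hf : Function.Injective f)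
    {V : Subgroup H} (h : Cfsg.IsElementaryAbelian p V) :
    Cfsg.IsElementaryAbelian p (V.comap f) := by
  refine ⟨le_centralizer_iff_isMulCommutative.mp fun a ha => ?_, fun a ha => hf ?_⟩
  · rw [mem_centralizer_iff]
    intro b hb
    apply hf
    rw [map_mul, map_mul]
    exact (mem_centralizer_iff.mp (elemAb_le_centralizer h ha)) (f b) hb
  · rw [map_pow, map_one]; exact h.2 (f a) ha

theorem elemAb_sup {V W : Subgroup G} (hV : Cfsg.IsElementaryAbelian p V)
    (hW : Cfsg.IsElementaryAbelian p W) (hc : W ≤ centralizer (V : Set G)) :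
    Cfsg.IsElementaryAbelian p (V ⊔ W) := by
  refine ⟨le_centralizer_iff_isMulCommutative.mp ?_, fun a ha => ?_⟩
  · refine sup_le (le_centralizer_iff.mpr (sup_le (elemAb_le_centralizer hV) hc)) ?_
    exact le_centralizer_iff.mpr (sup_le (le_centralizer_iff.mp hc) (elemAb_le_centralizer hW))
  · obtain ⟨v, hv, w, hw, rfl⟩ := sup_eq_mul_of_le_normalizer
      (hc.trans (centralizer_le_normalizer _)) ha
    have hvw : Commute v w := (mem_centralizer_iff.mp (hc hw)) v hv
    rw [hvw.mul_pow, hV.2 v hv, hW.2 w hw, one_mul]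

theorem elemAb_bot : Cfsg.IsElementaryAbelian p (⊥ : Subgroup G) :=
  ⟨le_centralizer_iff_isMulCommutative.mp bot_le, fun a ha => by rw [mem_bot.mp ha, one_pow]⟩

theorem RedIn.le_pCoreOf {V L : Subgroup G} (h : RedIn p V L) : V ≤ Cfsg.pCoreOf p L :=
  H75.le_pCoreOf h.le h.norm (elemAb_isPGroup h.elem)

theorem RedIn.pCoreOf_le {V L : Subgroup G} (h : RedIn p V L) :
    Cfsg.pCoreOf p L ≤ centralizer (V : Set G) :=
  h.red _ (H75.pCoreOf_le L) (le_normalizer_pCoreOf L) (powInto_of_isPGroup (isPGroup_pCoreOf L))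

theorem redIn_bot (L : Subgroup G) : RedIn p (⊥ : Subgroup G) L where
  le := bot_le
  norm := by rw [normalizer_eq_top]; exact le_top
  elem := elemAb_bot
  red := fun N _ _ _ x _ => mem_centralizer_iff.mpr fun y hy => by
    rw [mem_bot.mp hy]; simp

theorem RedIn.sup {V W L : Subgroup G} (hV : RedIn p V L) (hW : RedIn p W L) :
    RedIn p (V ⊔ W) L where
  le := sup_le hV.le hW.le
  norm := (le_inf hV.norm hW.norm).trans (normalizer_inf_le_normalizer_sup V W)
  elem := elemAb_sup hV.elem hW.elem (hW.le_pCoreOf.trans hV.pCoreOf_le)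
  red := fun N hN hLN hp => by
    rw [le_centralizer_iff]
    exact sup_le
      (le_centralizer_iff.mp (hV.red N hN hLN (powInto_mono hp le_rfl
        (centralizer_le (SetLike.coe_subset_coe.mpr le_sup_left)))))
      (le_centralizer_iff.mp (hW.red N hN hLN (powInto_mono hp le_rfl
        (centralizer_le (SetLike.coe_subset_coe.mpr le_sup_right)))))

theorem RedIn.conj {V L : Subgroup G} (h : RedIn p V L) {g : G}
    (hg : g ∈ normalizer (L : Set G)) : RedIn p (cj g V) L := by
  have hL : cj g L = L := H70.cj_eq_self_iff.mpr hg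
  have hL' : cj g⁻¹ L = L := H70.cj_eq_self_iff.mpr (inv_mem hg)
  refine ⟨(H70.cj_mono g h.le).trans hL.le,
    hL.ge.trans ((H70.cj_mono g h.norm).trans (le_normalizer_map _)),
    elemAb_map h.elem _, fun N hN hLN hp => ?_⟩
  have hC : cj g (centralizer (V : Set G)) = centralizer ((cj g V : Subgroup G) : Set G) := by
    ext x
    rw [H70.mem_cj, mem_centralizer_iff, mem_centralizer_iff]
    constructor
    · rintro hx _ ⟨v, hv, rfl⟩
      have := hx v hv
      show g * v * g⁻¹ * x = x * (g * v * g⁻¹)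
      calc g * v * g⁻¹ * x = g * (v * (g⁻¹ * x * g)) * g⁻¹ := by group
        _ = g * ((g⁻¹ * x * g) * v) * g⁻¹ := by rw [this]
        _ = _ := by group
    · intro hx v hv
      have := hx (g * v * g⁻¹) ⟨v, hv, rfl⟩
      calc v * (g⁻¹ * x * g) = g⁻¹ * ((g * v * g⁻¹) * x) * g := by group
        _ = g⁻¹ * (x * (g * v * g⁻¹)) * g := by rw [this]
        _ = _ := by group
  have h1 := h.red (cj g⁻¹ N) ((H70.cj_mono _ hN).trans hL'.le)
    (hL'.ge.trans ((H70.cj_mono _ hLN).trans (le_normalizer_map _))) (by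
      rintro _ ⟨x, hx, rfl⟩
      obtain ⟨k, hk⟩ := hp x hx
      refine ⟨k, ?_⟩
      rw [← hC, H70.mem_cj] at hk
      rw [← map_pow]
      simpa using hk)
  have h2 := H70.cj_mono g h1
  rwa [H70.cj_cj, mul_inv_cancel, H70.cj_one, hC] at h2

theorem redIn_top_iff [Finite G] [Fact p.Prime] {V : Subgroup G} :
    RedIn p V ⊤ ↔ Cfsg.IsPReducedNormal p V := by
  constructor
  · intro h
    have hn : V.Normal := normal_of_top_le h.norm
    refine ⟨hn, h.elem, inferInstance, ?_⟩
    rw [eq_bot_iff]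
    intro q hq
    have h1 : (Cfsg.pCore p (G ⧸ centralizer (V : Set G))).Normal := H1.pCore_normal' _ _
    set N := (Cfsg.pCore p (G ⧸ centralizer (V : Set G))).comap (QuotientGroup.mk' _)
    have h2 : N ≤ centralizer (V : Set G) := h.red N le_top (by rw [normalizer_eq_top]) (by
      intro x hx
      obtain ⟨k, hk⟩ := H1.isPGroup_pCore p _ ⟨_, hx⟩
      refine ⟨k, (QuotientGroup.eq_one_iff _).mp ?_⟩
      simpa using congrArg Subtype.val hk)
    obtain ⟨x, rfl⟩ := QuotientGroup.mk'_surjective _ q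
    rw [mem_bot, QuotientGroup.mk'_apply, QuotientGroup.eq_one_iff]
    exact h2 hq
  · rintro ⟨hn, he, hC, hbot⟩
    refine ⟨le_top, by rw [normalizer_eq_top], he, fun N _ hN hp => ?_⟩
    have hNn : N.Normal := normal_of_top_le hN
    have hmap := Normal.map hNn (QuotientGroup.mk' (centralizer (V : Set G)))
      (QuotientGroup.mk'_surjective _)
    have h1 : N.map (QuotientGroup.mk' (centralizer (V : Set G))) ≤ ⊥ := by
      rw [← hbot]
      refine H1.le_pCore ?_
      rintro ⟨_, x, hx, rfl⟩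
      obtain ⟨k, hk⟩ := hp x hx
      exact ⟨k, Subtype.ext ((QuotientGroup.eq_one_iff _).mpr hk)⟩
    intro x hx
    exact (QuotientGroup.eq_one_iff x).mp (mem_bot.mp (h1 (mem_map_of_mem _ hx)))

theorem redIn_map_subtype_iff [Finite G] [Fact p.Prime] {L : Subgroup G} {V : Subgroup L} :
    RedIn p (V.map L.subtype) L ↔ RedIn p V ⊤ := by
  have hC : ∀ x : L, x ∈ centralizer (V : Set L) ↔
      (x : G) ∈ centralizer ((V.map L.subtype : Subgroup G) : Set G) := by
    intro x
    rw [mem_centralizer_iff, mem_centralizer_iff]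
    constructor
    · rintro h _ ⟨v, hv, rfl⟩
      exact congrArg Subtype.val (h v hv)
    · intro h v hv
      exact Subtype.ext (h v ⟨v, hv, rfl⟩)
  constructor
  · intro h
    have hVn : V.Normal := by
      have := normal_subgroupOf_of_le_normalizer h.norm
      rwa [Subgroup.subgroupOf, comap_map_eq_self_of_injective L.subtype_injective] at this
    refine ⟨le_top, by rw [normalizer_eq_top], ?_, fun N _ hN hp => ?_⟩
    · rw [← comap_map_eq_self_of_injective L.subtype_injective V]
      exact elemAb_comap L.subtype_injective h.elem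
    · have hNn : N.Normal := normal_of_top_le hN
      have h1 := h.red (N.map L.subtype) (map_subtype_le _)
        (le_normalizer_of_conj fun k hk a ha => by
          obtain ⟨n, hn, rfl⟩ := ha
          exact ⟨_, hNn.conj_mem n hn ⟨k, hk⟩, rfl⟩)
        (by
          rintro _ ⟨n, hn, rfl⟩
          obtain ⟨k, hk⟩ := hp n hn
          exact ⟨k, by simpa using (hC _).mp hk⟩)
      exact fun x hx => (hC x).mpr (h1 (mem_map_of_mem _ hx))
  · intro h
    have hVn : V.Normal := normal_of_top_le h.norm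
    refine ⟨map_subtype_le _, le_normalizer_of_conj fun k hk a ha => ?_, elemAb_map h.elem _,
      fun N hNL hN hp => ?_⟩
    · obtain ⟨n, hn, rfl⟩ := ha
      exact ⟨_, hVn.conj_mem n hn ⟨k, hk⟩, rfl⟩
    · have := normal_subgroupOf_of_le_normalizer hN
      have h1 := h.red (N.subgroupOf L) le_top (by rw [normalizer_eq_top]) (by
        intro x hx
        obtain ⟨k, hk⟩ := hp _ hx
        exact ⟨k, (hC _).mpr (by simpa using hk)⟩)
      exact fun x hx => (hC ⟨x, hNL hx⟩).mp (h1 hx)

theorem largestPReduced_redIn [Finite G] [Fact p.Prime] :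
    RedIn p (Cfsg.largestPReduced p G) ⊤ := by
  refine (H1.sSup_induction_normal (P := fun V => RedIn p V ⊤) _ (fun V hV => hV.1)
    (redIn_bot ⊤) (fun V hV => redIn_top_iff.mpr hV) (fun A B _ _ hA hB => hA.sup hB)).2

theorem redIn_largest [Finite G] [Fact p.Prime] (L : Subgroup G) :
    RedIn p (Cfsg.largestPReducedOf p L) L :=
  redIn_map_subtype_iff.mpr largestPReduced_redIn

theorem RedIn.le_largest [Finite G] [Fact p.Prime] {V L : Subgroup G} (h : RedIn p V L) :
    V ≤ Cfsg.largestPReducedOf p L := by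
  have hle := h.le
  rw [← map_subgroupOf_eq_of_le hle] at h
  conv_lhs => rw [← map_subgroupOf_eq_of_le hle]
  exact Subgroup.map_mono (le_sSup (redIn_top_iff.mp (redIn_map_subtype_iff.mp h)))

theorem largestPReducedOf_top [Finite G] [Fact p.Prime] :
    Cfsg.largestPReducedOf p (⊤ : Subgroup G) = Cfsg.largestPReduced p G := by
  refine le_antisymm ?_ largestPReduced_redIn.le_largest
  exact le_sSup (redIn_top_iff.mp (redIn_largest ⊤))

theorem normalizer_le_normalizer_largest [Finite G] [Fact p.Prime] (L : Subgroup G) :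
    normalizer (L : Set G) ≤ normalizer (Cfsg.largestPReducedOf p L : Set G) := by
  intro g hg
  rw [← H70.cj_eq_self_iff]
  exact H70.eq_of_cj_le ((redIn_largest L).conj hg).le_largest

/-- Reducedness passes to a subgroup with the same action. -/
theorem RedIn.transfer {V M L : Subgroup G} (h : RedIn p V M) (hVL : V ≤ L)
    (hLV : L ≤ normalizer (V : Set G))
    (hfac : L ⊔ centralizer (V : Set G) = M ⊔ centralizer (V : Set G)) : RedIn p V L := by
  refine ⟨hVL, hLV, h.elem, fun N hNL hLN hp => ?_⟩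
  set C := centralizer (V : Set G)
  have hLC : L ≤ normalizer (C : Set G) := hLV.trans (normalizer_le_normalizer_centralizer V)
  have hMC : M ≤ normalizer (C : Set G) := h.norm.trans (normalizer_le_normalizer_centralizer V)
  have hNC : N ≤ normalizer (C : Set G) := hNL.trans hLC
  have hn : L ⊔ C ≤ normalizer ((N ⊔ C : Subgroup G) : Set G) := by
    refine sup_le ((le_inf hLN hLC).trans (normalizer_inf_le_normalizer_sup N C)) ?_
    exact le_sup_right.trans le_normalizer
  have h1 : M ⊓ (N ⊔ C) ≤ C :=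
    h.red _ inf_le_left ((le_inf le_normalizer (le_sup_left.trans (hfac.ge.trans hn))).trans
      (normalizer_inf_le_normalizer_inf _ _)) (powInto_mono (powInto_sup hp hNC) inf_le_right le_rfl)
  intro x hx
  obtain ⟨c, hc, m, hm, rfl⟩ := sup_eq_mul_of_le_normalizer hMC
    (show x ∈ C ⊔ M by rw [sup_comm, ← hfac]; exact mem_sup_left (hNL hx))
  refine mul_mem hc (h1 (mem_inf.mpr ⟨hm, ?_⟩))
  simpa [mul_assoc] using mul_mem (mem_sup_right (S := N) (inv_mem hc)) (mem_sup_left (T := C) hx)

/-! ### Sylow intersections inside overgroups -/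

theorem exists_sylow_inf_of_normalized [Finite G] [Fact p.Prime] (T : Sylow p G) {K C : Subgroup G}
    (hTK : (T : Subgroup G) ≤ K) (hCK : C ≤ K) (hKC : K ≤ normalizer (C : Set G)) :
    ∃ P : Sylow p C, (P : Subgroup C) = ((T : Subgroup G) ⊓ C).subgroupOf C := by
  obtain ⟨P, hP⟩ := (IsPGroup.comap_subtype (K := C)
    (IsPGroup.to_inf_left (K := C) T.isPGroup')).exists_le_sylow
  refine ⟨P, Subgroup.map_injective C.subtype_injective ?_⟩
  rw [map_subgroupOf_eq_of_le inf_le_right]
  refine (Subgroup.eq_of_le_of_card_ge ?_ ?_).symm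
  · exact fun x hx => ⟨⟨x, (mem_inf.mp hx).2⟩, hP hx, rfl⟩
  · obtain ⟨k, hk, hkT⟩ := H70.exists_cj_le_sylow T hTK (P.isPGroup'.map C.subtype)
      ((map_subtype_le _).trans hCK)
    rw [← H70.card_cj k]
    exact card_le_of_le (le_inf hkT ((H70.cj_mono k (map_subtype_le _)).trans
      (H70.cj_eq_self_iff.mpr (hKC hk)).le))

end H75
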