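import Cfsg.Agent.H75.WeaklyClosed
import Cfsg.Agent.H75.LLemma
import Cfsg.Agent.H75.PReduced
import Cfsg.Agent.H65.BaerSuzuki

/-!
The asymmetric L-Lemma, inside a group `X` in which `Y` lies in the `p`-core of every proper
overgroup of the weakly closed `p`-subgroup `P`, `L` minimal over `Y` with `Y ≰ O_p(L)`.

`W = C_{O_p(X)}(Y)` is `(Y ∩ O_p(X)) C_{O_p(X)}(L)`; this forces two commuting `L`-conjugates of
`Y` to be equal, by averaging a cocycle of a subgroup in which a conjugate of `P` meets `P`.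
-/

set_option autoImplicit false

namespace H75

open Subgroup
open scoped commutatorElement
open H70 (cj)

variable {X : Type*} [Group X] [Finite X] {p : ℕ} [Fact p.Prime] {P Y L : Subgroup X}

/-- The hypotheses of the asymmetric L-Lemma. -/
structure ALData (p : ℕ) (P Y L : Subgroup X) : Prop where
  pgroup : IsPGroup p P
  le : Y ≤ P
  cent : P ≤ centralizer (Y : Set X)
  el : Cfsg.IsElementaryAbelian p Y
  charP : centralizer (Cfsg.pCore p X : Set X) ≤ Cfsg.pCore p X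
  wc : Cfsg.IsWeaklyClosedSubgroup p P
  norm_le : normalizer (P : Set X) ≤ normalizer (Y : Set X)
  asym : ∀ g : X, cj g Y ≤ normalizer (Y : Set X) → Y ≤ normalizer (cj g Y : Set X) →
    cj g Y ≤ centralizer (Y : Set X)
  not_le : ¬ Y ≤ Cfsg.pCore p X
  min : ∀ K : Subgroup X, P ≤ K → K ≠ ⊤ → Y ≤ Cfsg.pCoreOf p K
  le_L : Y ≤ L
  L_not : ¬ Y ≤ Cfsg.pCoreOf p L
  L_min : ∀ L' : Subgroup X, L' ≤ L → Y ≤ L' → ¬ Y ≤ Cfsg.pCoreOf p L' → L' = L

namespace ALData

variable (hA : ALData p P Y L)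

include hA

theorem core_le_norm_P : Cfsg.pCore p X ≤ normalizer (P : Set X) :=
  le_sup_left.trans (wc_le_normalizer hA.wc
    (IsPGroup.to_sup_of_normal_left (H1.isPGroup_pCore p X) hA.pgroup) le_sup_right)

theorem core_le_norm : Cfsg.pCore p X ≤ normalizer (Y : Set X) :=
  hA.core_le_norm_P.trans hA.norm_le

theorem core_comm {q y : X} (hq : q ∈ Cfsg.pCore p X) (hy : y ∈ Y) :
    ⁅q, y⁆ ∈ Y ⊓ Cfsg.pCore p X := by
  refine mem_inf.mpr ⟨?_, ?_⟩
  · rw [commutatorElement_def]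
    exact mul_mem (conj_mem_of_mem_normalizer (hA.core_le_norm hq) hy) (inv_mem hy)
  · rw [commutatorElement_def, mul_assoc, mul_assoc, ← mul_assoc y]
    exact mul_mem hq ((Cfsg.pCore_normal p X).conj_mem _ (inv_mem hq) y)

theorem sup_eq_top : L ⊔ P = ⊤ := by
  by_contra h
  have h1 := hA.min _ le_sup_right h
  exact hA.L_not fun y hy =>
    pCoreOf_inf_le le_sup_left (mem_inf.mpr ⟨h1 hy, hA.le_L hy⟩)

theorem small {K : Subgroup X} (hK : K ≤ L) (hne : K ≠ L) (hY : Y ≤ K) :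
    Y ≤ Cfsg.pCoreOf p K := by
  by_contra h
  exact hne (hA.L_min K hK hY h)

theorem small_conj {K : Subgroup X} (hK : K ≤ L) (hne : K ≠ L) {g : X} (hg : g ∈ L)
    (hY : cj g Y ≤ K) : cj g Y ≤ Cfsg.pCoreOf p K := by
  have hgi : g⁻¹ ∈ L := inv_mem hg
  have h1 : cj g⁻¹ K ≤ L := (H70.cj_mono _ hK).trans (H70.cj_of_mem hgi).le
  have h2 : cj g⁻¹ K ≠ L := fun e => hne (by
    rw [← H70.cj_one K, ← mul_inv_cancel g, ← H70.cj_cj, e, H70.cj_of_mem hg])
  have h3 : Y ≤ cj g⁻¹ K := by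
    refine le_trans ?_ (H70.cj_mono g⁻¹ hY)
    rw [H70.cj_cj, inv_mul_cancel, H70.cj_one]
  have h4 := hA.small h1 h2 h3
  rw [pCoreOf_cj] at h4
  have h5 := H70.cj_mono g h4
  rwa [H70.cj_cj, mul_inv_cancel, H70.cj_one] at h5

theorem exists_gen : ∃ g ∈ L, Y ⊔ cj g Y = L := by
  by_contra hcon
  push Not at hcon
  refine hA.L_not fun y hy => ?_
  have hyL : y ∈ L := hA.le_L hy
  refine ⟨⟨y, hyL⟩, H65.mem_pCore_of_pairs fun g => ?_, rfl⟩
  have hgY : cj (g : X) Y ≤ L := (H70.cj_mono _ hA.le_L).trans (H70.cj_of_mem g.2).le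
  set K := Y ⊔ cj (g : X) Y
  have hKL : K ≤ L := sup_le hA.le_L hgY
  have hKp : IsPGroup p K := (isPGroup_pCoreOf K).to_le (sup_le
    (hA.small hKL (hcon g g.2) le_sup_left)
    (hA.small_conj hKL (hcon g g.2) g.2 le_sup_right))
  refine (IsPGroup.comap_subtype (K := L) hKp).to_le ((closure_le _).mpr ?_)
  rintro w (rfl | rfl)
  · exact mem_subgroupOf.mpr (mem_sup_left hy)
  · exact mem_subgroupOf.mpr (mem_sup_right ⟨y, hy, rfl⟩)

omit hA in
/-- The subgroup `(Y ∩ O_p(X)) (Y^g ∩ O_p(X))`. -/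
def A1 (p : ℕ) (Y : Subgroup X) (g : X) : Subgroup X :=
  (Y ⊓ Cfsg.pCore p X) ⊔ cj g (Y ⊓ Cfsg.pCore p X)

omit hA in
theorem A1_le_core (g : X) : A1 p Y g ≤ Cfsg.pCore p X :=
  sup_le inf_le_right ((H70.cj_mono g inf_le_right).trans
    (Normal.map_conj_eq (Cfsg.pCore p X) g).le)

theorem comm_conj {g q y : X} (hq : q ∈ Cfsg.pCore p X) (hy : y ∈ cj g Y) :
    ⁅q, y⁆ ∈ cj g (Y ⊓ Cfsg.pCore p X) := by
  rw [H70.mem_cj] at hy ⊢
  have h := hA.core_comm (q := g⁻¹ * q * g)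
    (by simpa using (Cfsg.pCore_normal p X).conj_mem q hq g⁻¹) hy
  convert h using 1
  simp only [commutatorElement_def]
  group

variable {g : X} (hgen : Y ⊔ cj g Y = L)

include hgen

omit hA in
theorem mem_L : cj g Y ≤ L := le_sup_right.trans hgen.le

theorem L_le_norm_A1 : L ≤ normalizer (A1 p Y g : Set X) := by
  rw [← hgen]
  refine sup_le ?_ ?_ <;> refine le_normalizer_iff_commutator_le_left.mpr ?_ <;>
    rw [Subgroup.commutator_le] <;> intro b hb y hy
  · exact mem_sup_left (hA.core_comm (A1_le_core g hb) hy)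
  · exact mem_sup_right (hA.comm_conj (A1_le_core g hb) hy)

theorem comm_core {l q : X} (hl : l ∈ L) (hq : q ∈ Cfsg.pCore p X) : ⁅q, l⁆ ∈ A1 p Y g := by
  let S : Subgroup X :=
    { carrier := {a | a ∈ normalizer (A1 p Y g : Set X) ∧
        ∀ q ∈ Cfsg.pCore p X, ⁅q, a⁆ ∈ A1 p Y g}
      one_mem' := ⟨one_mem _, fun q _ => by simp⟩
      mul_mem' := by
        rintro a b ⟨ha, ha'⟩ ⟨hb, hb'⟩
        refine ⟨mul_mem ha hb, fun q hq => ?_⟩
        rw [commutatorElement_mul_right_eq_mul_conj, mul_assoc, mul_assoc, ← mul_assoc a]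
        exact mul_mem (ha' q hq) (conj_mem_of_mem_normalizer ha (hb' q hq))
      inv_mem' := by
        rintro a ⟨ha, ha'⟩
        refine ⟨inv_mem ha, fun q hq => ?_⟩
        have h := conj'_mem_of_mem_normalizer ha (inv_mem (ha' q hq))
        convert h using 1
        simp only [commutatorElement_def]
        group }
  have hle : L ≤ S := by
    have hn := hA.L_le_norm_A1 hgen
    rw [← hgen] at hn ⊢
    exact sup_le (fun y hy => ⟨hn (mem_sup_left hy), fun q hq => mem_sup_left (hA.core_comm hq hy)⟩)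
      (fun y hy => ⟨hn (mem_sup_right hy), fun q hq => mem_sup_right (hA.comm_conj hq hy)⟩)
  exact (hle hl).2 q hq

theorem mem_centralizer_L {x : X} (h1 : x ∈ centralizer (Y : Set X))
    (h2 : x ∈ centralizer (cj g Y : Set X)) : x ∈ centralizer (L : Set X) := by
  have h : L ≤ centralizer ({x} : Set X) := by
    rw [← hgen]
    refine sup_le ?_ ?_ <;> intro a ha <;> rw [mem_centralizer_iff] <;> intro z hz <;>
      rw [Set.mem_singleton_iff.mp hz]
    · exact ((mem_centralizer_iff.mp h1) a ha).symm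
    · exact ((mem_centralizer_iff.mp h2) a ha).symm
  rw [mem_centralizer_iff]
  exact fun a ha => ((mem_centralizer_iff.mp (h ha)) x rfl).symm

omit hA hgen in
theorem conj_centralizer {g x : X} {Z : Subgroup X} (hx : x ∈ centralizer (Z : Set X)) :
    g * x * g⁻¹ ∈ centralizer (cj g Z : Set X) := by
  rw [mem_centralizer_iff]
  rintro _ ⟨z, hz, rfl⟩
  show g * z * g⁻¹ * (g * x * g⁻¹) = g * x * g⁻¹ * (g * z * g⁻¹)
  calc g * z * g⁻¹ * (g * x * g⁻¹) = g * (z * x) * g⁻¹ := by group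
    _ = g * (x * z) * g⁻¹ := by rw [(mem_centralizer_iff.mp hx) z hz]
    _ = _ := by group

theorem abelian : Y ≤ centralizer (Y : Set X) := elemAb_le_centralizer hA.el

theorem cj_inf_le_centralizer : cj g (Y ⊓ Cfsg.pCore p X) ≤ centralizer (cj g Y : Set X) := by
  rintro _ ⟨b, hb, rfl⟩
  exact conj_centralizer (hA.abelian hgen (mem_inf.mp hb).1)

theorem A1_decomp {a : X} (ha : a ∈ A1 p Y g) :
    ∃ b ∈ Y ⊓ Cfsg.pCore p X, ∃ b' ∈ cj g (Y ⊓ Cfsg.pCore p X), a = b * b' := by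
  refine sup_eq_mul_of_le_normalizer ?_ ha |>.imp fun b hb => ⟨hb.1, hb.2.imp fun b' hb' =>
    ⟨hb'.1, hb'.2.symm⟩⟩
  refine ((H70.cj_mono g inf_le_right).trans (Normal.map_conj_eq (Cfsg.pCore p X) g).le).trans ?_
  exact (le_inf hA.core_le_norm le_normalizer).trans (normalizer_inf_le_normalizer_inf _ _)

/-- `C_{A1}(Y) = Y ∩ O_p(X)`. -/
theorem mem_of_A1 (hg : g ∈ L) {a : X} (ha : a ∈ A1 p Y g) (hc : a ∈ centralizer (Y : Set X)) :
    a ∈ Y ⊓ Cfsg.pCore p X := by
  obtain ⟨b, hb, b', hb', rfl⟩ := hA.A1_decomp hgen ha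
  have h1 : b' ∈ centralizer (Y : Set X) := by
    have := mul_mem (inv_mem (hA.abelian hgen (mem_inf.mp hb).1)) hc
    rwa [inv_mul_cancel_left] at this
  have h2 := hA.mem_centralizer_L hgen h1 (hA.cj_inf_le_centralizer hgen hb')
  have h3 : g⁻¹ * b' * g = b' := by
    rw [mul_assoc, ← (mem_centralizer_iff.mp h2) g hg, inv_mul_cancel_left]
  rw [H70.mem_cj, h3] at hb'
  exact mul_mem hb hb'

/-- `C_{O_p(X)}(Y) = (Y ∩ O_p(X)) C_{O_p(X)}(L)`. -/
theorem W_eq (hg : g ∈ L) : Cfsg.pCore p X ⊓ centralizer (Y : Set X) =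
    (Y ⊓ Cfsg.pCore p X) ⊔ (Cfsg.pCore p X ⊓ centralizer (L : Set X)) := by
  refine le_antisymm (fun q hq => ?_) (sup_le
    (le_inf inf_le_right (inf_le_left.trans (hA.abelian hgen)))
    (inf_le_inf_left _ (centralizer_le hA.le_L)))
  obtain ⟨hqQ, hqY⟩ := mem_inf.mp hq
  obtain ⟨b, hb, b', hb', hbb⟩ := hA.A1_decomp hgen (hA.comm_core hgen hg (inv_mem hqQ))
  have hf : q * b = g * q * g⁻¹ * b'⁻¹ := by
    have : g * q * g⁻¹ = q * ⁅q⁻¹, g⁆ := by rw [commutatorElement_def]; group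
    rw [this, hbb]; group
  have h1 : q * b ∈ centralizer (Y : Set X) := mul_mem hqY (hA.abelian hgen (mem_inf.mp hb).1)
  have h2 : q * b ∈ centralizer (cj g Y : Set X) := by
    rw [hf]
    exact mul_mem (conj_centralizer hqY) (inv_mem (hA.cj_inf_le_centralizer hgen hb'))
  have h3 : q * b ∈ Cfsg.pCore p X ⊓ centralizer (L : Set X) :=
    mem_inf.mpr ⟨mul_mem hqQ (mem_inf.mp hb).2, hA.mem_centralizer_L hgen h1 h2⟩
  have h4 := mul_mem (mem_sup_right (S := Y ⊓ Cfsg.pCore p X) h3)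
    (mem_sup_left (T := Cfsg.pCore p X ⊓ centralizer (L : Set X)) (inv_mem hb))
  rwa [mul_inv_cancel_right] at h4

omit hgen

/-- The only conjugate of `Y` normalised by `P` is `Y`. -/
theorem eq_of_normalized {h : X} (hn : P ≤ normalizer (cj h Y : Set X)) : cj h Y = Y := by
  have h1 : cj h P ≤ normalizer (cj h Y : Set X) :=
    (H70.cj_mono h (hA.cent.trans (centralizer_le_normalizer _))).trans (le_normalizer_map _)
  obtain ⟨k, hk, hhk⟩ := wc_conj_in hA.pgroup hA.wc hn h1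
  have h2 : h⁻¹ * k ∈ normalizer (P : Set X) := by
    rw [← H70.cj_eq_self_iff, ← H70.cj_cj, ← hhk, H70.cj_cj, inv_mul_cancel, H70.cj_one]
  have h3 := H70.cj_eq_self_iff.mpr (hA.norm_le h2)
  have h4 : cj k Y = cj h Y := by
    conv_rhs => rw [← h3]
    rw [H70.cj_cj, mul_inv_cancel_left]
  have h5 : cj k⁻¹ (cj h Y) = cj h Y := H70.cj_eq_self_iff.mpr (inv_mem hk)
  rw [← h4, H70.cj_cj, inv_mul_cancel, H70.cj_one] at h5
  rw [← h4]
  exact h5.symm

include hgen

/-- Commuting `L`-conjugates of `Y` are equal. -/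
theorem eq_of_commute (hg : g ∈ L) {h : X} (hh : h ∈ L) (hc : cj h Y ≤ centralizer (Y : Set X)) :
    cj h Y = Y := by
  classical
  set Q0 := Cfsg.pCore p X
  have hQn : Q0.Normal := inferInstance
  set Y0 := Y ⊓ Q0
  set W := Q0 ⊓ centralizer (Y : Set X) with hWdef
  set F := Q0 ⊓ centralizer (L : Set X)
  have hWe : W = Y0 ⊔ F := hA.W_eq hgen hg
  have hY0W : Y0 ≤ W := hWe ▸ le_sup_left
  have hhY0 : cj h Y0 = Y0 := by
    refine H70.eq_of_cj_le fun x hx => hA.mem_of_A1 hgen hg ?_ (hc (H70.cj_mono h inf_le_left hx))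
    obtain ⟨z, hz, rfl⟩ := hx
    exact conj_mem_of_mem_normalizer (hA.L_le_norm_A1 hgen hh) (mem_sup_left hz)
  have hLF : L ≤ centralizer (F : Set X) := le_centralizer_iff.mp inf_le_right
  have hhW : cj h W = W := by
    rw [hWe, cj, Subgroup.map_sup]
    show cj h Y0 ⊔ cj h F = _
    rw [hhY0, H70.cj_eq_self_iff.mpr (centralizer_le_normalizer _ (hLF hh))]
  -- `h` acts trivially on `W / Y0`
  have htriv : ∀ x ∈ W, x⁻¹ * (h * x * h⁻¹) ∈ Y0 ∧ x⁻¹ * (h⁻¹ * x * h) ∈ Y0 := by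
    intro x hx
    rw [hWe] at hx
    have hFn : F ≤ normalizer (Y0 : Set X) :=
      (inf_le_left.trans (le_inf hA.core_le_norm le_normalizer)).trans
        (normalizer_inf_le_normalizer_inf _ _)
    obtain ⟨a, ha, f, hf, rfl⟩ := sup_eq_mul_of_le_normalizer hFn hx
    have hf1 : h * f = f * h := (mem_centralizer_iff.mp (mem_inf.mp hf).2) h hh
    have ha1 : h * a * h⁻¹ ∈ Y0 := by rw [← hhY0]; exact ⟨a, ha, rfl⟩
    have ha2 : h⁻¹ * a * h ∈ Y0 := by
      have : a ∈ cj h Y0 := by rw [hhY0]; exact ha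
      exact H70.mem_cj.mp this
    refine ⟨?_, ?_⟩
    · have e : (a * f)⁻¹ * (h * (a * f) * h⁻¹) = f⁻¹ * (a⁻¹ * (h * a * h⁻¹)) * f := by
        calc (a * f)⁻¹ * (h * (a * f) * h⁻¹) = f⁻¹ * a⁻¹ * (h * a * h⁻¹) * (h * f) * h⁻¹ := by group
          _ = _ := by rw [hf1]; group
      rw [e]
      exact conj'_mem_of_mem_normalizer (hFn hf) (mul_mem (inv_mem ha) ha1)
    · have e : (a * f)⁻¹ * (h⁻¹ * (a * f) * h) = f⁻¹ * (a⁻¹ * (h⁻¹ * a * h)) * f := by
        calc (a * f)⁻¹ * (h⁻¹ * (a * f) * h) = f⁻¹ * a⁻¹ * h⁻¹ * a * (f * h) := by group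
          _ = _ := by rw [← hf1]; group
      rw [e]
      exact conj'_mem_of_mem_normalizer (hFn hf) (mul_mem (inv_mem ha) ha2)
  set V := cj h Y with hV
  have hWV : W ≤ centralizer (V : Set X) := by
    rw [← hhW]
    rintro _ ⟨x, hx, rfl⟩
    exact conj_centralizer (mem_inf.mp hx).2
  have hPW : P ≤ normalizer (W : Set X) :=
    (le_inf (by rw [normalizer_eq_top_iff.mpr hQn]; exact le_top)
      (le_normalizer.trans' hA.cent)).trans (normalizer_inf_le_normalizer_inf _ _)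
  have hVC : V ≤ centralizer (Y : Set X) := hc
  -- `P` centralises `V` modulo `W`
  have hmod : ∀ t ∈ P, ∀ v ∈ V, v⁻¹ * (t * v * t⁻¹) ∈ W := by
    intro t ht v hv
    have htY : ∀ y ∈ Y, t * y * t⁻¹ = y := fun y hy => by
      rw [← (mem_centralizer_iff.mp (hA.cent ht)) y hy, mul_inv_cancel_right]
    have hz : v⁻¹ * (t * v * t⁻¹) ∈ centralizer (Q0 : Set X) := by
      rw [mem_centralizer_iff]
      intro q' hq'
      set q := t⁻¹ * q' * t with hqdef
      have hq : q ∈ Q0 := by simpa using hQn.conj_mem q' hq' t⁻¹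
      set w := q⁻¹ * q' with hw
      have hwW : w ∈ W := by
        refine mem_inf.mpr ⟨mul_mem (inv_mem hq) hq', ?_⟩
        rw [mem_centralizer_iff]
        intro y hy
        have hy' : q * y * q⁻¹ ∈ Y := conj_mem_of_mem_normalizer (hA.core_le_norm hq) hy
        have e : q' * y * q'⁻¹ = q * y * q⁻¹ := by
          calc q' * y * q'⁻¹ = t * (q * (t⁻¹ * y * t) * q⁻¹) * t⁻¹ := by rw [hqdef]; group
            _ = t * (q * y * q⁻¹) * t⁻¹ := by
              rw [show t⁻¹ * y * t = y by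
                rw [mul_assoc, (mem_centralizer_iff.mp (hA.cent ht)) y hy, inv_mul_cancel_left]]
            _ = _ := htY _ hy'
        calc y * w = q⁻¹ * (q * y * q⁻¹) * q' := by rw [hw]; group
          _ = q⁻¹ * (q' * y * q'⁻¹) * q' := by rw [e]
          _ = w * y := by rw [hw]; group
      have hwv : w * v = v * w := ((mem_centralizer_iff.mp (hWV hwW)) v hv).symm
      set a := q * v * q⁻¹ * v⁻¹ with ha
      have haY : a ∈ Y0 := by
        rw [← hhY0]
        have := hA.comm_conj (g := h) hq hv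
        rwa [commutatorElement_def] at this
      have e1 : q' * v * q'⁻¹ = a * v := by
        calc q' * v * q'⁻¹ = q * (w * v) * w⁻¹ * q⁻¹ := by rw [hw]; group
          _ = a * v := by rw [hwv, ha]; group
      have e2 : q' * (t * v * t⁻¹) * q'⁻¹ = a * (t * v * t⁻¹) := by
        calc q' * (t * v * t⁻¹) * q'⁻¹ = t * (q * v * q⁻¹) * t⁻¹ := by rw [hqdef]; group
          _ = (t * a * t⁻¹) * (t * v * t⁻¹) := by rw [ha]; group
          _ = _ := by rw [htY a (mem_inf.mp haY).1]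
      have e3 : q' * (v⁻¹ * (t * v * t⁻¹)) * q'⁻¹ = v⁻¹ * (t * v * t⁻¹) := by
        calc q' * (v⁻¹ * (t * v * t⁻¹)) * q'⁻¹
            = (q' * v * q'⁻¹)⁻¹ * (q' * (t * v * t⁻¹) * q'⁻¹) := by group
          _ = _ := by rw [e1, e2]; group
      exact mul_inv_eq_iff_eq_mul.mp e3
    refine mem_inf.mpr ⟨hA.charP hz, mul_mem (inv_mem (hVC hv)) ?_⟩
    exact mul_mem (mul_mem (hA.cent ht) (hVC hv)) (inv_mem (hA.cent ht))
  set U := V ⊔ W
  have hWnV : W ≤ normalizer (V : Set X) := hWV.trans (centralizer_le_normalizer _)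
  have hPU : P ≤ normalizer (U : Set X) := by
    refine le_normalizer_of_conj fun t ht z hz => ?_
    obtain ⟨v, hv, w, hw, rfl⟩ := sup_eq_mul_of_le_normalizer hWnV hz
    have e : t * (v * w) * t⁻¹ = v * (v⁻¹ * (t * v * t⁻¹)) * (t * w * t⁻¹) := by group
    rw [e]
    exact mul_mem (mul_mem (mem_sup_left hv) (mem_sup_right (hmod t ht v hv)))
      (mem_sup_right (conj_mem_of_mem_normalizer (hPW ht) hw))
  have hhPY0 : cj h P ≤ normalizer (Y0 : Set X) := by
    rw [← hhY0]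
    refine (H70.cj_mono h ?_).trans (le_normalizer_map _)
    exact hA.cent.trans ((centralizer_le inf_le_left).trans (centralizer_le_normalizer _))
  have hhPV : cj h P ≤ normalizer (V : Set X) :=
    (H70.cj_mono h (hA.cent.trans (centralizer_le_normalizer _))).trans (le_normalizer_map _)
  have hhPW : cj h P ≤ normalizer (W : Set X) := by
    rw [← hhW]; exact (H70.cj_mono h hPW).trans (le_normalizer_map _)
  have hhPU : cj h P ≤ normalizer (U : Set X) :=
    (le_inf hhPV hhPW).trans (normalizer_inf_le_normalizer_sup _ _)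
  obtain ⟨k, hk, hhk⟩ := wc_conj_in hA.pgroup hA.wc hPU hhPU
  have hkY : V = cj k Y := by
    have h2 : h⁻¹ * k ∈ normalizer (P : Set X) := by
      rw [← H70.cj_eq_self_iff, ← H70.cj_cj, ← hhk, H70.cj_cj, inv_mul_cancel, H70.cj_one]
    rw [hV]
    conv_lhs => rw [← H70.cj_eq_self_iff.mpr (hA.norm_le h2)]
    rw [H70.cj_cj, mul_inv_cancel_left]
  have hYU : Y ≤ U := by
    have := H70.cj_mono k⁻¹ (le_sup_left : V ≤ U)
    rwa [H70.cj_eq_self_iff.mpr (inv_mem hk), hkY, H70.cj_cj, inv_mul_cancel, H70.cj_one] at this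
  -- the cocycle
  set Zw := W ⊓ centralizer (W : Set X) with hZwdef
  let G2 : Subgroup X :=
    { carrier := {k | k ∈ normalizer (W : Set X) ∧ k ∈ normalizer (Y0 : Set X) ∧
        ∀ y ∈ Y, k * y * k⁻¹ * y⁻¹ ∈ W}
      one_mem' := ⟨one_mem _, one_mem _, fun y _ => by simp⟩
      mul_mem' := by
        rintro a b ⟨ha, ha', ha''⟩ ⟨hb, hb', hb''⟩
        refine ⟨mul_mem ha hb, mul_mem ha' hb', fun y hy => ?_⟩
        have e : a * b * y * (a * b)⁻¹ * y⁻¹ =
            a * (b * y * b⁻¹ * y⁻¹) * a⁻¹ * (a * y * a⁻¹ * y⁻¹) := by group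
        rw [e]
        exact mul_mem (conj_mem_of_mem_normalizer ha (hb'' y hy)) (ha'' y hy)
      inv_mem' := by
        rintro a ⟨ha, ha', ha''⟩
        refine ⟨inv_mem ha, inv_mem ha', fun y hy => ?_⟩
        have := conj'_mem_of_mem_normalizer ha (inv_mem (ha'' y hy))
        convert this using 1
        group }
  have hYW : Y ≤ centralizer (W : Set X) := le_centralizer_iff.mp inf_le_right
  have hPG2 : P ≤ G2 := fun t ht => ⟨hPW ht,
    (hA.cent.trans ((centralizer_le inf_le_left).trans (centralizer_le_normalizer _))) ht,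
    fun y hy => by rw [← (mem_centralizer_iff.mp (hA.cent ht)) y hy]; simp⟩
  have hhPG2 : cj h P ≤ G2 := by
    intro x hx
    refine ⟨hhPW hx, hhPY0 hx, fun y hy => ?_⟩
    obtain ⟨v, hv, w, hw, rfl⟩ := sup_eq_mul_of_le_normalizer hWnV (hYU hy)
    have hxv : x * v * x⁻¹ = v := by
      obtain ⟨t, ht, rfl⟩ := hx
      obtain ⟨y', hy', rfl⟩ := hv
      show h * t * h⁻¹ * (h * y' * h⁻¹) * (h * t * h⁻¹)⁻¹ = h * y' * h⁻¹
      calc h * t * h⁻¹ * (h * y' * h⁻¹) * (h * t * h⁻¹)⁻¹ = h * (t * y') * t⁻¹ * h⁻¹ := by group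
        _ = _ := by rw [← (mem_centralizer_iff.mp (hA.cent ht)) y' hy']; group
    have hz : x * w * x⁻¹ * w⁻¹ ∈ W :=
      mul_mem (conj_mem_of_mem_normalizer (hhPW hx) hw) (inv_mem hw)
    have e : x * (v * w) * x⁻¹ * (v * w)⁻¹ = x * w * x⁻¹ * w⁻¹ := by
      calc x * (v * w) * x⁻¹ * (v * w)⁻¹
          = (x * v * x⁻¹) * (x * w * x⁻¹ * w⁻¹) * v⁻¹ := by group
        _ = _ := by rw [hxv, (mem_centralizer_iff.mp (hWV hz)) v hv, mul_inv_cancel_right]
    rw [e]; exact hz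
  obtain ⟨R, hR⟩ := (IsPGroup.comap_subtype (K := G2) hA.pgroup).exists_le_sylow (p := p)
  have hRY : (R : Subgroup G2).map G2.subtype ≤ normalizer (Y : Set X) :=
    (wc_le_normalizer hA.wc (R.isPGroup'.map G2.subtype)
      (fun t ht => ⟨⟨t, hPG2 ht⟩, hR ht, rfl⟩)).trans hA.norm_le
  have hxY : cj h P ≤ normalizer (Y : Set X) := by
    have hY0Z : Y0 ≤ Zw := le_inf hY0W (inf_le_left.trans hYW)
    haveI hn9 : (Y0.subgroupOf Zw).Normal :=
      normal_subgroupOf_of_le_normalizer (inf_le_left.trans (inf_le_left.trans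
        ((le_inf hA.core_le_norm le_normalizer).trans (normalizer_inf_le_normalizer_inf _ _))))
    letI icg : CommGroup Zw :=
      { (inferInstance : Group Zw) with
        mul_comm := fun a b => Subtype.ext
          ((mem_centralizer_iff.mp (mem_inf.mp b.2).2) a (mem_inf.mp a.2).1) }
    have hconjZ : ∀ l : G2, ∀ z ∈ Zw, (l : X) * z * (l : X)⁻¹ ∈ Zw := fun l z hz =>
      conj_mem_of_mem_normalizer (normalizer_inf_le_normalizer_inf _ _
        (mem_inf.mpr ⟨l.2.1, normalizer_le_normalizer_centralizer W l.2.1⟩)) hz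
    let M9 := Zw ⧸ Y0.subgroupOf Zw
    let mk : Zw →* M9 := QuotientGroup.mk' _
    let conj9 : G2 → (Zw →* Zw) := fun l =>
      { toFun := fun z => ⟨(l : X) * z * (l : X)⁻¹, hconjZ l z z.2⟩
        map_one' := Subtype.ext (by simp)
        map_mul' := fun a b => Subtype.ext (by simp [mul_assoc]) }
    let θ : G2 → (M9 →* M9) := fun l => QuotientGroup.map _ _ (conj9 l) (fun z hz =>
      mem_comap.mpr (mem_subgroupOf.mpr (conj_mem_of_mem_normalizer l.2.2.1 hz)))
    have hθ : ∀ l z, θ l (mk z) = mk (conj9 l z) := fun l z => rfl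
    intro x hx
    refine mem_normalizer_iff.mpr fun y => ?_
    suffices hkey : ∀ x ∈ cj h P, ∀ y ∈ Y, x * y * x⁻¹ ∈ Y by
      refine ⟨hkey x hx y, fun hy => ?_⟩
      have := hkey x⁻¹ (inv_mem hx) _ hy
      simpa [mul_assoc] using this
    clear! x y
    intro x hx y hy
    have hβ : ∀ l : G2, (l : X) * y * (l : X)⁻¹ * y⁻¹ ∈ Zw := by
      intro l
      refine mem_inf.mpr ⟨l.2.2.2 y hy, mul_mem ?_ (inv_mem (hYW hy))⟩
      exact conj_mem_of_mem_normalizer (normalizer_le_normalizer_centralizer W l.2.1) (hYW hy)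
    let b : G2 → M9 := fun l => mk ⟨_, hβ l⟩
    have hmul : ∀ l m : G2, b (l * m) = θ l (b m) * b l := by
      intro l m
      show mk _ = θ l (mk _) * mk _
      rw [hθ, ← map_mul]
      congr 1
      apply Subtype.ext
      show (l : X) * m * y * ((l : X) * m)⁻¹ * y⁻¹ =
        (l : X) * ((m : X) * y * (m : X)⁻¹ * y⁻¹) * (l : X)⁻¹ * ((l : X) * y * (l : X)⁻¹ * y⁻¹)
      group
    have hbR : ∀ r : G2, r ∈ (R : Subgroup G2) → b r = 1 := by
      intro r hr
      refine (QuotientGroup.eq_one_iff _).mpr (mem_subgroupOf.mpr (mem_inf.mpr ⟨?_, ?_⟩))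
      · exact mul_mem (conj_mem_of_mem_normalizer (hRY (mem_map_of_mem _ hr)) hy) (inv_mem hy)
      · exact (mem_inf.mp (r.2.2.2 y hy)).1
    haveI := Fintype.ofFinite (G2 ⧸ (R : Subgroup G2))
    set γ : M9 := ∏ c : G2 ⧸ (R : Subgroup G2), b c.out with hγ
    have hγl : ∀ l : G2, γ = θ l γ * b l ^ Fintype.card (G2 ⧸ (R : Subgroup G2)) := by
      intro l
      have hc : ∀ c : G2 ⧸ (R : Subgroup G2), b (l • c).out = θ l (b c.out) * b l := by
        intro c
        obtain ⟨r, hr⟩ := QuotientGroup.mk_out_eq_mul (R : Subgroup G2) (l * c.out)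
        have e : l • c = QuotientGroup.mk (l * c.out) := by
          conv_lhs => rw [← c.out_eq]
          rfl
        rw [e, hr, hmul, hbR _ r.2, map_one, one_mul, hmul]
      calc γ = ∏ c : G2 ⧸ (R : Subgroup G2), b (l • c).out :=
            (Equiv.prod_comp (MulAction.toPerm l) (fun c : G2 ⧸ (R : Subgroup G2) => b c.out)).symm
        _ = _ := by
          rw [Finset.prod_congr rfl fun c _ => hc c, Finset.prod_mul_distrib, ← map_prod,
            Finset.prod_const, Finset.card_univ]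
    obtain ⟨t, ht, rfl⟩ := hx
    set t2 : G2 := ⟨t, hPG2 ht⟩
    set x2 : G2 := ⟨(MulAut.conj h).toMonoidHom t, hhPG2 ⟨t, ht, rfl⟩⟩
    have h1 : θ t2 γ = γ := by
      have := hγl t2
      rw [show b t2 = 1 from hbR t2 (hR ht), one_pow, mul_one] at this
      exact this.symm
    have h2 : θ x2 γ = θ t2 γ := by
      obtain ⟨z, hz⟩ := QuotientGroup.mk'_surjective _ γ
      rw [← hz]
      show θ x2 (mk z) = θ t2 (mk z)
      rw [hθ, hθ]
      apply (QuotientGroup.eq).mpr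
      refine mem_subgroupOf.mpr ?_
      have hzW : (z : X) ∈ W := (mem_inf.mp z.2).1
      have hz' : h⁻¹ * z * h ∈ W := by
        have : (z : X) ∈ cj h W := by rw [hhW]; exact hzW
        exact H70.mem_cj.mp this
      obtain ⟨-, hb1⟩ := htriv z hzW
      set u := t * (h⁻¹ * z * h) * t⁻¹ with hu
      obtain ⟨hb2, -⟩ := htriv u (conj_mem_of_mem_normalizer (hPW ht) hz')
      have hb3 := conj_mem_of_mem_normalizer
        ((hA.cent.trans ((centralizer_le inf_le_left).trans (centralizer_le_normalizer _))) ht) hb1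
      show ((MulAut.conj h).toMonoidHom t * z * ((MulAut.conj h).toMonoidHom t)⁻¹)⁻¹ *
        (t * z * t⁻¹) ∈ Y0
      have e : ((MulAut.conj h).toMonoidHom t * z * ((MulAut.conj h).toMonoidHom t)⁻¹)⁻¹ *
          (t * z * t⁻¹) = (u⁻¹ * (h * u * h⁻¹))⁻¹ * (t * ((z : X)⁻¹ * (h⁻¹ * z * h)) * t⁻¹)⁻¹ := by
        rw [hu]
        show (h * t * h⁻¹ * z * (h * t * h⁻¹)⁻¹)⁻¹ * (t * z * t⁻¹) = _
        group
      rw [e]
      exact mul_mem (inv_mem hb2) (inv_mem hb3)
    have h3 := hγl x2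
    rw [h2, h1, left_eq_mul] at h3
    have h4 : b x2 = 1 := by
      have hpM : IsPGroup p M9 :=
        (((H1.isPGroup_pCore p X).to_le (inf_le_left.trans inf_le_left : Zw ≤ Q0))).to_quotient _
      obtain ⟨j, hj⟩ := hpM (b x2)
      have hd := orderOf_dvd_of_pow_eq_one h3
      obtain ⟨i, -, hi⟩ := (Nat.dvd_prime_pow Fact.out).mp (orderOf_dvd_of_pow_eq_one hj)
      rw [hi] at hd
      rcases i with _ | i
      · rw [pow_zero] at hi; exact orderOf_eq_one_iff.mp hi
      · exfalso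
        refine R.not_dvd_index ?_
        rw [Subgroup.index_eq_card, Nat.card_eq_fintype_card]
        exact (dvd_pow_self p (Nat.succ_ne_zero i)).trans hd
    have h5 := (mem_inf.mp (mem_subgroupOf.mp ((QuotientGroup.eq_one_iff _).mp h4))).1
    have := mul_mem h5 hy
    simpa [x2, mul_assoc] using this
  have h6 : P ≤ normalizer (cj h⁻¹ Y : Set X) := by
    refine le_trans (le_trans ?_ (H70.cj_mono h⁻¹ hxY)) (le_normalizer_map _)
    rw [H70.cj_cj, inv_mul_cancel, H70.cj_one]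
  have h7 := hA.eq_of_normalized h6
  conv_lhs => rw [hV, ← h7, H70.cj_cj, mul_inv_cancel, H70.cj_one]

end ALData

end H75
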