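import Cfsg.Agent.H75.Basic

/-!
p-irreducible groups, minimal groups over a subgroup.
-/

set_option autoImplicit false

namespace H75

open Subgroup
open scoped commutatorElement

variable {G : Type*} [Group G] {p : ℕ}

theorem isPClosed_of_commutator_le_pCore [Finite G] [Fact p.Prime] {N : Subgroup G}
    (h : ⁅N, N⁆ ≤ Cfsg.pCore p G) : Cfsg.IsPClosed p N := by
  apply isPClosed_of_commutator_le
  have h1 : ⁅N, N⁆ ≤ Cfsg.pCoreOf p N :=
    (le_inf h (commutator_le_self N)).trans (pCore_inf_le N)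
  rw [← map_subtype_commutator] at h1
  exact (map_le_map_iff_of_injective N.subtype_injective).mp h1

theorem isPIrreducible_of_strongly [Finite G] [Fact p.Prime]
    (h : Cfsg.IsStronglyPIrreducible p G) : Cfsg.IsPIrreducible p G :=
  ⟨h.1, fun N hN hnc => h.2 N hN fun hle =>
    hnc (isPClosed_of_commutator_le_pCore ((commutator_mono le_rfl le_top).trans hle))⟩

/-- A `p`-subgroup with normal image in a `p`-closed normal subgroup lies in the `p`-core. -/
theorem le_pCore_of_le_isPClosed [Finite G] [Fact p.Prime] {N Y : Subgroup G} [N.Normal]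
    (hN : Cfsg.IsPClosed p N) (hY : IsPGroup p Y) (hYN : Y ≤ N) : Y ≤ Cfsg.pCore p G :=
  (isPClosed_subgroup_of_le_pCore hN hYN hY).trans (pCoreOf_le_of_subnormal (Normal.isSubnormal ‹_›))

theorem not_le_pCore_sylow [Finite G] [Fact p.Prime] (h : ¬ Cfsg.IsPClosed p G) (T : Sylow p G) :
    ¬ (T : Subgroup G) ≤ Cfsg.pCore p G := by
  intro hle
  refine h (isPClosed_of_normal T ?_)
  rw [← le_antisymm (H1.pCore_le_sylow T) hle]
  exact H1.pCore_normal' p G

theorem pirr_res_le_normalClosure [Finite G] [Fact p.Prime] (hH : Cfsg.IsPIrreducible p G)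
    {Y : Subgroup G} (hY : IsPGroup p Y) (hnot : ¬ Y ≤ Cfsg.pCore p G) :
    Cfsg.pResidual p G ≤ normalClosure (Y : Set G) :=
  hH.2 _ inferInstance fun hc => hnot (le_pCore_of_le_isPClosed hc hY le_normalClosure)

theorem pirr_normalClosure_sylow [Finite G] [Fact p.Prime] (hH : Cfsg.IsPIrreducible p G)
    (T : Sylow p G) : normalClosure ((T : Subgroup G) : Set G) = ⊤ := by
  rw [eq_top_iff, ← pResidual_sup_sylow T]
  exact sup_le (pirr_res_le_normalClosure hH T.isPGroup' (not_le_pCore_sylow hH.1 T))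
    le_normalClosure

theorem pirr_commutator_sup_sylow [Finite G] [Fact p.Prime] (hH : Cfsg.IsPIrreducible p G)
    (T : Sylow p G) : commutator G ⊔ (T : Subgroup G) = ⊤ := by
  have hn : (commutator G ⊔ (T : Subgroup G)).Normal :=
    Subgroup.Normal.of_commutator_le (G := G) le_sup_left
  rw [eq_top_iff, ← pirr_normalClosure_sylow hH T]
  exact normalClosure_le_normal (SetLike.coe_subset_coe.mpr le_sup_right)

theorem pirr_res_le_commutator [Finite G] [Fact p.Prime] (hH : Cfsg.IsPIrreducible p G) :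
    Cfsg.pResidual p G ≤ commutator G := by
  let T : Sylow p G := default
  exact pResidual_le_of_sup_eq_top T.isPGroup' (pirr_commutator_sup_sylow hH T)

theorem pirr_res_commutator_eq [Finite G] [Fact p.Prime] (hH : Cfsg.IsPIrreducible p G)
    (T : Sylow p G) {Y : Subgroup G} (hYT : Y ≤ (T : Subgroup G))
    (hTY : (T : Subgroup G) ≤ normalizer (Y : Set G)) (hnot : ¬ Y ≤ Cfsg.pCore p G) :
    ⁅Cfsg.pResidual p G, Y⁆ = Cfsg.pResidual p G := by
  set K := Cfsg.pResidual p G with hK
  have := pResidual_normal p G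
  have hYp : IsPGroup p Y := T.isPGroup'.to_le hYT
  refine le_antisymm (commutator_le_left K Y) ?_
  set D := ⁅K, Y⁆ with hD
  have hDn : D.Normal := by
    refine normal_of_top_le ?_
    rw [← pResidual_sup_sylow (p := p) T]
    refine sup_le (normalizer_commutator_ge_left K Y) ?_
    exact (le_inf (by rw [normalizer_eq_top]; exact le_top) hTY).trans
      (normalizer_inf_le_normalizer_commutator K Y)
  -- `D ⊔ Y` is normal
  have hn : (D ⊔ Y).Normal := by
    refine normal_of_top_le ?_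
    rw [← pResidual_sup_sylow (p := p) T]
    refine sup_le ?_ ((le_inf (by rw [normalizer_eq_top]; exact le_top) hTY).trans
      (normalizer_inf_le_normalizer_sup D Y))
    rw [le_normalizer_iff_commutator_le_right, commutator_le]
    intro k hk z hz
    obtain ⟨d, hd, y, hy, rfl⟩ := mem_sup_of_normal_left.mp hz
    rw [commutatorElement_mul_right_eq_mul_conj, mul_assoc, mul_assoc, ← mul_assoc d]
    refine mem_sup_left ?_
    refine mul_mem ?_ ?_
    · exact (Subgroup.commutator_le_right (H₁ := K) (H₂ := D)) (commutator_mem_commutator hk hd)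
    · exact hDn.conj_mem _ (commutator_mem_commutator hk hy) d
  have h1 : K ≤ D ⊔ Y := (pirr_res_le_normalClosure hH hYp hnot).trans
    (normalClosure_le_normal (SetLike.coe_subset_coe.mpr le_sup_right))
  have h2 : resOf p (D ⊔ Y) ≤ D := resOf_le_of_sup (by rw [normalizer_eq_top]; exact le_top) hYp rfl
  calc K = resOf p K := resOf_pResidual.symm
    _ ≤ resOf p (D ⊔ Y) := resOf_mono h1
    _ ≤ D := h2

/-! ### quotients by normal `p`-subgroups -/

theorem comap_pCore_quotient {D : Subgroup G} [D.Normal] (hD : IsPGroup p D) :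
    (Cfsg.pCore p (G ⧸ D)).comap (QuotientGroup.mk' D) = Cfsg.pCore p G := by
  rw [H1.pCore_quotient p D hD, comap_map_eq, QuotientGroup.ker_mk', sup_eq_left]
  exact H1.le_pCore hD

theorem isPClosed_quotient_iff [Finite G] [Fact p.Prime] {D : Subgroup G} [D.Normal]
    (hD : IsPGroup p D) : Cfsg.IsPClosed p (G ⧸ D) ↔ Cfsg.IsPClosed p G := by
  rw [isPClosed_iff, isPClosed_iff]
  constructor
  · rintro h x ⟨k, hk⟩
    rw [← comap_pCore_quotient hD]
    exact h _ ⟨k, by rw [← map_pow, hk, map_one]⟩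
  · intro h q hq
    obtain ⟨k, hk⟩ := hq
    obtain ⟨x, rfl⟩ := QuotientGroup.mk'_surjective D q
    rw [← map_pow] at hk
    have hxD : x ^ (p ^ k) ∈ D := (QuotientGroup.eq_one_iff _).mp hk
    obtain ⟨j, hj⟩ := hD ⟨_, hxD⟩
    have hj' : (x ^ (p ^ k)) ^ (p ^ j) = 1 := by simpa using congrArg Subtype.val hj
    have hx : x ∈ Cfsg.pCore p G := h x ⟨k + j, by rw [pow_add, pow_mul]; exact hj'⟩
    rw [H1.pCore_quotient p D hD]
    exact mem_map_of_mem _ hx

/-- `p`-closedness only depends on the `p`-elements. -/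
theorem isPClosed_map [Finite G] [Fact p.Prime] {H : Type*} [Group H] [Finite H] (f : G →* H)
    (hf : Function.Surjective f) (h : Cfsg.IsPClosed p G) : Cfsg.IsPClosed p H := by
  let T : Sylow p G := default
  refine isPClosed_of_normal (T.mapSurjective hf) ?_
  rw [Sylow.coe_mapSurjective]
  exact (h T).map f hf

theorem isPClosed_sup_iff [Finite G] [Fact p.Prime] {D N : Subgroup G} [D.Normal]
    (hD : IsPGroup p D) (hDN : D ≤ N) :
    Cfsg.IsPClosed p (N.map (QuotientGroup.mk' D)) ↔ Cfsg.IsPClosed p N := by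
  let f : N →* N.map (QuotientGroup.mk' D) := (QuotientGroup.mk' D).subgroupMap N
  have hf : Function.Surjective f := MonoidHom.subgroupMap_surjective _ _
  refine ⟨fun h => ?_, isPClosed_map f hf⟩
  rw [isPClosed_iff] at h ⊢
  rintro x ⟨k, hk⟩
  have hfx := h (f x) ⟨k, by rw [← map_pow, hk, map_one]⟩
  have := H1.pCore_normal' p (N.map (QuotientGroup.mk' D))
  refine H1.le_pCore (N := (Cfsg.pCore p (N.map (QuotientGroup.mk' D))).comap f) ?_ hfx
  refine (H1.isPGroup_pCore p _).comap_of_ker_isPGroup f ?_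
  intro ⟨y, hy⟩
  have hyD : (y : G) ∈ D := by
    have := congrArg Subtype.val (MonoidHom.mem_ker.mp hy)
    exact (QuotientGroup.eq_one_iff _).mp this
  obtain ⟨j, hj⟩ := hD ⟨_, hyD⟩
  exact ⟨j, Subtype.ext (Subtype.ext (by simpa using congrArg Subtype.val hj))⟩

theorem res_le_of_res_le_sup [Finite G] [Fact p.Prime] {D N : Subgroup G} [D.Normal] [N.Normal]
    (hD : IsPGroup p D) (h : Cfsg.pResidual p G ≤ N ⊔ D) : Cfsg.pResidual p G ≤ N :=
  calc Cfsg.pResidual p G = resOf p (Cfsg.pResidual p G) := resOf_pResidual.symm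
    _ ≤ resOf p (N ⊔ D) := resOf_mono h
    _ ≤ N := resOf_le_of_sup (by rw [normalizer_eq_top]; exact le_top) hD rfl

theorem res_le_comap [Finite G] [Fact p.Prime] {D : Subgroup G} [D.Normal]
    (Nb : Subgroup (G ⧸ D)) :
    Cfsg.pResidual p (G ⧸ D) ≤ Nb ↔ Cfsg.pResidual p G ≤ Nb.comap (QuotientGroup.mk' D) := by
  rw [← map_le_iff_le_comap, map_pResidual_of_surjective _ (QuotientGroup.mk'_surjective D)]

theorem isPIrreducible_quotient_iff [Finite G] [Fact p.Prime] {D : Subgroup G} [D.Normal]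
    (hD : IsPGroup p D) : Cfsg.IsPIrreducible p (G ⧸ D) ↔ Cfsg.IsPIrreducible p G := by
  constructor
  · rintro ⟨h1, h2⟩
    refine ⟨fun h => h1 ((isPClosed_quotient_iff hD).mpr h), fun N hN hnc => ?_⟩
    have := hN
    refine res_le_of_res_le_sup hD ?_
    have h3 : ¬ Cfsg.IsPClosed p ((N ⊔ D).map (QuotientGroup.mk' D)) := fun hc =>
      hnc (isPClosed_mono le_sup_left ((isPClosed_sup_iff hD le_sup_right).mp hc))
    have h4 := (res_le_comap _).mp
      (h2 _ (Normal.map inferInstance _ (QuotientGroup.mk'_surjective D)) h3)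
    rwa [comap_map_eq, QuotientGroup.ker_mk', sup_assoc, sup_idem] at h4
  · rintro ⟨h1, h2⟩
    refine ⟨fun h => h1 ((isPClosed_quotient_iff hD).mp h), fun Nb hN hnc => ?_⟩
    have := hN
    rw [res_le_comap]
    refine h2 _ inferInstance fun hc => hnc ?_
    have hDle : D ≤ Nb.comap (QuotientGroup.mk' D) := fun d hd => by
      rw [mem_comap, QuotientGroup.mk'_apply, (QuotientGroup.eq_one_iff d).mpr hd]
      exact one_mem _
    have := (isPClosed_sup_iff hD hDle).mpr hc
    rwa [map_comap_eq_self_of_surjective (QuotientGroup.mk'_surjective D)] at this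

theorem isStronglyPIrreducible_quotient_iff [Finite G] [Fact p.Prime] {D : Subgroup G} [D.Normal]
    (hD : IsPGroup p D) :
    Cfsg.IsStronglyPIrreducible p (G ⧸ D) ↔ Cfsg.IsStronglyPIrreducible p G := by
  have key : ∀ N : Subgroup G, ⁅N.map (QuotientGroup.mk' D), (⊤ : Subgroup (G ⧸ D))⁆ ≤
      Cfsg.pCore p (G ⧸ D) ↔ ⁅N, (⊤ : Subgroup G)⁆ ≤ Cfsg.pCore p G := by
    intro N
    rw [← map_top_of_surjective _ (QuotientGroup.mk'_surjective D), ← map_commutator,
      map_le_iff_le_comap, comap_pCore_quotient hD]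
  constructor
  · rintro ⟨h1, h2⟩
    refine ⟨fun h => h1 ((isPClosed_quotient_iff hD).mpr h), fun N hN hnc => ?_⟩
    have := hN
    refine res_le_of_res_le_sup hD ?_
    have h4 := (res_le_comap _).mp (h2 _ (Normal.map inferInstance _ (QuotientGroup.mk'_surjective D))
      (fun hc => hnc ((commutator_mono le_sup_left le_rfl).trans ((key (N ⊔ D)).mp hc))))
    rwa [comap_map_eq, QuotientGroup.ker_mk', sup_assoc, sup_idem] at h4
  · rintro ⟨h1, h2⟩
    refine ⟨fun h => h1 ((isPClosed_quotient_iff hD).mp h), fun Nb hN hnc => ?_⟩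
    have := hN
    rw [res_le_comap]
    refine h2 _ inferInstance fun hc => hnc ?_
    have := (key _).mpr hc
    rwa [map_comap_eq_self_of_surjective (QuotientGroup.mk'_surjective D)] at this

/-! ### groups minimal over a subgroup -/

/-- The unique maximal subgroup over `Y` contains every proper subgroup over `Y`. -/
theorem le_coatom_of_minimalOver [Finite G] {Y M : Subgroup G} (h : Cfsg.IsMinimalOver Y)
    (hM : IsCoatom M) (hYM : Y ≤ M) {X : Subgroup G} (hYX : Y ≤ X) (hX : X ≠ ⊤) : X ≤ M := by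
  obtain ⟨M0, -, huniq⟩ := h.2
  obtain ⟨M', hM', hXM'⟩ := exists_coatom_ge hX
  rw [huniq M ⟨hM, hYM⟩, ← huniq M' ⟨hM', hYX.trans hXM'⟩]
  exact hXM'

theorem not_normal_of_minimalOver {Y M : Subgroup G} (h : Cfsg.IsMinimalOver Y)
    (hM : IsCoatom M) (hYM : Y ≤ M) {X : Subgroup G} (hX : X ≤ M) (hYX : Y ≤ X) : ¬ X.Normal := by
  intro hn
  refine hM.1 (top_le_iff.mp ?_)
  rw [← h.1]
  exact (normalClosure_le_normal (SetLike.coe_subset_coe.mpr hYX)).trans hX

theorem isPIrreducible_of_minimalOver [Finite G] [Fact p.Prime] (T : Sylow p G)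
    (h : Cfsg.IsMinimalOver (T : Subgroup G)) : Cfsg.IsPIrreducible p G := by
  obtain ⟨M, ⟨hM, hTM⟩, -⟩ := id h.2
  refine ⟨fun hc => not_normal_of_minimalOver h hM hTM hTM le_rfl (hc T), fun N hN hnc => ?_⟩
  have := hN
  by_contra hres
  have h1 : normalizer (((T : Subgroup G) ⊓ N : Subgroup G) : Set G) ≤ M := by
    refine le_coatom_of_minimalOver h hM hTM
      ((le_inf le_normalizer (by rw [normalizer_eq_top]; exact le_top)).trans
        (normalizer_inf_le_normalizer_inf _ _)) fun htop => hnc ?_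
    exact isPClosed_of_inf_normal T N (htop ▸ le_top)
  have h2 : N ⊔ (T : Subgroup G) ≤ M := le_coatom_of_minimalOver h hM hTM le_sup_right
    fun htop => hres (pResidual_le_of_sup_eq_top T.isPGroup' htop)
  refine hM.1 (top_le_iff.mp ?_)
  rw [← normalizer_inf_sup_eq_top T N]
  exact sup_le h1 (le_sup_left.trans h2)

theorem minimalOver_quotient [Finite G] [Fact p.Prime] (T : Sylow p G)
    (h : Cfsg.IsMinimalOver (T : Subgroup G)) (N : Subgroup G) [N.Normal] :
    IsPGroup p (G ⧸ N) ∨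
      Cfsg.IsMinimalOver ((T : Subgroup G).map (QuotientGroup.mk' N)) := by
  have hs := QuotientGroup.mk'_surjective N
  by_cases htop : (T : Subgroup G).map (QuotientGroup.mk' N) = ⊤
  · left
    refine IsPGroup.of_surjective T.isPGroup'
      ((QuotientGroup.mk' N).comp (T : Subgroup G).subtype) fun q => ?_
    obtain ⟨t, ht, rfl⟩ := (htop ▸ mem_top q : q ∈ _)
    exact ⟨⟨t, ht⟩, rfl⟩
  · right
    refine ⟨?_, ?_⟩
    · rw [eq_top_iff, ← map_top_of_surjective _ hs, ← h.1, map_le_iff_le_comap]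
      refine normalClosure_le_normal fun t ht => ?_
      exact subset_normalClosure (mem_map_of_mem _ ht)
    · obtain ⟨Mb, hMb, hle⟩ := exists_coatom_ge htop
      refine ⟨Mb, ⟨hMb, hle⟩, fun M' hM' => ?_⟩
      have h1 : ∀ X : Subgroup (G ⧸ N), IsCoatom X → IsCoatom (X.comap (QuotientGroup.mk' N)) :=
        fun X hX => isCoatom_comap_of_surjective hs hX
      obtain ⟨M, -, huniq⟩ := h.2
      have e1 := huniq _ ⟨h1 _ hMb, map_le_iff_le_comap.mp hle⟩
      have e2 := huniq _ ⟨h1 _ hM'.1, map_le_iff_le_comap.mp hM'.2⟩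
      exact comap_injective hs (e2.trans e1.symm)

theorem relIndex_sup_normal [Finite G] (M D : Subgroup G) [D.Normal] :
    M.relIndex (M ⊔ D) = M.relIndex D := by
  have e1 : Nat.card D * D.relIndex M = Nat.card ↥(M ⊔ D) := by
    rw [← relIndex_sup_right (H := M) (K := D), ← relIndex_bot_left, ← relIndex_bot_left,
      relIndex_mul_relIndex _ _ _ bot_le le_sup_right]
  have e2 : Nat.card ↥(M ⊓ D) * D.relIndex M = Nat.card M := by
    rw [← inf_relIndex_left (H := M) (K := D), ← relIndex_bot_left, ← relIndex_bot_left,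
      relIndex_mul_relIndex _ _ _ bot_le inf_le_left]
  have e3 : Nat.card M * M.relIndex (M ⊔ D) = Nat.card ↥(M ⊔ D) := by
    rw [← relIndex_bot_left, ← relIndex_bot_left,
      relIndex_mul_relIndex _ _ _ bot_le le_sup_left]
  have e4 : Nat.card ↥(M ⊓ D) * M.relIndex D = Nat.card D := by
    rw [← inf_relIndex_right (H := M) (K := D), ← relIndex_bot_left, ← relIndex_bot_left,
      relIndex_mul_relIndex _ _ _ bot_le inf_le_right]
  refine Nat.eq_of_mul_eq_mul_left (Nat.card_pos : 0 < Nat.card M) ?_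
  rw [e3, ← e1, ← e4, ← e2]
  ring

section Minimal

variable [Finite G] [Fact p.Prime] {L₀ Y T : Subgroup G}

theorem min_normalizer_le (hmin : Cfsg.IsMinimalOver Y) (hL₀ : IsCoatom L₀) (hYT : Y ≤ T)
    (hT : T ≤ L₀) : normalizer (T : Set G) ≤ L₀ :=
  le_coatom_of_minimalOver hmin hL₀ (hYT.trans hT) (hYT.trans le_normalizer)
    fun h => not_normal_of_minimalOver hmin hL₀ (hYT.trans hT) hT hYT (normalizer_eq_top_iff.mp h)

theorem min_sylow (hmin : Cfsg.IsMinimalOver Y) (hL₀ : IsCoatom L₀) (P : Sylow p L₀)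
    (hYP : Y ≤ (P : Subgroup L₀).map L₀.subtype) :
    ∃ Q : Sylow p G, (Q : Subgroup G) = (P : Subgroup L₀).map L₀.subtype := by
  set T := (P : Subgroup L₀).map L₀.subtype with hTdef
  obtain ⟨Q, hQ⟩ := (P.isPGroup'.map L₀.subtype).exists_le_sylow
  refine ⟨Q, (eq_of_le_of_not_lt hQ fun hlt => ?_).symm⟩
  have h1 := lt_inf_normalizer Q.isPGroup' hlt
  have h2 := min_normalizer_le hmin hL₀ hYP (map_subtype_le _)
  set X := (Q : Subgroup G) ⊓ normalizer (T : Set G)
  have hXL : X ≤ L₀ := inf_le_right.trans h2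
  have h3 : (P : Subgroup L₀) ≤ X.subgroupOf L₀ := by
    intro x hx
    exact h1.le (mem_map_of_mem _ hx)
  have h4 := P.is_maximal'
    (IsPGroup.comap_subtype (K := L₀) (IsPGroup.to_inf_left Q.isPGroup')) h3
  refine h1.ne ?_
  rw [← h4]
  exact map_subgroupOf_eq_of_le hXL

theorem min_pCore_le (hmin : Cfsg.IsMinimalOver Y) (hL₀ : IsCoatom L₀) (P : Sylow p L₀)
    (hYP : Y ≤ (P : Subgroup L₀).map L₀.subtype) : Cfsg.pCore p G ≤ L₀ := by
  obtain ⟨Q, hQ⟩ := min_sylow hmin hL₀ P hYP
  exact (H1.pCore_le_sylow Q).trans (hQ.le.trans (map_subtype_le _))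

theorem min_self_normalizing (hmin : Cfsg.IsMinimalOver Y) (hL₀ : IsCoatom L₀) (hY : Y ≤ L₀) :
    normalizer (L₀ : Set G) = L₀ :=
  le_antisymm (le_coatom_of_minimalOver hmin hL₀ hY (hY.trans le_normalizer)
    fun h => not_normal_of_minimalOver hmin hL₀ hY le_rfl hY (normalizer_eq_top_iff.mp h))
    le_normalizer

theorem min_generate (hmin : Cfsg.IsMinimalOver Y) (hL₀ : IsCoatom L₀) (hY : Y ≤ L₀) {g : G}
    (hg : g ∉ L₀) : Y ⊔ Y.map (MulAut.conj g).toMonoidHom = ⊤ := by
  by_contra hne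
  have h1 : H70.cj g Y ≤ L₀ :=
    le_sup_right.trans (le_coatom_of_minimalOver hmin hL₀ hY le_sup_left hne)
  have h2 : Y ≤ H70.cj g⁻¹ L₀ := H70.cj_le_iff.mp h1
  have h3 : IsCoatom (H70.cj g⁻¹ L₀) :=
    ((MulEquiv.mapSubgroup (MulAut.conj g⁻¹)).isCoatom_iff L₀).mpr hL₀
  obtain ⟨M, -, huniq⟩ := hmin.2
  have h4 := (huniq _ ⟨h3, h2⟩).trans (huniq _ ⟨hL₀, hY⟩).symm
  have h5 : g⁻¹ ∈ normalizer (L₀ : Set G) := H70.cj_eq_self_iff.mp h4
  rw [min_self_normalizing hmin hL₀ hY] at h5
  exact hg (inv_mem_iff.mp h5)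

theorem min_inter (hmin : Cfsg.IsMinimalOver Y) (hL₀ : IsCoatom L₀) (hY : Y ≤ L₀)
    (hab : IsMulCommutative Y) {g : G} (hg : g ∉ L₀) :
    Y ⊓ Y.map (MulAut.conj g).toMonoidHom = Y ⊓ center G := by
  refine le_antisymm (le_inf inf_le_left ?_) (le_inf inf_le_left ?_)
  · rw [← SetLike.coe_subset_coe, ← centralizer_eq_top_iff_subset, eq_top_iff, ← min_generate hmin hL₀ hY hg]
    refine sup_le ?_ ?_
    · exact (le_centralizer_iff_isMulCommutative.mpr hab).trans (centralizer_le inf_le_left)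
    · refine le_trans ?_ (centralizer_le inf_le_right)
      refine le_centralizer_iff_isMulCommutative.mpr ?_
      exact Subgroup.map_isMulCommutative Y _
  · intro z hz
    obtain ⟨hzY, hzc⟩ := mem_inf.mp hz
    refine ⟨z, hzY, ?_⟩
    have := (mem_center_iff.mp hzc g)
    simp [this]

theorem min_core (hmin : Cfsg.IsMinimalOver Y) (hL₀ : IsCoatom L₀) (P : Sylow p L₀)
    (hYP : Y ≤ (P : Subgroup L₀).map L₀.subtype) :
    Cfsg.pCore p G ≤ L₀.normalCore ∧ Cfsg.IsPClosed p L₀.normalCore ∧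
      ∀ M : Subgroup G, IsCoatom M → Cfsg.pCore p G ≤ M → L₀.normalCore ≤ M := by
  obtain ⟨T, hT⟩ := min_sylow hmin hL₀ P hYP
  have hTL : (T : Subgroup G) ≤ L₀ := hT.le.trans (map_subtype_le _)
  have hYT : Y ≤ (T : Subgroup G) := hT ▸ hYP
  have hY : Y ≤ L₀ := hYT.trans hTL
  set D := L₀.normalCore
  have hn := H1.pCore_normal' p G
  have hO : Cfsg.pCore p G ≤ D := normal_le_normalCore.mpr (min_pCore_le hmin hL₀ P hYP)
  have h1 : (T : Subgroup G) ⊓ D ≤ Cfsg.pCore p G := by
    have : ((T : Subgroup G) ⊓ D).Normal := by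
      by_contra hnn
      refine hL₀.1 (top_le_iff.mp ?_)
      rw [← normalizer_inf_sup_eq_top T D]
      refine sup_le (le_coatom_of_minimalOver hmin hL₀ hY ?_
        fun h => hnn (normalizer_eq_top_iff.mp h)) (normalCore_le _)
      exact hYT.trans ((le_inf le_normalizer (by rw [normalizer_eq_top]; exact le_top)).trans
        (normalizer_inf_le_normalizer_inf _ _))
    exact H1.le_pCore (T.isPGroup'.to_inf_left)
  refine ⟨hO, ?_, fun M hM hOM => ?_⟩
  · obtain ⟨S, hS⟩ := exists_sylow_inf_normal T D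
    refine isPClosed_of_normal S ?_
    have : (S : Subgroup D) = (Cfsg.pCore p G).subgroupOf D := by
      rw [← comap_map_eq_self_of_injective D.subtype_injective (S : Subgroup D), hS,
        le_antisymm h1 (le_inf (H1.pCore_le_sylow T) hO)]
      rfl
    rw [this]
    infer_instance
  · by_contra hDM
    have hMD : M ⊔ D = ⊤ := hM.2 _ (left_lt_sup.mpr hDM)
    -- `M` contains a Sylow subgroup
    have hidx : M.index ∣ (Cfsg.pCore p G).relIndex D := by
      rw [← relIndex_top_right, ← hMD, relIndex_sup_normal]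
      exact (relIndex_dvd_of_le_left D hOM)
    have hTD : (Cfsg.pCore p G).relIndex D = (T : Subgroup G).relIndex D := by
      rw [← inf_relIndex_right (T : Subgroup G) D,
        le_antisymm h1 (le_inf (H1.pCore_le_sylow T) hO)]
    have hnd : ¬ p ∣ M.index := fun hd => by
      have h2 : p ∣ (T : Subgroup G).relIndex D := hTD ▸ hd.trans hidx
      rw [← relIndex_sup_normal] at h2
      exact T.not_dvd_index (h2.trans (relIndex_dvd_index_of_le le_sup_left))
    obtain ⟨S⟩ := (inferInstance : Nonempty (Sylow p M))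
    obtain ⟨Q, hQ⟩ := (S.isPGroup'.map M.subtype).exists_le_sylow
    have hQeq : (S : Subgroup M).map M.subtype = Q := by
      refine eq_of_le_of_card_ge hQ (le_of_eq ?_)
      rw [Sylow.card_eq_multiplicity, card_map_of_injective M.subtype_injective,
        Sylow.card_eq_multiplicity, ← M.card_mul_index,
        Nat.factorization_mul Nat.card_pos.ne' M.index_ne_zero_of_finite, Finsupp.add_apply,
        Nat.factorization_eq_zero_of_not_dvd hnd, add_zero]
    obtain ⟨g, hg⟩ := MulAction.exists_smul_eq G Q T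
    have hQM : (Q : Subgroup G) ≤ M := hQeq ▸ map_subtype_le _
    have h3 : Y ≤ H70.cj g M := by
      refine hYT.trans ?_
      rw [← hg]
      exact H70.cj_mono g hQM
    have h4 : IsCoatom (H70.cj g M) :=
      ((MulEquiv.mapSubgroup (MulAut.conj g)).isCoatom_iff M).mpr hM
    obtain ⟨M0, -, huniq⟩ := hmin.2
    have h5 := (huniq _ ⟨h4, h3⟩).trans (huniq _ ⟨hL₀, hY⟩).symm
    apply hDM
    intro d hd
    have h6 : g * d * g⁻¹ ∈ H70.cj g M := by
      rw [h5]
      exact normalCore_le _ ((normalCore_normal L₀).conj_mem d hd g)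
    rw [H70.mem_cj] at h6
    simpa [mul_assoc] using h6

end Minimal

end H75
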