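import Cfsg.Agent.H75.AsymL
import Cfsg.Agent.H75.Irreducible
import Cfsg.Agent.H75.Large

/-!
Consequences of the asymmetric L-Lemma: minimality, characteristic `p`, chief factors.
-/

set_option autoImplicit false

namespace H75

open Subgroup
open scoped commutatorElement
open H70 (cj)

variable {X : Type*} [Group X] [Finite X] {p : ℕ} [Fact p.Prime] {P Y L : Subgroup X}

namespace ALData

variable (hA : ALData p P Y L)

include hA

theorem conj_norm_of_mutual {k : X} (h1 : cj k Y ≤ normalizer (Y : Set X))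
    (h2 : cj k⁻¹ Y ≤ normalizer (Y : Set X)) : cj k Y ≤ centralizer (Y : Set X) := by
  refine hA.asym k h1 ?_
  have h3 := (H70.cj_mono k h2).trans (le_normalizer_map _)
  rwa [H70.cj_cj, mul_inv_cancel, H70.cj_one] at h3

theorem mem_normalizer_of_mutual {k : X} (hk : k ∈ L) (h1 : cj k Y ≤ normalizer (Y : Set X))
    (h2 : cj k⁻¹ Y ≤ normalizer (Y : Set X)) : k ∈ normalizer (Y : Set X) := by
  obtain ⟨g, hg, hgen⟩ := hA.exists_gen
  exact H70.cj_eq_self_iff.mp (hA.eq_of_commute hgen hg hk (hA.conj_norm_of_mutual h1 h2))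

theorem proper_le_norm {K : Subgroup X} (hK : K ≤ L) (hne : K ≠ L) (hY : Y ≤ K) :
    K ≤ normalizer (Y : Set X) := by
  set R := Cfsg.pCoreOf p K
  have hYR : Y ≤ R := hA.small hK hne hY
  have hKR : K ≤ normalizer (R : Set X) := le_normalizer_pCoreOf K
  have hRn : R ≤ normalizer (Y : Set X) := by
    by_contra hc
    have hlt : R ⊓ normalizer (Y : Set X) < R :=
      inf_le_left.lt_of_ne fun e => hc (inf_eq_left.mp e)
    have hR1 : Y ≤ R ⊓ normalizer (Y : Set X) := le_inf hYR le_normalizer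
    obtain ⟨x, hx, hxn⟩ := SetLike.exists_of_lt (lt_inf_normalizer (isPGroup_pCoreOf K) hlt)
    obtain ⟨hxR, hxN⟩ := mem_inf.mp hx
    have key : ∀ z : X, z ∈ normalizer ((R ⊓ normalizer (Y : Set X) : Subgroup X) : Set X) →
        cj z Y ≤ normalizer (Y : Set X) := fun z hz =>
      ((H70.cj_mono z hR1).trans (H70.cj_eq_self_iff.mpr hz).le).trans inf_le_right
    exact hxn (mem_inf.mpr ⟨hxR, hA.mem_normalizer_of_mutual (hK ((pCoreOf_le K) hxR)) (key x hxN)
      (key x⁻¹ (inv_mem hxN))⟩)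
  intro k hk
  have key : ∀ z ∈ K, cj z Y ≤ normalizer (Y : Set X) := fun z hz =>
    ((H70.cj_mono z hYR).trans (H70.cj_eq_self_iff.mpr (hKR hz)).le).trans hRn
  exact hA.mem_normalizer_of_mutual (hK hk) (key k hk) (key k⁻¹ (inv_mem hk))

theorem norm_lt : L ⊓ normalizer (Y : Set X) < L := by
  refine inf_le_left.lt_of_ne fun e => hA.L_not ?_
  exact le_pCoreOf hA.le_L (inf_eq_left.mp e) (elemAb_isPGroup hA.el)

theorem le_norm_inf {K : Subgroup X} (hY : Y ≤ K) (hK : K < L) :
    K ≤ L ⊓ normalizer (Y : Set X) :=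
  le_inf hK.le (hA.proper_le_norm hK.le hK.ne hY)

theorem conj_gen {h : X} (hh : h ∈ L) (hn : h ∉ normalizer (Y : Set X)) : Y ⊔ cj h Y = L := by
  by_contra hne
  have h1 : cj h Y ≤ L := (H70.cj_mono h hA.le_L).trans (H70.cj_of_mem hh).le
  have h2 := hA.proper_le_norm (sup_le hA.le_L h1) hne le_sup_left
  have h3 : cj h⁻¹ Y ≤ L := (H70.cj_mono _ hA.le_L).trans (H70.cj_of_mem (inv_mem hh)).le
  have h4 : Y ⊔ cj h⁻¹ Y ≠ L := by
    intro e
    apply hne
    have h5 : cj h (Y ⊔ cj h⁻¹ Y) = Y ⊔ cj h Y := by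
      rw [sup_comm Y, show cj h (cj h⁻¹ Y ⊔ Y) = cj h (cj h⁻¹ Y) ⊔ cj h Y from Subgroup.map_sup _ _ _,
        H70.cj_cj, mul_inv_cancel, H70.cj_one]
    rw [← h5, e, H70.cj_of_mem hh]
  exact hn (hA.mem_normalizer_of_mutual hh (le_sup_right.trans h2)
    (le_sup_right.trans (hA.proper_le_norm (sup_le hA.le_L h3) h4 le_sup_left)))

theorem gen_top {h : X} (hh : h ∈ L) (hn : h ∉ normalizer (Y : Set X)) : cj h Y ⊔ P = ⊤ := by
  rw [eq_top_iff, ← hA.sup_eq_top, ← hA.conj_gen hh hn]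
  exact sup_le (sup_le (hA.le.trans le_sup_right) le_sup_left) le_sup_right

theorem minimalOver : Cfsg.IsMinimalOver (Y.subgroupOf L) := by
  set L0 := (L ⊓ normalizer (Y : Set X)).subgroupOf L
  have key : ∀ M : Subgroup L, Y.subgroupOf L ≤ M → M ≠ ⊤ → M ≤ L0 := by
    intro M hYM hM
    have h1 : M.map L.subtype < L := by
      refine lt_of_le_of_ne (map_subtype_le M) fun e => hM ?_
      apply Subgroup.map_injective L.subtype_injective
      rw [e, ← MonoidHom.range_eq_map, Subgroup.range_subtype]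
    have h2 : Y ≤ M.map L.subtype := fun y hy => ⟨⟨y, hA.le_L hy⟩, hYM hy, rfl⟩
    intro x hx
    exact mem_subgroupOf.mpr (hA.le_norm_inf h2 h1 (mem_map_of_mem _ hx))
  have hL0 : L0 ≠ ⊤ := fun e => hA.norm_lt.not_ge (subgroupOf_eq_top.mp e)
  have hco : IsCoatom L0 := ⟨hL0, fun M hM => by_contra fun hne => hM.not_ge (key M
    (le_trans (fun y hy => mem_subgroupOf.mpr (mem_inf.mpr ⟨y.2, le_normalizer hy⟩)) hM.le) hne)⟩
  refine ⟨?_, L0, ⟨hco, fun y hy => mem_subgroupOf.mpr (mem_inf.mpr ⟨y.2, le_normalizer hy⟩)⟩,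
    fun M ⟨hM, hYM⟩ => ?_⟩
  · by_contra hne
    have h1 := key _ le_normalClosure hne
    obtain ⟨g, hg, hgen⟩ := hA.exists_gen
    refine hA.norm_lt.not_ge (hgen.ge.trans (sup_le (le_inf hA.le_L le_normalizer) ?_))
    rintro _ ⟨y, hy, rfl⟩
    have := normalClosure_normal.conj_mem _
      (subset_normalClosure (show (⟨y, hA.le_L hy⟩ : L) ∈ Y.subgroupOf L from hy)) ⟨g, hg⟩
    exact mem_subgroupOf.mp (h1 this)
  · exact (hM.le_iff.mp (key M hYM hM.1)).resolve_left hL0 |>.symm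

theorem core_le_normalizer : Cfsg.pCoreOf p L ≤ normalizer (Y : Set X) := by
  have hYp := elemAb_isPGroup hA.el
  have hn : Y ≤ normalizer (Cfsg.pCoreOf p L : Set X) := hA.le_L.trans (le_normalizer_pCoreOf L)
  have hp : IsPGroup p ↥(Cfsg.pCoreOf p L ⊔ Y) :=
    (isPGroup_pCoreOf L).to_sup_of_normal_left' hYp hn
  refine le_sup_left.trans (hA.proper_le_norm (sup_le (pCoreOf_le L) hA.le_L) (fun e => ?_)
    le_sup_right)
  exact hA.L_not (hA.le_L.trans (le_pCoreOf le_rfl le_normalizer (e ▸ hp)))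

theorem A1_le_pCoreOf {g : X} (hgen : Y ⊔ cj g Y = L) : A1 p Y g ≤ Cfsg.pCoreOf p L :=
  le_pCoreOf (sup_le (inf_le_left.trans hA.le_L)
      ((H70.cj_mono g inf_le_left).trans (le_sup_right.trans hgen.le)))
    (hA.L_le_norm_A1 hgen) ((H1.isPGroup_pCore p X).to_le (A1_le_core g))

/-- `L` has characteristic `p`. -/
theorem charP_L : L ⊓ centralizer (Cfsg.pCoreOf p L : Set X) ≤ Cfsg.pCoreOf p L := by
  obtain ⟨g, hg, hgen⟩ := hA.exists_gen
  set Cc := L ⊓ centralizer (Cfsg.pCoreOf p L : Set X)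
  have hp : IsPGroup p Cc := by
    refine isPGroup_of_no_coprime fun c hc hco => ?_
    obtain ⟨hcL, hcc⟩ := mem_inf.mp hc
    have hcomm : ∀ q ∈ Cfsg.pCore p X, Commute c q := by
      refine commute_of_stabilize (isPGroup_pCoreOf L) hco (fun q hq => ?_)
        fun b hb => ((mem_centralizer_iff.mp hcc) b hb).symm
      rw [← commutatorElement_inv]
      exact inv_mem (hA.A1_le_pCoreOf hgen (hA.comm_core hgen hcL hq))
    exact eq_one_of_mem_of_coprime (H1.isPGroup_pCore p X)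
      (hA.charP (mem_centralizer_iff.mpr fun q hq => (hcomm q hq).eq.symm)) hco
  refine le_pCoreOf inf_le_left ?_ hp
  exact (le_inf le_normalizer ((le_normalizer_pCoreOf L).trans
    (normalizer_le_normalizer_centralizer _))).trans (normalizer_inf_le_normalizer_inf _ _)

/-- `Y ∩ O_p(L) ≤ O_p(X)`. -/
theorem inter_le_core : Cfsg.pCoreOf p L ⊓ Y ≤ Cfsg.pCore p X := by
  obtain ⟨g, hg, hgen⟩ := hA.exists_gen
  set Q0 := Cfsg.pCore p X
  have hQn : Q0.Normal := inferInstance
  set W := Q0 ⊓ centralizer (Y : Set X)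
  set Q1 := A1 p Y g ⊔ W
  set C := Y ⊓ centralizer (L : Set X)
  have hA1n : Q0 ≤ normalizer (A1 p Y g : Set X) := by
    have h0 : Q0 ≤ normalizer ((Y ⊓ Q0 : Subgroup X) : Set X) :=
      (le_inf hA.core_le_norm le_normalizer).trans (normalizer_inf_le_normalizer_inf _ _)
    refine (le_inf h0 ?_).trans (normalizer_inf_le_normalizer_sup _ _)
    exact ((Normal.map_conj_eq Q0 g).ge.trans (H70.cj_mono g h0)).trans (le_normalizer_map _)
  have hQ1 : Q1 ≤ Q0 := sup_le (A1_le_core g) inf_le_left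
  have hPW : ∀ t ∈ P, ∀ q ∈ Q0, q⁻¹ * (t * q * t⁻¹) ∈ W := by
    intro t ht q hq
    refine mem_inf.mpr ⟨mul_mem (inv_mem hq) (hQn.conj_mem q hq t), ?_⟩
    rw [mem_centralizer_iff]
    intro y hy
    have htY : ∀ y ∈ Y, t * y * t⁻¹ = y := fun y hy => by
      rw [← (mem_centralizer_iff.mp (hA.cent ht)) y hy, mul_inv_cancel_right]
    have htY' : t⁻¹ * y * t = y := by
      rw [mul_assoc, (mem_centralizer_iff.mp (hA.cent ht)) y hy, inv_mul_cancel_left]
    have hy' : q * y * q⁻¹ ∈ Y := conj_mem_of_mem_normalizer (hA.core_le_norm hq) hy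
    calc y * (q⁻¹ * (t * q * t⁻¹)) = q⁻¹ * (q * y * q⁻¹) * (t * q * t⁻¹) := by group
      _ = q⁻¹ * (t * (q * y * q⁻¹) * t⁻¹) * (t * q * t⁻¹) := by rw [htY _ hy']
      _ = q⁻¹ * t * q * y * t⁻¹ := by group
      _ = q⁻¹ * t * q * (t⁻¹ * y * t) * t⁻¹ := by rw [htY']
      _ = q⁻¹ * (t * q * t⁻¹) * y := by group
  -- `[Q0, X] ≤ Q1 ⊴ X`
  have hQ1n : Q1.Normal := by
    refine normal_of_top_le (hA.sup_eq_top.ge.trans (sup_le ?_ ?_)) <;>
      refine le_normalizer_of_conj fun t ht z hz => ?_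
    · have hzQ := hQ1 hz
      have h1 := hA.comm_core hgen ht (inv_mem hzQ)
      have e : t * z * t⁻¹ = z * ⁅z⁻¹, t⁆ := by rw [commutatorElement_def]; group
      rw [e]
      exact mul_mem hz (mem_sup_left h1)
    · have e : t * z * t⁻¹ = z * (z⁻¹ * (t * z * t⁻¹)) := by group
      rw [e]
      exact mul_mem hz (mem_sup_right (hPW t ht z (hQ1 hz)))
  have htop : ∀ x : X, ∀ q ∈ Q0, ⁅q, x⁆ ∈ Q1 := by
    let S : Subgroup X :=
      { carrier := {a | ∀ q ∈ Q0, ⁅q, a⁆ ∈ Q1}
        one_mem' := fun q _ => by simp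
        mul_mem' := by
          intro a b ha hb q hq
          rw [commutatorElement_mul_right_eq_mul_conj, mul_assoc, mul_assoc, ← mul_assoc a]
          exact mul_mem (ha q hq) (hQ1n.conj_mem _ (hb q hq) a)
        inv_mem' := by
          intro a ha q hq
          have h := hQ1n.conj_mem _ (inv_mem (ha q hq)) a⁻¹
          convert h using 1
          simp only [commutatorElement_def]
          group }
    have hS : ⊤ ≤ S := by
      rw [← hA.sup_eq_top]
      refine sup_le (fun l hl q hq => mem_sup_left (hA.comm_core hgen hl hq)) fun t ht q hq => ?_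
      refine mem_sup_right ?_
      have h := hPW t ht q⁻¹ (inv_mem hq)
      rw [commutatorElement_def]
      simpa [mul_assoc] using h
    exact fun x => hS (mem_top x)
  have hCc : ∀ c ∈ C, ∀ x : X, x * c = c * x := by
    intro c hc
    have h : (⊤ : Subgroup X) ≤ centralizer ({c} : Set X) := by
      rw [← hA.sup_eq_top]
      refine sup_le ?_ ?_ <;> intro a ha <;> rw [mem_centralizer_iff] <;> intro z hz <;>
        rw [Set.mem_singleton_iff.mp hz]
      · exact ((mem_centralizer_iff.mp (mem_inf.mp hc).2) a ha).symm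
      · exact (mem_centralizer_iff.mp (hA.cent ha)) c (mem_inf.mp hc).1
    exact fun x => ((mem_centralizer_iff.mp (h (mem_top x))) c rfl).symm
  have hCn : ∀ c ∈ C, ∀ x : X, x * c * x⁻¹ ∈ C := fun c hc x => by
    rw [hCc c hc x, mul_inv_cancel_right]; exact hc
  let K : Subgroup X :=
    { carrier := {a | ∀ q ∈ Q1, ⁅q, a⁆ ∈ C}
      one_mem' := fun q _ => by simp
      mul_mem' := by
        intro a b ha hb q hq
        rw [commutatorElement_mul_right_eq_mul_conj, mul_assoc, mul_assoc, ← mul_assoc a]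
        exact mul_mem (ha q hq) (hCn _ (hb q hq) a)
      inv_mem' := by
        intro a ha q hq
        have h := hCn _ (inv_mem (ha q hq)) a⁻¹
        convert h using 1
        simp only [commutatorElement_def]
        group }
  have hKn : K.Normal := ⟨fun a ha x q hq => by
    have h := hCn _ (ha (x⁻¹ * q * x) (by simpa using hQ1n.conj_mem q hq x⁻¹)) x
    convert h using 1
    simp only [commutatorElement_def]
    group⟩
  have hK : K ≤ Q0 := by
    refine H1.le_pCore (isPGroup_of_no_coprime fun x hx hco => ?_)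
    have hp1 : IsPGroup p Q1 := (H1.isPGroup_pCore p X).to_le hQ1
    have hCp : IsPGroup p C := (elemAb_isPGroup hA.el).to_le inf_le_left
    have h1 : ∀ q ∈ Q1, Commute x q := commute_of_stabilize hCp hco
      (fun q hq => by rw [← commutatorElement_inv]; exact inv_mem (hx q hq))
      fun c hc => hCc c hc x
    have h2 : ∀ q ∈ Q0, Commute x q := commute_of_stabilize hp1 hco
      (fun q hq => by rw [← commutatorElement_inv]; exact inv_mem (htop x q hq)) h1
    exact eq_one_of_mem_of_coprime (H1.isPGroup_pCore p X)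
      (hA.charP (mem_centralizer_iff.mpr fun q hq => (h2 q hq).eq.symm)) hco
  intro w hw
  obtain ⟨hwB, hwY⟩ := mem_inf.mp hw
  refine hK fun q hq => ?_
  have hWn : W ≤ normalizer (A1 p Y g : Set X) := inf_le_left.trans hA1n
  obtain ⟨a, ha, q', hq', rfl⟩ := sup_eq_mul_of_le_normalizer hWn hq
  obtain ⟨b, hb, b', hb', rfl⟩ := hA.A1_decomp hgen ha
  have hYc : ∀ z : X, z ∈ centralizer (Y : Set X) → ⁅z, w⁆ = 1 := fun z hz =>
    commutatorElement_eq_one_iff_mul_comm.mpr ((mem_centralizer_iff.mp hz) w hwY).symm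
  have hbc : ⁅b, w⁆ = 1 := hYc b (hA.abelian hgen (mem_inf.mp hb).1)
  have hqc : ⁅q', w⁆ = 1 := hYc q' (mem_inf.mp hq').2
  have hb'w : ⁅b', w⁆ ∈ C := by
    have h1 : ⁅b', w⁆ ∈ Y ⊓ Q0 := hA.core_comm (A1_le_core g (mem_sup_right hb')) hwY
    have h2 : ⁅b', w⁆ ∈ cj g Y := by
      have hwn : w ∈ normalizer (cj g Y : Set X) := by
        have hBn : Cfsg.pCoreOf p L ≤ normalizer (cj g Y : Set X) := by
          refine le_trans ?_ ((H70.cj_mono g hA.core_le_normalizer).trans (le_normalizer_map _))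
          exact (H70.cj_eq_self_iff.mpr (le_normalizer_pCoreOf L hg)).ge
        exact hBn hwB
      have hb'' : b' ∈ cj g Y := H70.cj_mono g inf_le_left hb'
      rw [commutatorElement_def, mul_assoc, mul_assoc, ← mul_assoc w]
      exact mul_mem hb'' (conj_mem_of_mem_normalizer hwn (inv_mem hb''))
    refine mem_inf.mpr ⟨(mem_inf.mp h1).1, hA.mem_centralizer_L hgen
      (hA.abelian hgen (mem_inf.mp h1).1) ?_⟩
    obtain ⟨z, hz, hze⟩ := h2
    rw [← hze]
    exact conj_centralizer (hA.abelian hgen hz)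
  have e : ⁅b * b' * q', w⁆ = b * ⁅b', w⁆ * b⁻¹ * ⁅b, w⁆ := by
    have e1 : ⁅b * b' * q', w⁆ = (b * b') * ⁅q', w⁆ * (b * b')⁻¹ * (b * ⁅b', w⁆ * b⁻¹ * ⁅b, w⁆) := by
      simp only [commutatorElement_def]; group
    rw [e1, hqc]; group
  rw [e, hbc, mul_one]
  exact hCn _ hb'w b

/-- `O^p(L)` acts nontrivially on every non-central chief factor inside `O_p(X)`. -/
theorem chief_factor {V W' : Subgroup X} [V.Normal] [W'.Normal] (hV : V ≤ Cfsg.pCore p X)
    (hlt : W' < V)
    (hchief : ∀ Z : Subgroup X, Z.Normal → W' ≤ Z → Z ≤ V → Z = W' ∨ Z = V)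
    (hnc : ¬ ⁅V, (⊤ : Subgroup X)⁆ ≤ W') : ¬ ⁅V, resOf p L⁆ ≤ W' := by
  intro hres
  set f := QuotientGroup.mk' W'
  have hf : Function.Surjective f := QuotientGroup.mk'_surjective W'
  haveI hVn : (V.map f).Normal := Normal.map inferInstance f hf
  set K := (centralizer ((V.map f : Subgroup (X ⧸ W')) : Set (X ⧸ W'))).comap f with hKdef
  have hKn : K.Normal := Normal.comap inferInstance f
  have hresK : resOf p L ≤ K := by
    rw [hKdef, ← map_le_iff_le_comap, le_centralizer_iff, ← commutator_eq_bot_iff_le_centralizer,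
      ← Subgroup.map_commutator, Subgroup.map_eq_bot_iff, QuotientGroup.ker_mk']
    exact hres
  -- `L = O^p(L) Y`
  have hLY : L ≤ resOf p L ⊔ Y := by
    obtain ⟨T, hT⟩ := (IsPGroup.comap_subtype (K := L) (elemAb_isPGroup hA.el)).exists_le_sylow
    set T' := (T : Subgroup L).map L.subtype
    have hT'p : IsPGroup p T' := T.isPGroup'.map _
    have hT'L : T' ≤ L := map_subtype_le _
    have hYT : Y ≤ T' := fun y hy => ⟨⟨y, hA.le_L hy⟩, hT hy, rfl⟩
    have hT'ne : T' ≠ L := fun e =>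
      hA.L_not (hA.le_L.trans (le_pCoreOf le_rfl le_normalizer (e ▸ hT'p)))
    have hfull : resOf p L ⊔ T' = L := by
      rw [← map_pResidual_eq_resOf, ← Subgroup.map_sup, pResidual_sup_sylow, ← MonoidHom.range_eq_map,
        Subgroup.range_subtype]
    by_contra hne
    have hle : resOf p L ⊔ Y ≤ L := sup_le (resOf_le L) hA.le_L
    have h1 := hA.le_norm_inf le_sup_right (hle.lt_of_ne fun e => hne e.ge)
    have h2 := hA.le_norm_inf hYT (hT'L.lt_of_ne hT'ne)
    exact hA.norm_lt.not_ge (hfull.ge.trans (sup_le (le_sup_left.trans h1) h2))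
  have hKP : K ⊔ P = ⊤ := by
    rw [eq_top_iff, ← hA.sup_eq_top]
    exact sup_le (hLY.trans (sup_le (hresK.trans le_sup_left) (hA.le.trans le_sup_right)))
      le_sup_right
  set Vb := V.map f
  have hVb1 : Vb ≠ ⊥ := by
    intro e
    rw [Subgroup.map_eq_bot_iff, QuotientGroup.ker_mk'] at e
    exact hlt.not_ge e
  have htopb : ⁅Vb, (⊤ : Subgroup (X ⧸ W'))⁆ ≤ ⁅Vb, P.map f⁆ := by
    rw [← map_top_of_surjective f hf, ← hKP, Subgroup.map_sup]
    haveI : (K.map f).Normal := hKn.map f hf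
    rw [commutator_le]
    intro v hv x hx
    obtain ⟨k, hk, t, ht, rfl⟩ := mem_sup_of_normal_left.mp hx
    obtain ⟨k', hk', rfl⟩ := hk
    have hkv : ⁅v, f k'⁆ = 1 :=
      commutatorElement_eq_one_iff_mul_comm.mpr ((mem_centralizer_iff.mp hk') v hv)
    rw [commutatorElement_mul_right_eq_mul_conj, hkv, one_mul]
    have hmem : ⁅v, t⁆ ∈ ⁅Vb, P.map f⁆ := commutator_mem_commutator hv ht
    have hcomm : f k' * ⁅v, t⁆ = ⁅v, t⁆ * f k' :=
      ((mem_centralizer_iff.mp hk') _ (commutator_le_left _ _ hmem)).symm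
    rw [hcomm, mul_inv_cancel_right]
    exact hmem
  have hlt' : ⁅Vb, P.map f⁆ < Vb :=
    commutator_lt (hA.pgroup.map f) (((H1.isPGroup_pCore p X).to_le hV).map f)
      (le_top.trans (normalizer_eq_top_iff.mpr hVn).ge) hVb1
  set Z := (⁅Vb, (⊤ : Subgroup (X ⧸ W'))⁆).comap f with hZdef
  haveI : (⁅Vb, (⊤ : Subgroup (X ⧸ W'))⁆).Normal := inferInstance
  have hZn : Z.Normal := Normal.comap inferInstance f
  have hWZ : W' ≤ Z := fun w hw => by
    rw [hZdef, mem_comap, (QuotientGroup.eq_one_iff w).mpr hw |> fun e => (e : f w = 1)]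
    exact one_mem _
  have hZV : Z < V := by
    have h1 : Z ≤ V := by
      intro z hz
      obtain ⟨v, hv, hvz⟩ := (commutator_le_left Vb ⊤) hz
      have : v⁻¹ * z ∈ W' := by
        rw [← QuotientGroup.eq_one_iff]
        show f _ = 1
        rw [map_mul, map_inv, hvz, inv_mul_cancel]
      simpa using mul_mem hv (hlt.le this)
    refine h1.lt_of_ne fun e => (htopb.trans_lt hlt').ne ?_
    show _ = V.map f
    rw [← e, hZdef, map_comap_eq_self_of_surjective hf]
  rcases hchief Z hZn hWZ hZV.le with h | h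
  · apply hnc
    rw [← h, hZdef, ← map_le_iff_le_comap, Subgroup.map_commutator, map_top_of_surjective f hf]
  · exact hZV.ne h

end ALData

end H75
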