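import Cfsg.Agent.H75.CentralExt
import Cfsg.Agent.H86.Invariant
import Cfsg.Agent.H87.CentralizerNormal

/-!
Centralizer of a central strongly closed subgroup inside a normal subsystem, and the product of two
commuting normal subsystems.
-/

set_option autoImplicit false
set_option linter.unusedSectionVars false

open Cfsg Cfsg.FusionSystem

namespace H75.Fus

variable {Ω : Type*} [Group Ω] {S T : Subgroup Ω} [Finite S] {p : ℕ} [Fact p.Prime]
  {F : FusionSystem S}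

/-- Inside a normal subsystem, the centralizer of a strongly closed central subgroup of its base is
again normal. -/
theorem exists_cent_reduce (hS : IsPGroup p S) {E : FusionSystem T} (hE : E.IsNormalIn F p)
    {Z : Subgroup Ω} (hZT : Z ≤ T) (hZ : F.StronglyClosed Z)
    (hcomm : ∀ z ∈ Z, ∀ t ∈ T, t * z = z * t) :
    ∃ E' : FusionSystem T, E'.IsNormalIn F p ∧ Z ≤ E'.center ∧
      (Z ≤ E.center → ∀ P, E'.Hom P = E.Hom P) := by
  obtain ⟨⟨hEs, hF, hEF, hTc, hinv, hfr⟩, hext⟩ := id hE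
  have hTS := hTc.1
  have : Finite T := H85.finite_of_le hTS
  have hTp : IsPGroup p T := hS.to_le hTS
  have hZE : E.StronglyClosed Z := ⟨hZT, fun R hR φ hφ x => hZ.2 R hR φ (hEF R hφ) x⟩
  have hZn : E.IsNormal Z := H85.isNormal_of_abelian hTp hEs hZE
    ⟨⟨fun a b => Subtype.ext (hcomm b b.2 a (hZT a.2))⟩⟩
  have hW : centralizerIn T Z = T :=
    le_antisymm inf_le_left fun t ht =>
      H85.mem_centralizerIn.2 ⟨ht, fun z hz => (hcomm z hz t ht).symm⟩
  suffices key : ∀ (W : Subgroup Ω) (C : FusionSystem W), W = T → C.IsNormalIn E p →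
      (∀ P, C.Hom P = E.centralizerHom Z P) →
      ∃ E' : FusionSystem T, E'.IsNormalIn F p ∧ Z ≤ E'.center ∧
        (Z ≤ E.center → ∀ P, E'.Hom P = E.Hom P) from
    key _ _ hW (H87.isNormalIn_centralizerSystem hTp hEs hZn) fun _ => rfl
  rintro W C rfl ⟨⟨hCs, -, hCE, -, -, hCfr⟩, hCext⟩ hC
  have hEA : E.autGroup W ≤ F.autGroup W := fun _ hx =>
    (H85.mem_autGroup hTS).2 (hEF _ ((H85.mem_autGroup le_rfl).1 hx))
  refine ⟨C, ⟨⟨hCs, hF, fun P φ hφ => hEF P (hCE P hφ), hTc, fun P hPT φ hφ α hα => ?_, ?_⟩, ?_⟩,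
    ?_, fun hz P => ?_⟩
  · obtain ⟨-, -, -, ψ, hψ, he, hfix⟩ := hC P ▸ hφ
    have hinv' := H86.strongInv_of_invariant hE.1.2.2
    obtain ⟨χ, hχ, hχe⟩ := H86.strongInv_aut hinv' hTS hα hψ
    have hle : (P.subgroupOf W).map (W.subtype.comp α.toMonoidHom) ≤
        ((P ⊔ Z).subgroupOf W).map (W.subtype.comp α.toMonoidHom) :=
      Subgroup.map_mono fun x hx => Subgroup.mem_sup_left (S := P) hx
    have hval : ∀ (x : P) (hx : ((α ⟨x, hPT x.2⟩ : W) : Ω) ∈
        (P.subgroupOf W).map (W.subtype.comp α.toMonoidHom)),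
        χ ⟨_, hle hx⟩ = ((α ⟨φ x, (C.le_of_mem hφ).2 x⟩ : W) : Ω) := fun x hx =>
      (hχe (Subgroup.inclusion le_sup_left x) (hle hx)).trans
        (congrArg (fun w => (α w : Ω)) (Subtype.ext (he x)))
    refine ⟨χ.comp (Subgroup.inclusion hle), ?_, fun x _ hx => hval x hx⟩
    have hαS : H85.IsFIso F α := (H85.mem_autGroup hTS).1 hα
    have hP' : (P.subgroupOf W).map (W.subtype.comp α.toMonoidHom) ≤ centralizerIn W Z := by
      rintro _ ⟨w, -, rfl⟩
      exact H85.mem_centralizerIn.2 ⟨(α w).2, fun z hz => (hcomm z hz _ (α w).2).symm⟩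
    have hZimg : (P.subgroupOf W).map (W.subtype.comp α.toMonoidHom) ⊔ Z ≤
        ((P ⊔ Z).subgroupOf W).map (W.subtype.comp α.toMonoidHom) := by
      refine sup_le hle fun z hz => ⟨α.symm ⟨z, hZT hz⟩, ?_, ?_⟩
      · exact Subgroup.mem_sup_right (S := P) (H86.map_mem_of_stronglyClosed hZ hαS.symm
          (x := ⟨z, hZT hz⟩) hz)
      · show (α (α.symm _) : Ω) = z
        rw [MulEquiv.apply_symm_apply]
    rw [hC]
    refine ⟨H85.restrict hχ hle, hP', fun x => ?_, χ.comp (Subgroup.inclusion hZimg),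
      H85.restrict hχ hZimg, fun x => rfl, fun z => ?_⟩
    · exact H85.mem_centralizerIn.2 ⟨H85.map_mem hχ _,
        fun z hz => (hcomm z hz _ (H85.map_mem hχ _)).symm⟩
    · set w : W := α.symm ⟨z, hZT z.2⟩ with hw
      have hwZ : (w : Ω) ∈ Z :=
        H86.map_mem_of_stronglyClosed hZ hαS.symm (x := ⟨z, hZT z.2⟩) z.2
      have h1 := hχe (Subgroup.inclusion le_sup_right (⟨w, hwZ⟩ : Z))
        ⟨w, Subgroup.mem_sup_right (S := P) hwZ, rfl⟩
      have h2 : ψ (Subgroup.inclusion le_sup_right (⟨w, hwZ⟩ : Z)) = w := hfix ⟨w, hwZ⟩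
      have h3 : (α w : Ω) = z := by rw [hw, MulEquiv.apply_symm_apply]
      refine Eq.trans (congrArg χ (Subtype.ext ?_)) (h1.trans ?_)
      · exact h3.symm
      exact (congrArg (fun v => (α v : Ω)) (Subtype.ext h2)).trans h3
  · intro P hPT φ hφ
    obtain ⟨α, hα, φ₀, h₀, he⟩ := hfr P hPT φ hφ
    obtain ⟨α', hα', φ₁, h₁, he'⟩ := hCfr P hPT φ₀ h₀
    refine ⟨α * α', mul_mem hα (hEA hα'), φ₁, h₁, fun x hx => ?_⟩
    rw [he x ((E.le_of_mem h₀).2 x), MulAut.mul_apply]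
    exact congrArg (fun w => (α w : Ω)) (Subtype.ext (he' x hx))
  · intro α hα
    exact hext α ((H85.mem_autGroup le_rfl).2 (hCE _ ((H85.mem_autGroup le_rfl).1 hα)))
  · refine le_sSup ⟨hZT, fun P φ hφ => ?_⟩
    obtain ⟨-, hP, -, ψ, hψ, he, hfix⟩ := hC P ▸ hφ
    refine ⟨ψ, ?_, he, hfix⟩
    rw [hC]
    have hle : P ⊔ Z ⊔ Z ≤ P ⊔ Z := sup_le le_rfl le_sup_right
    have hPT : P ⊔ Z ≤ W := H85.source_le hψ
    refine ⟨hψ, fun x hx => H85.mem_centralizerIn.2 ⟨hPT hx, fun z hz => (hcomm z hz x (hPT hx)).symm⟩,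
      fun x => H85.mem_centralizerIn.2 ⟨H85.map_mem hψ x,
        fun z hz => (hcomm z hz _ (H85.map_mem hψ x)).symm⟩,
      _, H85.restrict hψ hle, fun x => rfl, fun z => hfix z⟩
  · refine Set.Subset.antisymm (hCE P) fun φ hφ => ?_
    rw [hC]
    obtain ⟨ψ, hψ, he, hfix⟩ := exists_ext_central hz hφ
    exact ⟨hφ, fun x hx => H85.mem_centralizerIn.2
        ⟨H85.source_le hφ hx, fun z hzZ => (hcomm z hzZ x (H85.source_le hφ hx)).symm⟩,
      fun x => H85.mem_centralizerIn.2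
        ⟨H85.map_mem hφ x, fun z hzZ => (hcomm z hzZ _ (H85.map_mem hφ x)).symm⟩,
      ψ, hψ, he, hfix⟩

/-- Commuting normal subsystems have a normal product, central when the intersection is central. -/
theorem exists_normal_product (hS : IsPGroup p S) (hF : F.IsSaturated p) {T₁ T₂ : Subgroup Ω}
    {E₁ : FusionSystem T₁} {E₂ : FusionSystem T₂} (n₁ : E₁.IsNormalIn F p)
    (n₂ : E₂.IsNormalIn F p) (h : ⁅T₁, T₂⁆ = ⊥) :
    ∃ D : FusionSystem (T₁ ⊔ T₂), D.IsNormalIn F p ∧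
      (T₁ ⊓ T₂ ≤ E₁.center → T₁ ⊓ T₂ ≤ E₂.center → IsCentralProductOf E₁ E₂ D) := by
  have hcomm := comm_of_commutator h
  have s₁ := n₁.1.2.2.2.1
  have s₂ := n₂.1.2.2.2.1
  have : Finite T₁ := H85.finite_of_le s₁.1
  have : Finite T₂ := H85.finite_of_le s₂.1
  have hZ : F.StronglyClosed (T₁ ⊓ T₂) := ⟨inf_le_left.trans s₁.1, fun R hR φ hφ x =>
    ⟨s₁.2 R (hR.trans inf_le_left) φ hφ x, s₂.2 R (hR.trans inf_le_right) φ hφ x⟩⟩
  obtain ⟨D₁, m₁, z₁, e₁⟩ := exists_cent_reduce hS n₁ inf_le_left hZ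
    fun z hz t ht => hcomm t ht z hz.2
  obtain ⟨D₂, m₂, z₂, e₂⟩ := exists_cent_reduce hS n₂ inf_le_right hZ
    fun z hz t ht => (hcomm z hz.1 t ht).symm
  have hc : CommPair D₁ D₂ := ⟨hcomm, z₁, z₂⟩
  refine ⟨pairSys hc, isNormalIn_pairSys hS hF hc m₁ m₂, fun c₁ c₂ => ?_⟩
  have h3 := isCentralProductOf_pairSys (hS.to_le s₁.1) (hS.to_le s₂.1) hc
  obtain rfl := H85.fusionSystem_ext (e₁ c₁)
  obtain rfl := H85.fusionSystem_ext (e₂ c₂)
  exact h3

end H75.Fus
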