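import Cfsg.Agent.H75.CentralNormal
import Cfsg.Agent.H86.Hyperfocal

/-!
The extension condition for the system generated by two commuting normal subsystems.
-/

set_option autoImplicit false
set_option linter.unusedSectionVars false

open Cfsg Cfsg.FusionSystem

namespace H75.Fus

variable {Ω : Type*} [Group Ω] {S T₁ T₂ : Subgroup Ω} [Finite S] [Finite T₁] [Finite T₂]
  {p : ℕ} [Fact p.Prime] {F : FusionSystem S} {E₁ : FusionSystem T₁} {E₂ : FusionSystem T₂}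

/-- `β` extends `a` to `T₁T₂C_S(T₁T₂)` fixing `T₂`, moving the centralizer inside the centre of
`T₁T₂`. -/
def GoodExt (F : FusionSystem S) (T₁ T₂ : Subgroup Ω) (a : MulAut T₁)
    (β : MulAut ↥((T₁ ⊔ T₂) ⊔ centralizerIn S (T₁ ⊔ T₂))) : Prop :=
  β ∈ F.autGroup ((T₁ ⊔ T₂) ⊔ centralizerIn S (T₁ ⊔ T₂)) ∧
    (∀ x : T₁, (β ⟨x, Subgroup.mem_sup_left (Subgroup.mem_sup_left x.2)⟩ : Ω) = a x) ∧
    (∀ x : T₂, (β ⟨x, Subgroup.mem_sup_left (Subgroup.mem_sup_right x.2)⟩ : Ω) = x) ∧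
    ∀ c : ↥((T₁ ⊔ T₂) ⊔ centralizerIn S (T₁ ⊔ T₂)), (c : Ω) ∈ centralizerIn S (T₁ ⊔ T₂) →
      (c : Ω)⁻¹ * (β c : Ω) ∈
        (T₁ ⊔ T₂) ⊓ Subgroup.centralizer ((T₁ ⊔ T₂ : Subgroup Ω) : Set Ω)

theorem GoodExt.mul (hTS : T₁ ⊔ T₂ ≤ S) {a b : MulAut T₁}
    {β γ : MulAut ↥((T₁ ⊔ T₂) ⊔ centralizerIn S (T₁ ⊔ T₂))} (hβ : GoodExt F T₁ T₂ a β)
    (hγ : GoodExt F T₁ T₂ b γ) : GoodExt F T₁ T₂ (a * b) (β * γ) := by
  let T := T₁ ⊔ T₂
  let J := T ⊔ centralizerIn S T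
  have hJS : J ≤ S := sup_le hTS inf_le_left
  have hmemT : ∀ x : J, (x : Ω) ∈ T → (β x : Ω) ∈ T := by
    intro x hx
    refine H87.mapsTo_sup (φ := (J.subtype.comp β.toMonoidHom).comp
      (Subgroup.inclusion (le_sup_left : T ≤ J))) (fun t => ?_) (fun t => ?_) ⟨x, hx⟩
    · show (β (Subgroup.inclusion le_sup_left (Subgroup.inclusion le_sup_left t : T)) : Ω) ∈ T
      refine Eq.mpr (congrArg (fun u : Ω => u ∈ T) (hβ.2.1 t)) ?_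
      exact Subgroup.mem_sup_left (a t).2
    · show (β (Subgroup.inclusion le_sup_left (Subgroup.inclusion le_sup_right t : T)) : Ω) ∈ T
      refine Eq.mpr (congrArg (fun u : Ω => u ∈ T) (hβ.2.2.1 t)) ?_
      exact Subgroup.mem_sup_right t.2
  refine ⟨mul_mem hβ.1 hγ.1, fun x => ?_, fun x => ?_, fun c hc => ?_⟩
  · show (β (γ _) : Ω) = (a (b x) : Ω)
    rw [← hβ.2.1 (b x)]
    exact congrArg (fun z => (β z : Ω)) (Subtype.ext (hγ.2.1 x))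
  · show (β (γ _) : Ω) = (x : Ω)
    refine Eq.trans ?_ (hβ.2.2.1 x)
    exact congrArg (fun z => (β z : Ω)) (Subtype.ext (hγ.2.2.1 x))
  · have hd := hγ.2.2.2 c hc
    set z : J := c⁻¹ * γ c with hz
    have hzv : (z : Ω) ∈ T ⊓ Subgroup.centralizer (T : Set Ω) := hd
    have hgc : γ c = c * z := (mul_inv_cancel_left c (γ c)).symm
    show (c : Ω)⁻¹ * (β (γ c) : Ω) ∈ _
    rw [hgc, map_mul, Subgroup.coe_mul, ← mul_assoc]
    refine mul_mem (hβ.2.2.2 c hc) ⟨hmemT z hzv.1, ?_⟩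
    have hzc : (z : Ω) ∈ centralizerIn S T := ⟨hTS hzv.1, hzv.2⟩
    have h2 := hβ.2.2.2 z hzc
    rw [← mul_inv_cancel_left (z : Ω) (β z : Ω)]
    exact mul_mem hzv.2 h2.2

theorem exists_goodExt (hS : IsPGroup p S) (hc : CommPair E₁ E₂) (n₁ : E₁.IsNormalIn F p)
    (n₂ : E₂.IsNormalIn F p) {a : MulAut T₁} (ha : a ∈ E₁.autGroup T₁) :
    ∃ β, GoodExt F T₁ T₂ a β := by
  have hsc₁ := n₁.1.2.2.2.1
  have hsc₂ := n₂.1.2.2.2.1
  have hTS : T₁ ⊔ T₂ ≤ S := sup_le hsc₁.1 hsc₂.1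
  set J := (T₁ ⊔ T₂) ⊔ centralizerIn S (T₁ ⊔ T₂) with hJ
  have hJS : J ≤ S := sup_le hTS inf_le_left
  have : Finite J := H85.finite_of_le hJS
  have hT₁p : IsPGroup p T₁ := hS.to_le hsc₁.1
  let A : Set (MulAut T₁) := {a | ∃ β, GoodExt F T₁ T₂ a β}
  have hone : (1 : MulAut T₁) ∈ A :=
    ⟨1, one_mem _, fun _ => rfl, fun _ => rfl, fun c _ => by simp⟩
  have hmul : ∀ {a b}, a ∈ A → b ∈ A → a * b ∈ A := fun ⟨β, hβ⟩ ⟨γ, hγ⟩ => ⟨β * γ, hβ.mul hTS hγ⟩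
  have : Finite (E₁.autGroup T₁) := H85.finite_autGroup E₁ le_rfl
  let G : Subgroup (E₁.autGroup T₁) :=
    { carrier := {k | (k : MulAut T₁) ∈ A}
      one_mem' := hone
      mul_mem' := fun h h' => hmul h h'
      inv_mem' := fun {k} h => by
        show ((k⁻¹ : E₁.autGroup T₁) : MulAut T₁) ∈ A
        rw [inv_eq_of_mul_eq_one_right (show k * k ^ (orderOf k - 1) = 1 by
          rw [← pow_succ', Nat.sub_add_cancel (orderOf_pos k), pow_orderOf_eq_one])]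
        induction (orderOf k - 1) with
        | zero => exact hone
        | succ n ih => rw [pow_succ]; exact hmul ih h }
  suffices hG : (⊤ : Subgroup (E₁.autGroup T₁)) ≤ G from hG (Subgroup.mem_top ⟨a, ha⟩)
  obtain ⟨-, R, hR⟩ := H85.fullyAutomized_of_fullyNormalized hT₁p n₁.1.1 (H85.fullyNormalized_top E₁)
  rw [← H86.pResidual_sup_sylow R, Cfsg.pResidual]
  refine sup_le ((Subgroup.closure_le _).2 ?_) ?_
  · intro k hk
    have hk' : Nat.Coprime (orderOf (k : MulAut T₁)) p := by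
      rw [Subgroup.orderOf_coe]
      exact hk
    have hcen : E₁.IsCentric T₁ := H85.centric_top E₁
    obtain ⟨f, hf, hft, hfo, hfe⟩ := H86.exists_coprime_ext hS n₁ hcen k.2 hk'
    have hXS : H86.pc S T₁ ≤ S := H86.pc_le hsc₁.1
    have hCC : centralizerIn S (T₁ ⊔ T₂) ≤ centralizerIn S T₁ :=
      fun c hc' => H85.mem_centralizerIn.2 ⟨hc'.1, fun t ht =>
        (H85.mem_centralizerIn.1 hc').2 t (Subgroup.mem_sup_left ht)⟩
    have hJX : J ≤ H86.pc S T₁ :=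
      sup_le (sup_le le_sup_left ((hc.le_centralizerIn hsc₂.1).trans le_sup_right))
        (hCC.trans le_sup_right)
    have hfix : ∀ (t : Ω) (ht : t ∈ T₂), (f ⟨t, hJX (Subgroup.mem_sup_left
        (Subgroup.mem_sup_right ht))⟩ : Ω) = t := fun t ht =>
      congrArg Subtype.val ((le_centE_other hS hc n₁ hsc₂ ht).2 T₁ hcen k k.2 hk' f hf hft hfo hfe
        _ rfl)
    have hfT₁ : ∀ t : T₁, (f ⟨t, hJX (Subgroup.mem_sup_left (Subgroup.mem_sup_left t.2))⟩ : Ω) =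
        (k : MulAut T₁) t := fun t => hfe t
    have hdisp : ∀ (c : Ω) (hc' : c ∈ centralizerIn S (T₁ ⊔ T₂)),
        c⁻¹ * (f ⟨c, hJX (Subgroup.mem_sup_right hc')⟩ : Ω) ∈
          (T₁ ⊔ T₂) ⊓ Subgroup.centralizer ((T₁ ⊔ T₂ : Subgroup Ω) : Set Ω) := by
      intro c hc'
      set w : H86.pc S T₁ := ⟨c, hJX (Subgroup.mem_sup_right hc')⟩
      refine ⟨Subgroup.mem_sup_left (hft w), ?_⟩
      refine (Subgroup.centralizer _).mul_mem ((Subgroup.centralizer _).inv_mem hc'.2)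
        (Subgroup.mem_centralizer_iff.2 fun t ht => ?_)
      have hcomm : ∀ u : H86.pc S T₁, (u : Ω) ∈ T₁ ⊔ T₂ →
          (f u : Ω) * (f w : Ω) = (f w : Ω) * (f u : Ω) := fun u hu => by
        have : u * w = w * u := Subtype.ext ((H85.mem_centralizerIn.1 hc').2 u hu)
        rw [← Subgroup.coe_mul, ← map_mul, this, map_mul, Subgroup.coe_mul]
      obtain ⟨x, hx, y, hy, rfl⟩ := mem_sup_comm hc.comm ht
      obtain ⟨x', hx'⟩ := (k : MulAut T₁).surjective ⟨x, hx⟩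
      have h1 := hcomm ⟨x', hJX (Subgroup.mem_sup_left (Subgroup.mem_sup_left x'.2))⟩
        (Subgroup.mem_sup_left x'.2)
      rw [hfT₁, hx'] at h1
      have h2 := hcomm ⟨y, hJX (Subgroup.mem_sup_left (Subgroup.mem_sup_right hy))⟩
        (Subgroup.mem_sup_right hy)
      rw [hfix y hy] at h2
      show x * y * (f w : Ω) = (f w : Ω) * (x * y)
      rw [mul_assoc, h2, ← mul_assoc, show x * (f w : Ω) = (f w : Ω) * x from h1, mul_assoc]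
    have hr := H85.restrict ((H85.mem_autGroup hXS).1 hf) hJX
    have hrange := H86.range_eq_self_of_le F hr (by
      rintro _ ⟨z, rfl⟩
      refine H87.mapsTo_sup (φ := ((H86.pc S T₁).subtype.comp f.toMonoidHom).comp
        (Subgroup.inclusion hJX)) (fun t => Subgroup.mem_sup_left ?_) (fun c => ?_) z
      · obtain ⟨x, hx, y, hy, hxy⟩ := mem_sup_comm hc.comm t.2
        set q : H86.pc S T₁ := Subgroup.inclusion hJX (Subgroup.inclusion le_sup_left t) with hq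
        show (f q : Ω) ∈ T₁ ⊔ T₂
        rw [show q =
          ⟨x, hJX (Subgroup.mem_sup_left (Subgroup.mem_sup_left hx))⟩ *
          ⟨y, hJX (Subgroup.mem_sup_left (Subgroup.mem_sup_right hy))⟩ from Subtype.ext hxy.symm,
          map_mul, Subgroup.coe_mul, hfT₁ ⟨x, hx⟩, hfix y hy]
        exact Subgroup.mul_mem_sup (SetLike.coe_mem _) hy
      · show (f ⟨c, _⟩ : Ω) ∈ J
        rw [← mul_inv_cancel_left (c : Ω) (f ⟨c, hJX (Subgroup.mem_sup_right c.2)⟩ : Ω)]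
        exact J.mul_mem (Subgroup.mem_sup_right c.2) (Subgroup.mem_sup_left (hdisp c c.2).1))
    exact ⟨_, H86.autOfHom_mem F hr hrange, fun x => hfT₁ x, fun x => hfix x x.2,
      fun c hc' => hdisp c hc'⟩
  · intro k hk
    rw [hR] at hk
    obtain ⟨t, ht, hte⟩ := H85.mem_autInducedBy.1 hk
    have htT : t ∈ T₁ ⊔ T₂ := Subgroup.mem_sup_left ht
    have htN : t ∈ normalizerIn S J := ⟨hTS htT, Subgroup.le_normalizer (Subgroup.mem_sup_left htT)⟩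
    refine ⟨H85.conjAut S J ⟨t, htN⟩, H85.autInducedBy_le_autGroup F hJS
      (H85.mem_autInducedBy.2 ⟨t, hTS htT, fun _ => rfl⟩), fun x => (hte x).symm, fun x => ?_,
      fun c hc' => ?_⟩
    · show t * (x : Ω) * t⁻¹ = x
      rw [hc.comm t ht x x.2, mul_inv_cancel_right]
    · show (c : Ω)⁻¹ * (t * c * t⁻¹) ∈ _
      rw [(H85.mem_centralizerIn.1 hc').2 t htT, mul_inv_cancel_right, inv_mul_cancel]
      exact one_mem _

/-- The pair system is normal. -/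
theorem isNormalIn_pairSys (hS : IsPGroup p S) (hF : F.IsSaturated p) (hc : CommPair E₁ E₂)
    (n₁ : E₁.IsNormalIn F p) (n₂ : E₂.IsNormalIn F p) : (pairSys hc).IsNormalIn F p := by
  have hsc₁ := n₁.1.2.2.2.1
  have hsc₂ := n₂.1.2.2.2.1
  have hTS : T₁ ⊔ T₂ ≤ S := sup_le hsc₁.1 hsc₂.1
  have : Finite ↥(T₁ ⊔ T₂) := H85.finite_of_le hTS
  refine ⟨⟨isSaturated_pairSys (hS.to_le hsc₁.1) (hS.to_le hsc₂.1) hc n₁.1.1 n₂.1.1, hF,
    pairSys_le hS hc n₁ n₂, stronglyClosed_sup_comm hS hF hc.comm hsc₁ hsc₂,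
    fun P hPT φ hφ α hα => ?_, frattini_pairSys hS hF hc n₁ n₂⟩, fun α hα => ?_⟩
  · obtain ⟨χ, hχ, he⟩ := normAut_pairSys hc n₁ n₂ hα P φ hφ
    exact ⟨χ, hχ, fun x _ hx => he x hx⟩
  obtain ⟨P₁, P₂, φ₁, φ₂, h₁, h₂, hP₁, hP₂, hf⟩ := (H85.mem_autGroup le_rfl).1 hα
  have hl₁ : T₁ ≤ P₁ := fun x hx => by
    obtain ⟨a, b, he, -⟩ := hf ⟨x, Subgroup.mem_sup_left hx⟩
    have hb : (b : Ω) ∈ T₁ ⊓ T₂ := ⟨by
      rw [show (b : Ω) = (a : Ω)⁻¹ * x from eq_inv_mul_of_mul_eq he.symm]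
      exact T₁.mul_mem (T₁.inv_mem (H85.source_le h₁ a.2)) hx, H85.source_le h₂ b.2⟩
    rw [show x = a * b from he]
    exact P₁.mul_mem a.2 (hP₁ hb)
  have hl₂ : T₂ ≤ P₂ := fun x hx => by
    obtain ⟨a, b, he, -⟩ := hf ⟨x, Subgroup.mem_sup_right hx⟩
    have ha : (a : Ω) ∈ T₁ ⊓ T₂ := ⟨H85.source_le h₁ a.2, by
      rw [show (a : Ω) = x * (b : Ω)⁻¹ from eq_mul_inv_of_mul_eq he.symm]
      exact T₂.mul_mem hx (T₂.inv_mem (H85.source_le h₂ b.2))⟩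
    rw [show x = a * b from he]
    exact P₂.mul_mem (hP₂ ha) b.2
  have k₁ := H85.restrict h₁ hl₁
  have k₂ := H85.restrict h₂ hl₂
  have hr₁ := H86.range_eq_self_of_le E₁ k₁ (H85.range_le k₁)
  have hr₂ := H86.range_eq_self_of_le E₂ k₂ (H85.range_le k₂)
  obtain ⟨β₁, g₁⟩ := exists_goodExt hS hc n₁ n₂ (H86.autOfHom_mem E₁ k₁ hr₁)
  obtain ⟨β₂, g₂⟩ := exists_goodExt hS hc.swap n₂ n₁ (H86.autOfHom_mem E₂ k₂ hr₂)
  have key : ∀ (J : Subgroup Ω) (_ : J = (T₂ ⊔ T₁) ⊔ centralizerIn S (T₂ ⊔ T₁)),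
      ∃ β' ∈ F.autGroup J, (∀ (x : Ω) (hx : x ∈ T₂) (hJ : x ∈ J), (β' ⟨x, hJ⟩ : Ω) = φ₂ ⟨x, hl₂ hx⟩) ∧
        (∀ (x : Ω) (_ : x ∈ T₁) (hJ : x ∈ J), (β' ⟨x, hJ⟩ : Ω) = x) ∧
        ∀ c : J, (c : Ω) ∈ centralizerIn S (T₂ ⊔ T₁) → (c : Ω)⁻¹ * (β' c : Ω) ∈
          (T₂ ⊔ T₁) ⊓ Subgroup.centralizer ((T₂ ⊔ T₁ : Subgroup Ω) : Set Ω) := by
    rintro J rfl
    exact ⟨β₂, g₂.1, fun x hx _ => g₂.2.1 ⟨x, hx⟩, fun x hx _ => g₂.2.2.1 ⟨x, hx⟩, g₂.2.2.2⟩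
  obtain ⟨β', hβ', e₂, f₂, d₂⟩ :=
    key ((T₁ ⊔ T₂) ⊔ centralizerIn S (T₁ ⊔ T₂)) (by rw [sup_comm T₁ T₂])
  let J := (T₁ ⊔ T₂) ⊔ centralizerIn S (T₁ ⊔ T₂)
  refine ⟨β₁ * β', mul_mem g₁.1 hβ', fun x => ?_, fun c hcc => ?_⟩
  · obtain ⟨a, ha, b, hb, hab⟩ := mem_sup_comm hc.comm x.2
    have hA : a ∈ J := Subgroup.mem_sup_left (Subgroup.mem_sup_left ha)
    have hB : b ∈ J := Subgroup.mem_sup_left (Subgroup.mem_sup_right hb)
    have e0 : (Subgroup.inclusion le_sup_left x : J) = ⟨a, hA⟩ * ⟨b, hB⟩ := Subtype.ext hab.symm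
    show (β₁ (β' (Subgroup.inclusion le_sup_left x)) : Ω) = (α x : Ω)
    rw [e0, map_mul, map_mul, Subgroup.coe_mul]
    have v₁ : (β₁ (β' ⟨a, hA⟩) : Ω) = φ₁ ⟨a, hl₁ ha⟩ := by
      rw [show β' ⟨a, hA⟩ = ⟨a, hA⟩ from Subtype.ext (f₂ a ha hA)]
      exact g₁.2.1 ⟨a, ha⟩
    have hbm : φ₂ ⟨b, hl₂ hb⟩ ∈ T₂ := H85.map_mem h₂ _
    have v₂ : (β₁ (β' ⟨b, hB⟩) : Ω) = φ₂ ⟨b, hl₂ hb⟩ := by
      rw [show β' ⟨b, hB⟩ = ⟨φ₂ ⟨b, hl₂ hb⟩, Subgroup.mem_sup_left (Subgroup.mem_sup_right hbm)⟩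
        from Subtype.ext (e₂ b hb hB)]
      exact g₁.2.2.1 ⟨_, hbm⟩
    rw [v₁, v₂]
    exact (hc.value ⟨h₁, h₂, hP₁, hP₂, hf⟩ (x := x) ⟨a, hl₁ ha⟩ ⟨b, hl₂ hb⟩ hab.symm).symm
  · have h1 := d₂ c (by rwa [sup_comm T₂ T₁])
    rw [sup_comm T₂ T₁] at h1
    let z : J := c⁻¹ * β' c
    have hzv : (z : Ω) ∈ (T₁ ⊔ T₂) ⊓ Subgroup.centralizer ((T₁ ⊔ T₂ : Subgroup Ω) : Set Ω) := h1
    show (c : Ω)⁻¹ * (β₁ (β' c) : Ω) ∈ _
    rw [show β' c = c * z from (mul_inv_cancel_left c (β' c)).symm, map_mul, Subgroup.coe_mul,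
      ← mul_assoc]
    refine mul_mem (g₁.2.2.2 c hcc) ?_
    have h3 := g₁.2.2.2 z ⟨hTS hzv.1, hzv.2⟩
    rw [← mul_inv_cancel_left (z : Ω) (β₁ z : Ω)]
    exact mul_mem hzv h3

end H75.Fus
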