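import Cfsg.Agent.H75.PerfectCore
import Cfsg.Agent.H75.CentralExt

/-!
Components of a central product are components of a factor.
-/

set_option autoImplicit false
set_option linter.unusedSectionVars false

open Cfsg Cfsg.FusionSystem

namespace H75.Fus

open H75.Res

variable {Ω : Type*} [Group Ω] {p : ℕ} [Fact p.Prime]

section Pair

variable {T₁ T₂ : Subgroup Ω} {E₁ : FusionSystem T₁} {E₂ : FusionSystem T₂}

theorem pairHom_swap (h : ∀ a ∈ T₁, ∀ b ∈ T₂, a * b = b * a) {P : Subgroup Ω} {φ : P →* Ω}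
    (hφ : φ ∈ pairHom E₁ E₂ P) : φ ∈ pairHom E₂ E₁ P := by
  obtain ⟨P₁, P₂, φ₁, φ₂, h₁, h₂, z₁, z₂, hf⟩ := hφ
  refine ⟨P₂, P₁, φ₂, φ₁, h₂, h₁, inf_comm T₁ T₂ ▸ z₂, inf_comm T₁ T₂ ▸ z₁, fun x => ?_⟩
  obtain ⟨a, b, hx, hv⟩ := hf x
  exact ⟨b, a, hx.trans (h _ (H85.source_le h₁ a.2) _ (H85.source_le h₂ b.2)),
    hv.trans (h _ (H85.map_mem h₁ a) _ (H85.map_mem h₂ b))⟩

variable [Finite T₁] [Finite T₂]

/-- A map of the pair system with source in the first group is a map of the first system. -/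
theorem CommPair.mem_left (hc : CommPair E₁ E₂) {P : Subgroup Ω} {φ : P →* Ω}
    (hφ : φ ∈ pairHom E₁ E₂ P) (hP : P ≤ T₁) : φ ∈ E₁.Hom P := by
  obtain ⟨P₁, P₂, φ₁, φ₂, h₁, h₂, z₁, z₂, hf⟩ := hφ
  have hb : ∀ x : P, ∃ h : (x : Ω) ∈ P₁, φ x = φ₁ ⟨x, h⟩ := fun x => by
    obtain ⟨a, b, hx, hv⟩ := hf x
    have hz : (b : Ω) ∈ T₁ ⊓ T₂ := ⟨by
      show (b : Ω) ∈ T₁
      rw [show (b : Ω) = (a : Ω)⁻¹ * x by rw [hx, inv_mul_cancel_left]]
      exact T₁.mul_mem (T₁.inv_mem (H85.source_le h₁ a.2)) (hP x.2), H85.source_le h₂ b.2⟩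
    refine ⟨hx ▸ P₁.mul_mem a.2 (z₁ hz), ?_⟩
    rw [hv, hc.fix₂ h₂ hz b.2,
      show (⟨(x : Ω), hx ▸ P₁.mul_mem a.2 (z₁ hz)⟩ : P₁) = a * ⟨b, z₁ hz⟩ from Subtype.ext hx,
      map_mul, hc.fix₁ h₁ hz]
  have hle : P ≤ P₁ := fun x hx => (hb ⟨x, hx⟩).1
  exact H85.hom_congr (H85.restrict h₁ hle) fun x => (hb x).2.symm

/-- A map of the second kind. -/
theorem CommPair.mem_right (hc : CommPair E₁ E₂) {P : Subgroup Ω} {φ : P →* Ω}
    (hφ : φ ∈ pairHom E₁ E₂ P) (hP : P ≤ T₂) : φ ∈ E₂.Hom P :=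
  hc.swap.mem_left (pairHom_swap hc.comm hφ) hP

theorem CommPair.stronglyClosed_left (hc : CommPair E₁ E₂) : (pairSys hc).StronglyClosed T₁ :=
  ⟨le_sup_left, fun _ hP _ hφ x => H85.map_mem (hc.mem_left hφ hP) x⟩

theorem CommPair.stronglyClosed_right (hc : CommPair E₁ E₂) : (pairSys hc).StronglyClosed T₂ :=
  ⟨le_sup_right, fun _ hP _ hφ x => H85.map_mem (hc.mem_right hφ hP) x⟩

/-- Maps of the first system extend over the second group, fixing it. -/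
theorem CommPair.exists_ext_left (hc : CommPair E₁ E₂) {P : Subgroup Ω} {φ : P →* Ω}
    (hφ : φ ∈ E₁.Hom P) : ∃ ψ ∈ pairHom E₁ E₂ (P ⊔ T₂),
      (∀ x : P, ψ (Subgroup.inclusion le_sup_left x) = φ x) ∧
        ∀ t : T₂, ψ (Subgroup.inclusion le_sup_right t) = t := by
  have hP := H85.source_le hφ
  have hcPT : ∀ a ∈ P, ∀ b ∈ T₂, a * b = b * a := fun a ha => hc.comm a (hP ha)
  let m : P × T₂ →* ↥(P ⊔ T₂) := MonoidHom.mk'
    (fun w => ⟨(w.1 : Ω) * w.2, Subgroup.mul_mem_sup w.1.2 w.2.2⟩) fun v w => Subtype.ext (by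
      show (v.1 : Ω) * w.1 * (v.2 * w.2) = v.1 * v.2 * (w.1 * w.2)
      calc (v.1 : Ω) * w.1 * (v.2 * w.2) = v.1 * (w.1 * v.2) * w.2 := by group
        _ = v.1 * (v.2 * w.1) * w.2 := by rw [hcPT _ w.1.2 _ v.2.2]
        _ = _ := by group)
  have hm : Function.Surjective m := fun x => by
    obtain ⟨a, ha, b, hb, hx⟩ := mem_sup_comm hcPT x.2
    exact ⟨(⟨a, ha⟩, ⟨b, hb⟩), Subtype.ext hx⟩
  let g : P × T₂ →* Ω := MonoidHom.mk' (fun w => φ w.1 * w.2) fun v w => by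
    show φ (v.1 * w.1) * (v.2 * w.2) = φ v.1 * v.2 * (φ w.1 * w.2)
    rw [map_mul]
    calc φ v.1 * φ w.1 * ((v.2 : Ω) * w.2) = φ v.1 * (φ w.1 * v.2) * w.2 := by group
      _ = φ v.1 * (v.2 * φ w.1) * w.2 := by rw [hc.comm _ (H85.map_mem hφ w.1) _ v.2.2]
      _ = _ := by group
  have hker : m.ker ≤ g.ker := fun w hw => by
    have e : (w.1 : Ω) * w.2 = 1 := congrArg Subtype.val (hw : m w = 1)
    have hz : (w.1 : Ω) ∈ T₁ ⊓ T₂ :=
      ⟨hP w.1.2, by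
        show (w.1 : Ω) ∈ T₂
        rw [eq_inv_of_mul_eq_one_left e]
        exact T₂.inv_mem w.2.2⟩
    show φ w.1 * w.2 = 1
    rw [show φ w.1 = (w.1 : Ω) from hc.fix₁ hφ hz w.1.2, e]
  let ψ : ↥(P ⊔ T₂) →* Ω := m.liftOfSurjective hm ⟨g, hker⟩
  have hψ : ∀ w, ψ (m w) = g w := fun w =>
    MonoidHom.liftOfRightInverse_comp_apply _ _ _ ⟨g, hker⟩ w
  refine ⟨ψ, hc.mem_pairHom hφ (H85.id_mem E₂ le_rfl) fun x => ?_, fun x => ?_, fun t => ?_⟩
  · obtain ⟨w, rfl⟩ := hm x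
    exact ⟨w.1, w.2, rfl, hψ w⟩
  · rw [show Subgroup.inclusion le_sup_left x = m (x, 1) from Subtype.ext (mul_one _).symm, hψ]
    exact mul_one _
  · rw [show Subgroup.inclusion le_sup_right t = m (1, t) from Subtype.ext (one_mul _).symm, hψ]
    show φ 1 * (t : Ω) = t
    rw [map_one, one_mul]

/-- The first system is a subsystem. -/
theorem CommPair.le_left (hc : CommPair E₁ E₂) : E₁.IsSubsystemOf (pairSys hc) := fun P φ hφ => by
  obtain ⟨ψ, hψ, hext, -⟩ := hc.exists_ext_left hφ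
  exact H85.hom_congr (F := pairSys hc) (H85.restrict (F := pairSys hc) hψ le_sup_left) hext

theorem CommPair.le_right (hc : CommPair E₁ E₂) : E₂.IsSubsystemOf (pairSys hc) := fun P φ hφ => by
  exact pairHom_swap (fun a ha b hb => (hc.comm b hb a ha).symm) (hc.swap.le_left P hφ)

end Pair

/-- A central product is the system of its factors. -/
theorem exists_commPair {T₁ T₂ T : Subgroup Ω} [Finite T₁] [Finite T₂] (hT₁ : IsPGroup p T₁)
    (hT₂ : IsPGroup p T₂) {E₁ : FusionSystem T₁} {E₂ : FusionSystem T₂} {D : FusionSystem T}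
    (h : IsCentralProductOf E₁ E₂ D) :
    ∃ hc : CommPair E₁ E₂, T = T₁ ⊔ T₂ ∧ ∀ P, D.Hom P = (pairSys hc).Hom P := by
  obtain ⟨D₀, hD₀, Z, θ, hZc, -, -, hθ₁, hθ₂, hfac⟩ := h
  obtain ⟨hZT, hker, hrange, hhom⟩ := id hfac
  have h1 : ∀ a (ha : a ∈ T₁), ((a, 1) : Ω × Ω) ∈ T₁.prod T₂ := fun a ha => ⟨ha, T₂.one_mem⟩
  have h2 : ∀ b (hb : b ∈ T₂), ((1, b) : Ω × Ω) ∈ T₁.prod T₂ := fun b hb => ⟨T₁.one_mem, hb⟩
  have hcomm : ∀ a ∈ T₁, ∀ b ∈ T₂, a * b = b * a := fun a ha b hb => by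
    have e : (⟨_, h1 a ha⟩ : T₁.prod T₂) * ⟨_, h2 b hb⟩ = ⟨_, h2 b hb⟩ * ⟨_, h1 a ha⟩ :=
      Subtype.ext (Prod.ext ((mul_one a).trans (one_mul a).symm) ((one_mul b).trans (mul_one b).symm))
    have := congrArg θ e
    rwa [map_mul, map_mul, hθ₁, hθ₂] at this
  have hval : ∀ s : T₁.prod T₂, θ s = (s : Ω × Ω).1 * (s : Ω × Ω).2 := fun s => by
    have e : s = ⟨_, h1 _ s.2.1⟩ * ⟨_, h2 _ s.2.2⟩ :=
      Subtype.ext (Prod.ext (mul_one _).symm (one_mul _).symm)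
    conv_lhs => rw [e]
    rw [map_mul, hθ₁, hθ₂]
  have hT : T = T₁ ⊔ T₂ := by
    rw [← hrange]
    refine le_antisymm ?_ (sup_le (fun a ha => ⟨_, hθ₁ a (h1 a ha)⟩) fun b hb => ⟨_, hθ₂ b (h2 b hb)⟩)
    rintro _ ⟨s, rfl⟩
    rw [hval]
    exact Subgroup.mul_mem_sup s.2.1 s.2.2
  have hmem : ∀ w ∈ T₁ ⊓ T₂, ((w, w⁻¹) : Ω × Ω) ∈ Z := fun w hw => by
    have hs : ((w, w⁻¹) : Ω × Ω) ∈ T₁.prod T₂ := ⟨hw.1, T₂.inv_mem hw.2⟩
    refine (hker ⟨_, hs⟩).1 ?_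
    rw [hval]
    exact mul_inv_cancel w
  have : Finite ↥(T₁.prod T₂) := Finite.of_equiv _ (Subgroup.prodEquiv T₁ T₂).symm.toEquiv
  obtain ⟨hDS, hDext⟩ := H89.center_isCentral D₀
  have hc₁ : T₁ ⊓ T₂ ≤ E₁.center := by
    refine le_sSup ⟨inf_le_left, fun P φ hφ => ?_⟩
    let Q : Subgroup (Ω × Ω) := P.prod ⊥
    have hQ : Q ≤ T₁.prod T₂ := fun x hx => ⟨H85.source_le hφ hx.1, by
      rw [Subgroup.mem_bot.1 hx.2]; exact T₂.one_mem⟩
    have hf : ∀ x : Q, (x : Ω × Ω).1 ∈ P := fun x => x.2.1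
    let χ : Q →* Ω × Ω := MonoidHom.mk'
      (fun x => (φ ⟨_, hf x⟩, 1)) fun x y => Prod.ext
        (map_mul φ ⟨_, hf x⟩ ⟨_, hf y⟩) (one_mul 1).symm
    have hle1 : Q.map (MonoidHom.fst Ω Ω) ≤ P := by
      rintro _ ⟨x, hx, rfl⟩
      exact hx.1
    have hle2 : Q.map (MonoidHom.snd Ω Ω) ≤ T₂ := by
      rintro _ ⟨x, hx, rfl⟩
      exact (hQ hx).2
    have hχ : χ ∈ D₀.Hom Q := (hD₀ Q χ).2 ⟨hQ, _, H85.restrict hφ hle1, _,
      H85.id_mem E₂ hle2, fun x h₁ h₂ => Prod.ext rfl (Subgroup.mem_bot.1 x.2.2).symm⟩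
    obtain ⟨ψ, hψ, hψQ, hψZ⟩ := hDext Q χ hχ
    obtain ⟨-, ψ₁, hψ₁, ψ₂, -, he⟩ := (hD₀ _ ψ).1 hψ
    have hfst : ∀ x ∈ Q ⊔ D₀.center, x.1 ∈ (Q ⊔ D₀.center).map (MonoidHom.fst Ω Ω) :=
      fun x hx => ⟨x, hx, rfl⟩
    have hsup : P ⊔ (T₁ ⊓ T₂) ≤ (Q ⊔ D₀.center).map (MonoidHom.fst Ω Ω) := sup_le
      (fun x hx => hfst (x, 1) (Subgroup.mem_sup_left ⟨hx, Subgroup.one_mem _⟩))
      fun w hw => hfst (w, w⁻¹) (Subgroup.mem_sup_right (hZc (hmem w hw)))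
    refine ⟨_, H85.restrict hψ₁ hsup, fun x => ?_, fun w => ?_⟩
    · let z : ↥(Q ⊔ D₀.center) :=
        Subgroup.inclusion le_sup_left (⟨((x : Ω), 1), x.2, Subgroup.one_mem _⟩ : Q)
      have h3 := congrArg Prod.fst ((he z (hfst _ z.2) ⟨_, z.2, rfl⟩).symm.trans (hψQ _))
      exact (congrArg ψ₁ (Subtype.ext rfl)).trans h3
    · let z : ↥(Q ⊔ D₀.center) :=
        Subgroup.inclusion le_sup_right (⟨_, hZc (hmem w w.2)⟩ : D₀.center)
      have h3 := congrArg Prod.fst ((he z (hfst _ z.2) ⟨_, z.2, rfl⟩).symm.trans (hψZ _))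
      exact (congrArg ψ₁ (Subtype.ext rfl)).trans h3
  have hc₂ : T₁ ⊓ T₂ ≤ E₂.center := by
    refine le_sSup ⟨inf_le_right, fun P φ hφ => ?_⟩
    let Q : Subgroup (Ω × Ω) := (⊥ : Subgroup Ω).prod P
    have hQ : Q ≤ T₁.prod T₂ := fun x hx => ⟨by
      rw [Subgroup.mem_bot.1 hx.1]; exact T₁.one_mem, H85.source_le hφ hx.2⟩
    have hf : ∀ x : Q, (x : Ω × Ω).2 ∈ P := fun x => x.2.2
    let χ : Q →* Ω × Ω := MonoidHom.mk'
      (fun x => (1, φ ⟨_, hf x⟩)) fun x y => Prod.ext (one_mul 1).symm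
        (map_mul φ ⟨_, hf x⟩ ⟨_, hf y⟩)
    have hle1 : Q.map (MonoidHom.fst Ω Ω) ≤ T₁ := by
      rintro _ ⟨x, hx, rfl⟩
      exact (hQ hx).1
    have hle2 : Q.map (MonoidHom.snd Ω Ω) ≤ P := by
      rintro _ ⟨x, hx, rfl⟩
      exact hx.2
    have hχ : χ ∈ D₀.Hom Q := (hD₀ Q χ).2 ⟨hQ, _, H85.id_mem E₁ hle1, _,
      H85.restrict hφ hle2, fun x h₁ h₂ => Prod.ext (Subgroup.mem_bot.1 x.2.1).symm rfl⟩
    obtain ⟨ψ, hψ, hψQ, hψZ⟩ := hDext Q χ hχ
    obtain ⟨-, ψ₁, -, ψ₂, hψ₂, he⟩ := (hD₀ _ ψ).1 hψ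
    have hsnd : ∀ x ∈ Q ⊔ D₀.center, x.2 ∈ (Q ⊔ D₀.center).map (MonoidHom.snd Ω Ω) :=
      fun x hx => ⟨x, hx, rfl⟩
    have hsup : P ⊔ (T₁ ⊓ T₂) ≤ (Q ⊔ D₀.center).map (MonoidHom.snd Ω Ω) := sup_le
      (fun x hx => hsnd (1, x) (Subgroup.mem_sup_left ⟨Subgroup.one_mem _, hx⟩))
      fun w hw => (inv_inv w) ▸ hsnd (w⁻¹, w⁻¹⁻¹)
        (Subgroup.mem_sup_right (hZc (hmem w⁻¹ (Subgroup.inv_mem _ hw))))
    refine ⟨_, H85.restrict hψ₂ hsup, fun x => ?_, fun w => ?_⟩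
    · let z : ↥(Q ⊔ D₀.center) :=
        Subgroup.inclusion le_sup_left (⟨(1, (x : Ω)), Subgroup.one_mem _, x.2⟩ : Q)
      have h3 := congrArg Prod.snd ((he z ⟨_, z.2, rfl⟩ (hsnd _ z.2)).symm.trans (hψQ _))
      exact (congrArg ψ₂ (Subtype.ext rfl)).trans h3
    · let z : ↥(Q ⊔ D₀.center) := Subgroup.inclusion le_sup_right
        (⟨_, hZc (hmem (w : Ω)⁻¹ (Subgroup.inv_mem _ w.2))⟩ : D₀.center)
      have h3 := congrArg Prod.snd ((he z ⟨_, z.2, rfl⟩ (hsnd _ z.2)).symm.trans (hψZ _))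
      refine ((congrArg ψ₂ (Subtype.ext ?_)).trans h3).trans (inv_inv (w : Ω))
      exact (inv_inv (w : Ω)).symm
  have hc : CommPair E₁ E₂ := ⟨hcomm, hc₁, hc₂⟩
  obtain ⟨D₁, hD₁, -, -, hfac₁⟩ := exists_factorSystem hT₁ hT₂ hc
  have hDD : D₁ = D₀ := H85.fusionSystem_ext fun P =>
    Set.ext fun φ => (hD₁ P φ).trans (hD₀ P φ).symm
  subst hDD
  have hθ : θ = mulMap hc := MonoidHom.ext hval
  subst hθ
  refine ⟨hc, hT, fun P => Set.ext fun φ => ?_⟩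
  rw [hhom P φ, hfac₁.2.2.2 P φ, hT]

section Split

variable {S₁ S₂ : Subgroup Ω} [Finite S₁] [Finite S₂] {F₁ : FusionSystem S₁}
  {F₂ : FusionSystem S₂} {S : Subgroup Ω} [Finite S] {F : FusionSystem S}

/-- The maps on a strongly closed direct-like factor form a saturated system. -/
theorem isSaturated_restrictSys (hS : IsPGroup p S) (hF : F.IsSaturated p) {U : Subgroup Ω}
    (hU : F.StronglyClosed U)
    (hsplit : ∀ g ∈ S, ∃ a ∈ U, ∃ b, (∀ u ∈ U, u * b = b * u) ∧ a * b = g) :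
    (H86.restrictSys F hU).IsSaturated p := by
  intro P hP
  obtain ⟨V, hPV, hV⟩ := H85.exists_fullyNormalized F (hP.trans hU.1)
  obtain ⟨φ, hφ, hφr⟩ := hPV
  have hVU : V ≤ U := hφr ▸ fun y ⟨x, hx⟩ => hx ▸ hU.2 P hP φ hφ x
  obtain ⟨⟨hVS, R, hR⟩, hrec⟩ := H85.automized_receptive_of_fullyNormalized hS hF hV
  have haut : (H86.restrictSys F hU).autGroup V = F.autGroup V := by
    ext a
    rw [H85.mem_autGroup hVU, H85.mem_autGroup hVS]
    exact ⟨fun h => h.2, fun h => ⟨hVU, h⟩⟩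
  have hind : autInducedBy U V = autInducedBy S V := by
    refine le_antisymm (Subgroup.closure_mono fun a ⟨g, hg, h⟩ => ⟨g, hU.1 hg, h⟩) ?_
    intro a ha
    obtain ⟨g, hg, hga⟩ := H85.mem_autInducedBy.1 ha
    obtain ⟨x, hx, y, hy, rfl⟩ := hsplit g hg
    refine H85.mem_autInducedBy.2 ⟨x, hx, fun u => (hga u).trans ?_⟩
    have h : y * (u : Ω) * y⁻¹ = u := by rw [← hy u (hVU u.2), mul_inv_cancel_right]
    calc x * y * (u : Ω) * (x * y)⁻¹ = x * (y * u * y⁻¹) * x⁻¹ := by group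
      _ = _ := by rw [h]
  refine ⟨V, ⟨φ, ⟨hP, hφ⟩, hφr⟩, ⟨hVU, ?_⟩, hVU, fun W χ hχ hχr => ?_⟩
  · rw [haut, hind]
    exact ⟨R, hR⟩
  · obtain ⟨ψ, hψ, hext⟩ := hrec.2 W χ hχ.2 hχr
    have hle : extender U W χ ≤ extender S W χ := by
      intro g hg
      obtain ⟨hgS, hgN, h, hh, hgh⟩ := H85.mem_extender.1 hg
      exact H85.mem_extender.2 ⟨hU.1 hgS, hgN, h, hU.1 hh, hgh⟩
    exact ⟨_, ⟨H85.extender_le _ _, H85.restrict hψ hle⟩,
      fun x hxV hxN => hext x hxV (hle hxN)⟩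

/-- The restriction of a weakly normal subsystem to a strongly closed subgroup. -/
theorem weaklyNormal_restrictSys (hS : IsPGroup p S) {T : Subgroup Ω} {D : FusionSystem T}
    (hD : D.IsWeaklyNormalIn F p) {U : Subgroup Ω} (hUF : F.StronglyClosed U)
    (hUD : D.StronglyClosed U) (hsat : (H86.restrictSys D hUD).IsSaturated p) :
    (H86.restrictSys D hUD).IsWeaklyNormalIn F p := by
  have hsub : (H86.restrictSys D hUD).IsSubsystemOf F := fun P φ hφ => hD.2.2.1 P hφ.2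
  refine ⟨hsat, hD.2.1, H86.invariant_of_strongInv hS hD.2.1 hsub hUF ?_⟩
  intro P Q hPQ hQ φ hφ hφQ ψ hψ
  obtain ⟨χ, hχ, he⟩ := H86.strongInv_of_invariant hD.2.2 P Q hPQ (hQ.trans hUD.1) φ hφ.2 hφQ ψ hψ
  refine ⟨χ, ⟨?_, hχ⟩, he⟩
  rintro _ ⟨x, -, rfl⟩
  exact hUF.2 Q hQ ψ hψ x

/-- A perfect normal subsystem of a central product is the central product of its parts. -/
theorem exists_split (hc : CommPair F₁ F₂) (hS : IsPGroup p ↥(S₁ ⊔ S₂))
    [Finite ↥(S₁ ⊔ S₂)] (h₁ : F₁.IsSaturated p) (h₂ : F₂.IsSaturated p) {T : Subgroup Ω}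
    {D : FusionSystem T} (hD : D.IsNormalIn (pairSys hc) p) (hp : Perfect p D) :
    ∃ (U₁ U₂ : Subgroup Ω) (W₁ : FusionSystem U₁) (W₂ : FusionSystem U₂),
      W₁.IsNormalIn F₁ p ∧ W₂.IsNormalIn F₂ p ∧ CommPair W₁ W₂ ∧ T = U₁ ⊔ U₂ ∧
        ∀ P, D.Hom P = pairHom W₁ W₂ P := by
  have hF := hD.1.2.1
  have hTc := hD.1.2.2.2.1
  have hDF := hD.1.2.2.1
  have : Finite T := H85.finite_of_le hTc.1
  have hTp : IsPGroup p T := hS.to_le hTc.1
  have hs₁ := hc.stronglyClosed_left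
  have hs₂ := hc.stronglyClosed_right
  -- displacements split
  have hTle : T ≤ (T ⊓ S₁) ⊔ (T ⊓ S₂) := by
    conv_lhs => rw [← hp.2.1]
    rw [hyperfocalSubgroup, Subgroup.closure_le]
    rintro _ ⟨P, α, x, hP, -, rfl⟩
    have hαF : H85.IsFIso (pairSys hc) (α : MulAut P) := hDF _ ((H85.mem_autGroup hP).1 α.2)
    obtain ⟨P₁, P₂, φ₁, φ₂, k₁, k₂, z₁, z₂, hf⟩ := id hαF
    obtain ⟨ψ, hψ, hψ₁, hψ₂⟩ := hc.exists_ext_left k₁
    have hle : P ≤ P₁ ⊔ S₂ := fun y hy => by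
      obtain ⟨a, b, hy', -⟩ := hf ⟨y, hy⟩
      rw [show y = a * b from hy']
      exact Subgroup.mul_mem_sup a.2 (H85.source_le k₂ b.2)
    obtain ⟨a, b, hx, hv⟩ := hf x
    have hy : φ₁ a * (b : Ω) ∈ T := by
      have h3 := hTc.2 P hP _ (H85.restrict (F := pairSys hc) hψ hle) x
      rw [MonoidHom.comp_apply, show Subgroup.inclusion hle x =
        Subgroup.inclusion le_sup_left a * Subgroup.inclusion le_sup_right
          (⟨b, H85.source_le k₂ b.2⟩ : S₂) from Subtype.ext hx, map_mul, hψ₁, hψ₂] at h3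
      exact h3
    have hca : ∀ u ∈ S₁, (b : Ω) * u = u * b := fun u hu =>
      (hc.comm u hu b (H85.source_le k₂ b.2)).symm
    have hd₁ : (a : Ω)⁻¹ * φ₁ a ∈ T ⊓ S₁ := by
      have hm : (a : Ω)⁻¹ * φ₁ a ∈ S₁ :=
        S₁.mul_mem (S₁.inv_mem (H85.source_le k₁ a.2)) (H85.map_mem k₁ a)
      refine ⟨?_, hm⟩
      have h4 := T.mul_mem (T.inv_mem (hP x.2)) hy
      rw [hx, show ((a : Ω) * b)⁻¹ * (φ₁ a * b) = (b : Ω)⁻¹ * ((a : Ω)⁻¹ * φ₁ a * b) by group,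
        ← hca _ hm, inv_mul_cancel_left] at h4
      exact h4
    have heq : (x : Ω)⁻¹ * ((α : MulAut P) x : P) =
        (a : Ω)⁻¹ * φ₁ a * ((b : Ω)⁻¹ * φ₂ b) := by
      rw [show (((α : MulAut P) x : P) : Ω) = φ₁ a * φ₂ b from hv, hx, mul_inv_rev]
      calc (b : Ω)⁻¹ * (a : Ω)⁻¹ * (φ₁ a * φ₂ b) = (b : Ω)⁻¹ * ((a : Ω)⁻¹ * φ₁ a) * φ₂ b := by group
        _ = (b : Ω)⁻¹ * (((a : Ω)⁻¹ * φ₁ a) * b) * (b : Ω)⁻¹ * φ₂ b := by group
        _ = (b : Ω)⁻¹ * ((b : Ω) * ((a : Ω)⁻¹ * φ₁ a)) * (b : Ω)⁻¹ * φ₂ b := by rw [hca _ hd₁.2]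
        _ = _ := by group
    rw [SetLike.mem_coe, heq]
    refine Subgroup.mul_mem_sup hd₁ ⟨?_, S₂.mul_mem (S₂.inv_mem (H85.source_le k₂ b.2))
      (H85.map_mem k₂ b)⟩
    have h5 := T.mul_mem (T.inv_mem hd₁.1)
      (T.mul_mem (T.inv_mem (hP x.2)) (hP ((α : MulAut P) x).2))
    rw [heq, inv_mul_cancel_left] at h5
    exact h5
  obtain ⟨U₁, hU₁⟩ : ∃ U, U = T ⊓ S₁ := ⟨_, rfl⟩
  obtain ⟨U₂, hU₂⟩ : ∃ U, U = T ⊓ S₂ := ⟨_, rfl⟩
  rw [← hU₁, ← hU₂] at hTle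
  have hU₁T : U₁ ≤ T := hU₁ ▸ inf_le_left
  have hU₂T : U₂ ≤ T := hU₂ ▸ inf_le_left
  have hU₁S : U₁ ≤ S₁ := hU₁ ▸ inf_le_right
  have hU₂S : U₂ ≤ S₂ := hU₂ ▸ inf_le_right
  obtain rfl : T = U₁ ⊔ U₂ := le_antisymm hTle (sup_le hU₁T hU₂T)
  have : Finite U₁ := H85.finite_of_le hU₁T
  have : Finite U₂ := H85.finite_of_le hU₂T
  have hcomm : ∀ a ∈ U₁, ∀ b ∈ U₂, a * b = b * a := fun a ha b hb =>
    hc.comm a (hU₁S ha) b (hU₂S hb)
  have hscF : ∀ {U R : Subgroup Ω}, (pairSys hc).StronglyClosed R → U = (U₁ ⊔ U₂) ⊓ R →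
      (pairSys hc).StronglyClosed U := by
    rintro U R hR rfl
    exact ⟨inf_le_left.trans hTc.1, fun P hP φ hφ x =>
      ⟨hTc.2 P (hP.trans inf_le_left) φ hφ x, hR.2 P (hP.trans inf_le_right) φ hφ x⟩⟩
  have hU₁F := hscF hs₁ hU₁
  have hU₂F := hscF hs₂ hU₂
  have hU₁D : D.StronglyClosed U₁ :=
    ⟨hU₁T, fun P hP φ hφ x => hU₁F.2 P hP φ (hDF P hφ) x⟩
  have hU₂D : D.StronglyClosed U₂ :=
    ⟨hU₂T, fun P hP φ hφ x => hU₂F.2 P hP φ (hDF P hφ) x⟩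
  have hV₁ := weaklyNormal_restrictSys hS hD.1 hU₁F hU₁D
    (isSaturated_restrictSys hTp hp.1 hU₁D fun g hg => by
      obtain ⟨a, ha, b, hb, hab⟩ := mem_sup_comm hcomm hg
      exact ⟨a, ha, b, fun u hu => hcomm u hu b hb, hab⟩)
  have hV₂ := weaklyNormal_restrictSys hS hD.1 hU₂F hU₂D
    (isSaturated_restrictSys hTp hp.1 hU₂D fun g hg => by
      obtain ⟨a, ha, b, hb, hab⟩ := mem_sup_comm hcomm hg
      exact ⟨b, hb, a, fun u hu => (hcomm a ha u hu).symm, (hcomm a ha b hb).symm.trans hab⟩)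
  set V₁ := H86.restrictSys D hU₁D with hV₁def
  set V₂ := H86.restrictSys D hU₂D with hV₂def
  have hp₁ : IsPGroup p U₁ := hTp.to_le hU₁T
  have hp₂ : IsPGroup p U₂ := hTp.to_le hU₂T
  have hVF₁ : V₁.IsSubsystemOf F₁ := fun P φ hφ =>
    hc.mem_left (hDF P hφ.2) (hφ.1.trans hU₁S)
  have hVF₂ : V₂.IsSubsystemOf F₂ := fun P φ hφ =>
    hc.mem_right (hDF P hφ.2) (hφ.1.trans hU₂S)
  have n₁ := H86.residual_normal hS hV₁
  have n₂ := H86.residual_normal hS hV₂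
  have hp₁' : IsPGroup p S₁ := hS.to_le le_sup_left
  have hp₂' : IsPGroup p S₂ := hS.to_le le_sup_right
  have m₁ := H86.residual_normal hp₁' (weaklyNormal_of_le hS hV₁ h₁ hc.le_left hVF₁)
  have m₂ := H86.residual_normal hp₂' (weaklyNormal_of_le hS hV₂ h₂ hc.le_right hVF₂)
  set W₁ := H86.minSysCl p V₁ with hW₁
  set W₂ := H86.minSysCl p V₂ with hW₂
  have hWV₁ : W₁.IsSubsystemOf V₁ := H86.primeData_minSysCl.sub
  have hWV₂ : W₂.IsSubsystemOf V₂ := H86.primeData_minSysCl.sub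
  have hcen : ∀ {U : Subgroup Ω} {W : FusionSystem U} [Finite U], IsPGroup p U →
      W.IsSaturated p → U₁ ⊓ U₂ ≤ U →
      (∀ u ∈ U, ∀ z ∈ U₁ ⊓ U₂, z * u = u * z) →
      (∀ (P : Subgroup Ω) (φ : P →* Ω), φ ∈ W.Hom P → ∀ x : P, (x : Ω) ∈ U₁ ⊓ U₂ → φ x = x) →
      U₁ ⊓ U₂ ≤ W.center := by
    intro U W _ hU hW hle hcm hfix
    have hsc : W.StronglyClosed (U₁ ⊓ U₂) :=
      ⟨hle, fun P hP φ hφ x => (hfix P φ hφ x (hP x.2)).symm ▸ hP x.2⟩
    have hn : W.IsNormal (U₁ ⊓ U₂) := H85.isNormal_of_abelian hU hW hsc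
      ⟨⟨fun a b => Subtype.ext (hcm _ (hle b.2) _ a.2)⟩⟩
    refine le_sSup ⟨hle, fun P φ hφ => ?_⟩
    obtain ⟨ψ, hψ, hext, -⟩ := hn.2 P φ hφ
    exact ⟨ψ, hψ, hext, fun z => hfix _ ψ hψ _ z.2⟩
  have hzS : U₁ ⊓ U₂ ≤ S₁ ⊓ S₂ := fun z hz => ⟨hU₁S hz.1, hU₂S hz.2⟩
  have hc' : CommPair W₁ W₂ := by
    refine ⟨hcomm, hcen hp₁ n₁.1.1 inf_le_left (fun u hu z hz => (hcomm u hu z hz.2).symm) ?_,
      hcen hp₂ n₂.1.1 inf_le_right (fun u hu z hz => hcomm z hz.1 u hu) ?_⟩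
    · exact fun P φ hφ x hx => hc.fix₁ (hVF₁ P (hWV₁ P hφ)) (hzS hx) x.2
    · exact fun P φ hφ x hx => hc.fix₂ (hVF₂ P (hWV₂ P hφ)) (hzS hx) x.2
  have hX := isNormalIn_pairSys hS hF hc' n₁ n₂
  refine ⟨U₁, U₂, W₁, W₂, m₁, m₂, hc', rfl, fun P => Set.Subset.antisymm ?_ ?_⟩
  · intro φ hφ
    refine H86.minSysCl_le_weaklyNormal hS hD.1 hX.1 P ?_
    rwa [hp.2.2]
  -- maps of a part, fixing the other part, lie in `D`
  have key : ∀ {U U' : Subgroup Ω} {V : FusionSystem U} {W' : FusionSystem U'}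
      [Finite U] [Finite U'] (hk : CommPair (H86.minSysCl p V) W'),
      IsPGroup p U → V.IsSaturated p → U ⊔ U' = U₁ ⊔ U₂ →
      (∀ P, pairHom (H86.minSysCl p V) W' P = pairHom W₁ W₂ P) →
      ∀ (Q : Subgroup Ω) (φ : Q →* Ω), φ ∈ (H86.minSysCl p V).Hom Q →
        ∃ ψ ∈ D.Hom (Q ⊔ U'), (∀ x : Q, ψ (Subgroup.inclusion le_sup_left x) = φ x) ∧
          ∀ t : U', ψ (Subgroup.inclusion le_sup_right t) = t := by
    intro U U' V W' _ _ hk hU hV hUU hincl Q φ hφ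
    set W := H86.minSysCl p V with hWdef
    have hWsub : W.IsSubsystemOf V := H86.primeData_minSysCl.sub
    have hU'T : U' ≤ U₁ ⊔ U₂ := hUU ▸ le_sup_right
    let Y : FusionSystem U :=
      { Hom := fun P => {φ | φ ∈ W.Hom P ∧ ∃ ψ ∈ D.Hom (P ⊔ U'),
          (∀ x : P, ψ (Subgroup.inclusion le_sup_left x) = φ x) ∧
            ∀ t : U', ψ (Subgroup.inclusion le_sup_right t) = t}
        le_of_mem := fun h => W.le_of_mem h.1
        injective_of_mem := fun h => W.injective_of_mem h.1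
        conj_mem := by
          intro P g hP hg
          refine ⟨W.conj_mem hP hg, _,
            D.conj_mem (sup_le (hP.trans (hUU ▸ le_sup_left)) hU'T) (hUU ▸ Subgroup.mem_sup_left hg),
            fun x => rfl, fun t => ?_⟩
          show g * (t : Ω) * g⁻¹ = t
          rw [hk.comm g hg t t.2, mul_inv_cancel_right]
        comp_mem := by
          rintro P R φ ψ ⟨hφ, a, ha, ha₁, ha₂⟩ ⟨hψ, b, hb, hb₁, hb₂⟩ h
          have hm : ∀ z, a z ∈ R ⊔ U' := H87.mapsTo_sup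
            (fun x => by rw [ha₁]; exact Subgroup.mem_sup_left (h x))
            (fun t => by rw [ha₂]; exact Subgroup.mem_sup_right t.2)
          refine ⟨W.comp_mem hφ hψ h, _, D.comp_mem ha hb hm, fun x => ?_, fun t => ?_⟩
          · refine Eq.trans ?_ (hb₁ ⟨φ x, h x⟩)
            exact congrArg b (Subtype.ext (ha₁ x))
          · refine Eq.trans ?_ (hb₂ t)
            exact congrArg b (Subtype.ext (ha₂ t))
        inv_mem := by
          rintro P φ ⟨hφ, a, ha, ha₁, ha₂⟩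
          obtain ⟨f, hf, hfe⟩ := W.inv_mem hφ
          obtain ⟨g, hg, hge⟩ := D.inv_mem ha
          have hle : φ.range ⊔ U' ≤ a.range := sup_le
            (by rintro _ ⟨x, rfl⟩; exact ⟨_, ha₁ x⟩) fun t ht => ⟨_, ha₂ ⟨t, ht⟩⟩
          refine ⟨f, ⟨hf, _, H85.restrict hg hle, ?_, fun t => ?_⟩, hfe⟩
          · rintro ⟨_, x, rfl⟩
            refine ((congrArg g (Subtype.ext (ha₁ x).symm)).trans (hge _)).trans (hfe x).symm
          · exact (congrArg g (Subtype.ext (ha₂ t).symm)).trans (hge (Subgroup.inclusion le_sup_right t)) }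
    suffices h : W.IsSubsystemOf Y from (h Q hφ).2
    refine H86.residual_le V ⟨fun P hP a ha hk' => ?_, fun ε hε P hP h => ?_⟩
    · have haW := pElement_minSysCl hU hV hP.1 ha hk'
      have haX : H85.IsFIso W a := (H85.mem_autGroup hP.1).1 haW
      obtain ⟨ψ, hψ, hψ₁, hψ₂⟩ := hk.exists_ext_left haX
      have hψX : ψ ∈ (pairSys hc').Hom (P ⊔ U') := (hincl _).le hψ
      have hPU : P ⊔ U' ≤ U₁ ⊔ U₂ := hUU ▸ sup_le_sup_right hP.1 _
      have : Finite ↥(P ⊔ U') := H85.finite_of_le hPU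
      have hr : ψ.range = P ⊔ U' := H86.range_eq_self_of_le (pairSys hc') hψX (by
        rintro _ ⟨z, rfl⟩
        exact H87.mapsTo_sup (fun x => by rw [hψ₁]; exact Subgroup.mem_sup_left (a x).2)
          (fun t => by rw [hψ₂]; exact Subgroup.mem_sup_right t.2) z)
      let b := H86.autOfHom ψ ((pairSys hc').injective_of_mem hψX) hr
      have hb : b ∈ (pairSys hc').autGroup (P ⊔ U') := H86.autOfHom_mem _ hψX hr
      have hbk : ∀ k : ℕ, (∀ x : P, ((b ^ k) (Subgroup.inclusion le_sup_left x) : Ω) =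
          (a ^ k) x) ∧ ∀ t : U', ((b ^ k) (Subgroup.inclusion le_sup_right t) : Ω) = t := by
        intro k
        induction k with
        | zero => exact ⟨fun _ => rfl, fun _ => rfl⟩
        | succ k ihk =>
          refine ⟨fun x => ?_, fun t => ?_⟩
          · rw [pow_succ', pow_succ', MulAut.mul_apply, MulAut.mul_apply,
              show (b ^ k) (Subgroup.inclusion le_sup_left x) =
                Subgroup.inclusion le_sup_left ((a ^ k) x) from Subtype.ext (ihk.1 x)]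
            exact hψ₁ _
          · rw [pow_succ', MulAut.mul_apply, show (b ^ k) (Subgroup.inclusion le_sup_right t) =
              Subgroup.inclusion le_sup_right t from Subtype.ext (ihk.2 t)]
            exact hψ₂ _
      obtain ⟨i, hi⟩ := hk'
      have hb1 : b ^ p ^ i = 1 := by
        refine MulEquiv.ext fun z => Subtype.ext ?_
        refine H87.eq_on_sup (f := (P ⊔ U').subtype.comp (b ^ p ^ i).toMonoidHom)
          (g := (P ⊔ U').subtype) (fun x => ?_) (fun t => (hbk _).2 t) z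
        refine ((hbk _).1 x).trans ?_
        rw [← hi, pow_orderOf_eq_one]
        rfl
      obtain ⟨j, -, hj⟩ := (Nat.dvd_prime_pow Fact.out).1 (orderOf_dvd_of_pow_eq_one hb1)
      have hbD := H86.pElement_common hS hX.1 hD.1 hPU hb ⟨j, hj⟩
      exact (H85.mem_autGroup hP.1).2 ⟨haX, ψ,
        H85.hom_congr ((H85.mem_autGroup hPU).1 hbD) fun _ => rfl, hψ₁, hψ₂⟩
    · have hεW : ε ∈ W.autGroup U :=
        (H86.primeData_minSysCl).cl ε hε P hP h.1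
      obtain ⟨ψ, hψ, hψ₁, hψ₂⟩ := hk.exists_ext_left ((H85.mem_autGroup le_rfl).1 hεW)
      have hψX : ψ ∈ (pairSys hc').Hom (U ⊔ U') := (hincl _).le hψ
      have hTU : U₁ ⊔ U₂ ≤ U ⊔ U' := hUU.ge
      have hψT := H85.restrict hψX hTU
      have hr : (ψ.comp (Subgroup.inclusion hTU)).range = U₁ ⊔ U₂ :=
        H86.range_eq_self_of_le (pairSys hc') hψT (H85.range_le hψT)
      let b := H86.autOfHom _ ((pairSys hc').injective_of_mem hψT) hr
      have hb : b ∈ (pairSys hc').autGroup (U₁ ⊔ U₂) := H86.autOfHom_mem _ hψT hr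
      have hPU : P ⊔ U' ≤ U₁ ⊔ U₂ := hUU ▸ sup_le_sup_right hP.1 _
      have : Finite P := H85.finite_of_le hP.1
      have hXc : (pairSys hc').IsCentric (P ⊔ U') := by
        refine ⟨hPU, fun R ⟨χ, hχ, hχr⟩ => ?_⟩
        let φ₀ : P →* Ω := χ.comp (Subgroup.inclusion le_sup_left)
        have hφ₀ : φ₀ ∈ W.Hom P := hk.mem_left
          ((hincl P).ge (H85.restrict (F := pairSys hc') hχ le_sup_left)) hP.1
        let χ' : U' →* Ω := χ.comp (Subgroup.inclusion le_sup_right)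
        have hχ' : χ' ∈ W'.Hom U' := hk.mem_right
          ((hincl U').ge (H85.restrict (F := pairSys hc') hχ le_sup_right)) le_rfl
        have hr' : χ'.range = U' := H86.range_eq_self_of_le W' hχ' (H85.range_le hχ')
        intro y hy
        rw [← hχr] at hy ⊢
        obtain ⟨u, hu, v, hv, rfl⟩ := mem_sup_comm hk.comm (hTU hy.1)
        refine χ.range.mul_mem ?_ ?_
        · have h1 : u ∈ φ₀.range := hP.2 φ₀.range ⟨φ₀, hWsub _ hφ₀, rfl⟩
            (H85.mem_centralizerIn.2 ⟨hu, by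
              rintro _ ⟨x, rfl⟩
              have h2 : φ₀ x * (u * v) = u * v * φ₀ x :=
                (H85.mem_centralizerIn.1 hy).2 _ ⟨_, rfl⟩
              rw [← mul_assoc, mul_assoc u v, ← hk.comm _ (H85.map_mem hφ₀ x) v hv,
                ← mul_assoc] at h2
              exact mul_right_cancel h2⟩)
          obtain ⟨x, hx⟩ := h1
          exact ⟨_, hx⟩
        · obtain ⟨t, ht⟩ := hr'.ge hv
          exact ⟨_, ht⟩
      obtain ⟨a, ha, ha₁, ha₂⟩ := h.2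
      have hres : (H86.dmap b).comp (Subgroup.inclusion hXc.1) ∈ D.Hom (P ⊔ U') := by
        refine H85.hom_congr ha fun z => ?_
        refine H87.eq_on_sup (f := a)
          (g := (H86.dmap b).comp (Subgroup.inclusion hXc.1)) (fun x => ?_) (fun t => ?_) z
        · exact (ha₁ x).trans (((congrArg ψ (Subtype.ext rfl)).trans
            (hψ₁ ⟨(x : Ω), hP.1 x.2⟩)).symm)
        · exact (ha₂ t).trans (((congrArg ψ (Subtype.ext rfl)).trans (hψ₂ t)).symm)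
      have hbD := H86.mem_autGroup_of_restrict hS hX.1 hD.1 hb hXc hres
      exact (H85.mem_autGroup le_rfl).2 ⟨(H85.mem_autGroup le_rfl).1 hεW, _,
        H85.restrict ((H85.mem_autGroup le_rfl).1 hbD) hUU.le,
        fun x => (congrArg ψ (Subtype.ext rfl)).trans (hψ₁ x),
        fun t => (congrArg ψ (Subtype.ext rfl)).trans (hψ₂ t)⟩
  rintro φ ⟨P₁, P₂, φ₁, φ₂, k₁, k₂, -, -, hf⟩
  obtain ⟨a₁, ha₁, e₁, f₁⟩ := key hc' hp₁ hV₁.1 rfl (fun _ => rfl) P₁ φ₁ k₁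
  obtain ⟨a₂, ha₂, e₂, f₂⟩ := key hc'.swap hp₂ hV₂.1 (sup_comm U₂ U₁)
    (fun Q => Set.ext fun g => ⟨pairHom_swap (fun a ha b hb => (hcomm b hb a ha).symm),
      pairHom_swap hcomm⟩) P₂ φ₂ k₂
  have l₁ : P₁ ⊔ P₂ ≤ P₁ ⊔ U₂ := sup_le_sup_left (H85.source_le k₂) _
  have hm : ∀ z, a₁.comp (Subgroup.inclusion l₁) z ∈ P₂ ⊔ U₁ := H87.mapsTo_sup
    (fun x => Subgroup.mem_sup_right (by
      show a₁ (Subgroup.inclusion le_sup_left x) ∈ U₁
      rw [e₁]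
      exact H85.map_mem k₁ x))
    fun y => Subgroup.mem_sup_left (by
      show a₁ (Subgroup.inclusion l₁ (Subgroup.inclusion le_sup_right y)) ∈ P₂
      rw [show a₁ (Subgroup.inclusion l₁ (Subgroup.inclusion le_sup_right y)) = (y : Ω) from
        (congrArg a₁ (Subtype.ext rfl)).trans (f₁ ⟨y, H85.source_le k₂ y.2⟩)]
      exact y.2)
  have hcomp := D.comp_mem (H85.restrict ha₁ l₁) ha₂ hm
  have hle : P ≤ P₁ ⊔ P₂ := fun y hy => by
    obtain ⟨a, b, hy', -⟩ := hf ⟨y, hy⟩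
    rw [show y = a * b from hy']
    exact Subgroup.mul_mem_sup a.2 b.2
  refine H85.hom_congr (H85.restrict hcomp hle) fun x => ?_
  obtain ⟨a, b, hx, hv⟩ := hf x
  rw [hv, MonoidHom.comp_apply, show Subgroup.inclusion hle x =
    Subgroup.inclusion le_sup_left a * Subgroup.inclusion le_sup_right b from Subtype.ext hx,
    map_mul]
  congr 1
  · refine ((congrArg a₂ (Subtype.ext ?_)).trans (f₂ ⟨φ₁ a, H85.map_mem k₁ a⟩))
    exact e₁ a
  · refine ((congrArg a₂ (Subtype.ext ?_)).trans (e₂ b))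
    exact f₁ ⟨b, H85.source_le k₂ b.2⟩

end Split

section Base

variable {T₁ T₂ : Subgroup Ω} [Finite T₁] [Finite T₂] {E₁ : FusionSystem T₁}
  {E₂ : FusionSystem T₂}

theorem CommPair.exists_factor_swap (hc : CommPair E₁ E₂) {P : Subgroup Ω} {φ : P →* Ω}
    (hφ : φ ∈ pairHom E₁ E₂ P) : φ ∈ pairHom E₂ E₁ P := pairHom_swap hc.comm hφ

/-- If the first group is central the hyperfocal subgroup lies in the second. -/
theorem hyperfocal_le_right (hc : CommPair E₁ E₂) [Finite ↥(T₁ ⊔ T₂)] (h : T₁ ≤ (pairSys hc).center) :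
    (pairSys hc).hyperfocalSubgroup p ≤ T₂ := by
  rw [hyperfocalSubgroup, Subgroup.closure_le]
  rintro _ ⟨P, α, x, hP, -, rfl⟩
  obtain ⟨P₁, P₂, φ₁, φ₂, k₁, k₂, -, -, hf⟩ := (H85.mem_autGroup hP).1 α.2
  obtain ⟨a, b, hx, hv⟩ := hf x
  have ha : φ₁ a = a := H89.center_fix (hc.le_left P₁ k₁) a.2 (h (H85.source_le k₁ a.2))
  show (x : Ω)⁻¹ * (((α : MulAut P) x : P) : Ω) ∈ T₂
  rw [show (((α : MulAut P) x : P) : Ω) = φ₁ a * φ₂ b from hv, ha, hx, mul_inv_rev, mul_assoc,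
    inv_mul_cancel_left]
  exact T₂.mul_mem (T₂.inv_mem (H85.source_le k₂ b.2)) (H85.map_mem k₂ b)

/-- A quasisimple central product is one of its factors. -/
theorem eq_factor_of_quasisimple (hc : CommPair E₁ E₂) (hS : IsPGroup p ↥(T₁ ⊔ T₂))
    [Finite ↥(T₁ ⊔ T₂)] (hq : (pairSys hc).Quasisimple p) :
    H89.SameSys E₁ (pairSys hc) ∨ H89.SameSys E₂ (pairSys hc) := by
  obtain ⟨hF, hhyp, hsimple⟩ := id hq
  set F := pairSys hc with hFdef
  have one : ∀ {U U' : Subgroup Ω}, F.StronglyClosed U → F.StronglyClosed U' →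
      (∀ a ∈ U, ∀ b ∈ U', a * b = b * a) → U ⊔ U' = T₁ ⊔ T₂ →
      U ≤ F.center ∨ T₁ ⊔ T₂ ≤ U ⊔ F.center := by
    intro U U' hU hU' hcm hUU
    have hsc := H87.stronglyClosed_center F
    obtain ⟨E, hE⟩ := Cfsg.Agent.S5132.result p hS F F.center hsc
    obtain ⟨hEs, hne, hnorm⟩ := hsimple E hE
    set θ := QuotientGroup.mk' (F.center.subgroupOf (T₁ ⊔ T₂)) with hθ
    have : Finite (⊤ : Subgroup (↥(T₁ ⊔ T₂) ⧸ F.center.subgroupOf (T₁ ⊔ T₂))) := Subtype.finite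
    have hSq : IsPGroup p (⊤ : Subgroup (↥(T₁ ⊔ T₂) ⧸ F.center.subgroupOf (T₁ ⊔ T₂))) :=
      (hS.to_quotient _).of_equiv Subgroup.topEquiv.symm
    set V := imageAlong θ U with hV
    have hVc : E.StronglyClosed V := by
      refine ⟨le_top, fun P' hP' φ' hφ' y => ?_⟩
      obtain ⟨-, φ, hφ, hA, hB, hC, he⟩ := (hE.2.2.2 P' φ').1 hφ'
      obtain ⟨s, hs, hsy⟩ := H86.mem_imageAlong.1 (hP' y.2)
      have hsP : (s : Ω) ∈ preimageAlong θ P' :=
        H86.mem_preimageAlong.2 ⟨s.2, by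
          show θ s ∈ P'
          rw [hsy]
          exact y.2⟩
      rw [show y = (⟨θ ⟨(s : Ω), hA hsP⟩, hC ⟨s, hsP⟩⟩ : P') from Subtype.ext hsy.symm,
        he ⟨s, hsP⟩]
      exact H86.mem_imageAlong.2
        ⟨_, H86.map_mem_of_stronglyClosed hU hφ (x := ⟨s, hsP⟩) hs, rfl⟩
    have hsat := isSaturated_restrictSys hSq hEs hVc fun g _ => by
      obtain ⟨s, rfl⟩ := QuotientGroup.mk'_surjective (F.center.subgroupOf (T₁ ⊔ T₂)) g
      obtain ⟨a, ha, b, hb, hab⟩ := mem_sup_comm hcm (hUU.ge s.2)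
      refine ⟨θ ⟨a, hU.1 ha⟩, H86.mem_imageAlong.2 ⟨_, ha, rfl⟩, θ ⟨b, hU'.1 hb⟩, fun u hu => ?_, ?_⟩
      · obtain ⟨t, ht, rfl⟩ := H86.mem_imageAlong.1 hu
        rw [← map_mul, ← map_mul]
        exact congrArg θ (Subtype.ext (hcm t ht b hb))
      · rw [← map_mul]
        exact congrArg θ (Subtype.ext hab)
    have hwn := weaklyNormal_restrictSys hSq (weaklyNormal_self hEs) hVc hVc hsat
    rcases hnorm _ _ (H86.residual_normal hSq hwn) with h | ⟨h, -⟩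
    · left
      intro u hu
      refine (hE.2.1 ⟨u, hU.1 hu⟩).1 (Subgroup.mem_bot.1 ?_)
      rw [← h]
      exact H86.mem_imageAlong.2 ⟨_, hu, rfl⟩
    · right
      intro x hx
      obtain ⟨s, hs, hsx⟩ := H86.mem_imageAlong.1 (h.ge (Subgroup.mem_top (θ ⟨x, hx⟩)))
      have h1 := (hE.2.1 (s⁻¹ * ⟨x, hx⟩)).1 (by rw [map_mul, map_inv, hsx, inv_mul_cancel])
      have h2 := Subgroup.mul_mem_sup hs h1
      rwa [Subgroup.coe_mul, Subgroup.coe_inv, mul_inv_cancel_left] at h2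
  have hcases : ∀ {U : Subgroup Ω} {W : FusionSystem U}, U ≤ T₁ ⊔ T₂ →
      F.hyperfocalSubgroup p ≤ U → W.IsSubsystemOf F →
      (∀ (P : Subgroup Ω) (φ : P →* Ω), φ ∈ F.Hom P → P ≤ U → φ ∈ W.Hom P) →
      H89.SameSys W F := by
    intro U W hU hh hsub hmem
    obtain rfl : U = T₁ ⊔ T₂ := le_antisymm hU (hhyp.ge.trans hh)
    exact ⟨rfl, fun P => Set.Subset.antisymm (hsub P)
      fun φ hφ => hmem P φ hφ (H85.source_le hφ)⟩
  rcases one hc.stronglyClosed_left hc.stronglyClosed_right hc.comm rfl with h1 | h1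
  · exact Or.inr (hcases le_sup_right (hyperfocal_le_right hc h1) hc.le_right
      fun P φ hφ hP => hc.mem_right hφ hP)
  rcases one hc.stronglyClosed_right hc.stronglyClosed_left
    (fun a ha b hb => (hc.comm b hb a ha).symm) (sup_comm T₂ T₁) with h2 | h2
  · refine Or.inl (hcases le_sup_left ?_ hc.le_left fun P φ hφ hP => hc.mem_left hφ hP)
    rw [hyperfocalSubgroup, Subgroup.closure_le]
    rintro _ ⟨P, α, x, hP, -, rfl⟩
    obtain ⟨P₁, P₂, φ₁, φ₂, k₁, k₂, -, -, hf⟩ := (H85.mem_autGroup hP).1 α.2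
    obtain ⟨a, b, hx, hv⟩ := hf x
    have hb : φ₂ b = b := H89.center_fix (hc.le_right P₂ k₂) b.2 (h2 (H85.source_le k₂ b.2))
    show (x : Ω)⁻¹ * (((α : MulAut P) x : P) : Ω) ∈ T₁
    have hcb : ∀ u ∈ T₁, (b : Ω) * u = u * b := fun u hu =>
      (hc.comm u hu b (H85.source_le k₂ b.2)).symm
    rw [show (((α : MulAut P) x : P) : Ω) = φ₁ a * φ₂ b from hv, hb, hx, mul_inv_rev,
      ← hcb _ (H85.map_mem k₁ a), mul_assoc, ← mul_assoc (a : Ω)⁻¹,
      ← hcb _ (T₁.inv_mem (H85.source_le k₁ a.2)), mul_assoc, inv_mul_cancel_left]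
    exact T₁.mul_mem (T₁.inv_mem (H85.source_le k₁ a.2)) (H85.map_mem k₁ a)
  exfalso
  refine H87.not_isMulCommutative_of_quasisimple hS F hq ⟨⟨fun x y => Subtype.ext ?_⟩⟩
  have hcz : ∀ z ∈ F.center, ∀ w ∈ T₁ ⊔ T₂, w * z = z * w := fun z hz w hw =>
    Subgroup.mem_centralizer_iff.1 (F.center_le_centralizer hz) w hw
  have hT₂ : T₂ ≤ Subgroup.centralizer ((T₁ ⊔ T₂ : Subgroup Ω) : Set Ω) := by
    intro b hb
    refine Subgroup.mem_centralizer_iff.2 fun w hw => ?_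
    exact (Subgroup.mem_centralizer_iff.1 (show b ∈ Subgroup.centralizer
      ((T₁ ⊔ F.center : Subgroup Ω) : Set Ω) by
        rw [Subgroup.mem_centralizer_iff]
        intro v hv
        have h3 : T₁ ⊔ F.center ≤ Subgroup.centralizer ({b} : Set Ω) := sup_le
          (fun a ha => Subgroup.mem_centralizer_singleton_iff.2 (hc.comm a ha b hb))
          (fun z hz => Subgroup.mem_centralizer_singleton_iff.2
            (hcz z hz b (Subgroup.mem_sup_right hb)).symm)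
        exact Subgroup.mem_centralizer_singleton_iff.1 (h3 hv)) w (h1 hw))
  have hT₁ : T₁ ≤ Subgroup.centralizer ((T₁ ⊔ T₂ : Subgroup Ω) : Set Ω) := by
    intro a ha
    refine Subgroup.mem_centralizer_iff.2 fun w hw => ?_
    have h3 : T₂ ⊔ F.center ≤ Subgroup.centralizer ({a} : Set Ω) := sup_le
      (fun b hb => Subgroup.mem_centralizer_singleton_iff.2 (hc.comm a ha b hb).symm)
      (fun z hz => Subgroup.mem_centralizer_singleton_iff.2
        (hcz z hz a (Subgroup.mem_sup_left ha)).symm)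
    exact Subgroup.mem_centralizer_singleton_iff.1 (h3 (h2 hw))
  exact Subgroup.mem_centralizer_iff.1 (sup_le hT₁ hT₂ y.2) x x.2

end Base

/-- A component of a system equal to a subsystem is a component of that subsystem. -/
theorem component_of_same {U S T : Subgroup Ω} {W : FusionSystem U} {F : FusionSystem S}
    (h : H89.SameSys W F) {C : FusionSystem T} (hC : C.IsComponentIn F p) :
    C.IsComponentIn W p := by
  obtain ⟨rfl, hh⟩ := h
  obtain rfl := H85.fusionSystem_ext hh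
  exact hC

theorem normal_of_same {U S R : Subgroup Ω} {W : FusionSystem U} {F : FusionSystem S}
    {G : FusionSystem R} (h : H89.SameSys W F) (hC : G.IsSubnormalIn W p) :
    G.IsSubnormalIn F p := by
  obtain ⟨rfl, hh⟩ := h
  obtain rfl := H85.fusionSystem_ext hh
  exact hC

/-- Either the system is the subsystem, or the latter is subnormal in a proper normal subsystem. -/
theorem exists_proper_normal {T S : Subgroup Ω} {C : FusionSystem T} {F : FusionSystem S}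
    (h : C.IsSubnormalIn F p) : H89.SameSys C F ∨ ∃ (U : Subgroup Ω) (D : FusionSystem U),
      D.IsNormalIn F p ∧ ¬ H89.SameSys D F ∧ C.IsSubnormalIn D p := by
  suffices main : ∀ {T S : Subgroup Ω} {C : FusionSystem T} {F : FusionSystem S} {q : ℕ},
      C.IsSubnormalIn F q → H89.SameSys C F ∨ ∃ (U : Subgroup Ω) (D : FusionSystem U),
        D.IsNormalIn F q ∧ ¬ H89.SameSys D F ∧ C.IsSubnormalIn D q from main h
  intro T S C F q h
  induction h with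
  | refl F q => exact Or.inl ⟨rfl, fun _ => rfl⟩
  | step hCD hDF ih =>
    rename_i D F _
    by_cases hs : H89.SameSys D F
    · obtain ⟨rfl, hh⟩ := hs
      obtain rfl := H85.fusionSystem_ext hh
      exact ih
    · exact Or.inr ⟨_, _, hDF, hs, hCD⟩

/-- A component of a central product is a component of a factor. -/
theorem component_in_factor {S₁ S₂ : Subgroup Ω} [Finite S₁] [Finite S₂] {F₁ : FusionSystem S₁}
    {F₂ : FusionSystem S₂} (hc : CommPair F₁ F₂) [Finite ↥(S₁ ⊔ S₂)]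
    (hS : IsPGroup p ↥(S₁ ⊔ S₂)) (hF : (pairSys hc).IsSaturated p) (h₁ : F₁.IsSaturated p)
    (h₂ : F₂.IsSaturated p) {T : Subgroup Ω} {C : FusionSystem T}
    (hC : C.IsComponentIn (pairSys hc) p) : C.IsComponentIn F₁ p ∨ C.IsComponentIn F₂ p := by
  suffices main : ∀ (w : ℕ) (S₁ S₂ : Subgroup Ω) [Finite S₁] [Finite S₂]
      (F₁ : FusionSystem S₁) (F₂ : FusionSystem S₂) (hc : CommPair F₁ F₂) [Finite ↥(S₁ ⊔ S₂)],
      H87.weight (pairSys hc) = w → IsPGroup p ↥(S₁ ⊔ S₂) → (pairSys hc).IsSaturated p →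
      F₁.IsSaturated p → F₂.IsSaturated p → C.IsComponentIn (pairSys hc) p →
      C.IsComponentIn F₁ p ∨ C.IsComponentIn F₂ p from
    main _ S₁ S₂ F₁ F₂ hc rfl hS hF h₁ h₂ hC
  intro w
  induction w using Nat.strong_induction_on with
  | _ w ih =>
  intro S₁ S₂ _ _ F₁ F₂ hc _ hw hS hF h₁ h₂ hC
  rcases exists_proper_normal hC.1 with hsame | ⟨U, D, hDn, hne, hCD⟩
  · have hq : (pairSys hc).Quasisimple p := by
      obtain ⟨rfl, hh⟩ := hsame
      obtain rfl := H85.fusionSystem_ext hh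
      exact hC.2
    rcases eq_factor_of_quasisimple hc hS hq with h | h
    · exact Or.inl (component_of_same h hC)
    · exact Or.inr (component_of_same h hC)
  · have hUS := hDn.1.2.2.2.1.1
    have : Finite U := H85.finite_of_le hUS
    have hTS := (H87.fullyNormalized_of_subnormal hC.1 hS hF).1
    have : Finite T := H85.finite_of_le hTS
    obtain ⟨U', D', hp, hsub, hCD', hn⟩ := exists_perfect_of_subnormal (hS.to_le hUS) hCD
      (perfect_of_quasisimple (hS.to_le hTS) hC.2)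
    have hD'n := hn _ hS hDn.1
    obtain ⟨U₁, U₂, W₁, W₂, m₁, m₂, hc', hUU, hD'⟩ := exists_split hc hS h₁ h₂ hD'n hp
    subst hUU
    have hle := hD'n.1.2.2.2.1.1
    have : Finite U₁ := H85.finite_of_le (le_sup_left.trans hle)
    have : Finite U₂ := H85.finite_of_le (le_sup_right.trans hle)
    have : Finite ↥(U₁ ⊔ U₂) := H85.finite_of_le hle
    obtain rfl : D' = pairSys hc' := H85.fusionSystem_ext hD'
    obtain ⟨P, φ, hφ, hφn⟩ := H89.exists_map_notMem hDn.1.2.2.1 hne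
    have hlt : H87.weight (pairSys hc') < H87.weight (pairSys hc) :=
      H87.weight_lt (fun P ψ h => hDn.1.2.2.1 P (hsub P h)) hφ fun h => hφn (hsub P h)
    rcases ih _ (hw ▸ hlt) U₁ U₂ W₁ W₂ hc' rfl (hS.to_le hle) hp.1 m₁.1.1 m₂.1.1 ⟨hCD', hC.2⟩
      with h | h
    · exact Or.inl (H89.component_of_subnormal h (.step (.refl W₁ p) m₁))
    · exact Or.inr (H89.component_of_subnormal h (.step (.refl W₂ p) m₂))

end H75.Fus
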