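import Cfsg.Agent.H75.CentralPair
import Cfsg.Agent.H86.Level
import Cfsg.Agent.H86.Invariant
import Cfsg.Agent.H86.CentralizerNormal
import Cfsg.Agent.H85.Normal

/-!
The system generated by two commuting normal subsystems is normal.
-/

set_option autoImplicit false
set_option linter.unusedSectionVars false

open Cfsg Cfsg.FusionSystem

namespace H75.Fus

variable {Ω : Type*} [Group Ω] {S T₁ T₂ : Subgroup Ω} [Finite S] [Finite T₁] [Finite T₂]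
  {p : ℕ} [Fact p.Prime] {F : FusionSystem S} {E₁ : FusionSystem T₁} {E₂ : FusionSystem T₂}

theorem CommPair.swap (hc : CommPair E₁ E₂) : CommPair E₂ E₁ :=
  ⟨fun a ha b hb => (hc.comm b hb a ha).symm, inf_comm T₁ T₂ ▸ hc.central₂,
    inf_comm T₁ T₂ ▸ hc.central₁⟩

theorem CommPair.le_centralizerIn (hc : CommPair E₁ E₂) (hT₂ : T₂ ≤ S) :
    T₂ ≤ centralizerIn S T₁ := fun b hb =>
  H85.mem_centralizerIn.2 ⟨hT₂ hb, fun a ha => hc.comm a ha b hb⟩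

theorem inf_le_centralizer (hc : CommPair E₁ E₂) :
    T₁ ⊓ T₂ ≤ Subgroup.centralizer (T₁ ⊔ T₂ : Set Ω) := by
  intro z hz
  refine Subgroup.mem_centralizer_iff.2 ?_
  rintro x hx
  rcases hx with hx | hx
  · exact hc.comm x hx z hz.2
  · exact (hc.comm z hz.1 x hx).symm

theorem inf_comm_mem (hc : CommPair E₁ E₂) {z x : Ω} (hz : z ∈ T₁ ⊓ T₂) (hx : x ∈ T₁ ⊔ T₂) :
    x * z = z * x := by
  obtain ⟨a, ha, b, hb, rfl⟩ := mem_sup_comm hc.comm hx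
  rw [mul_assoc, show b * z = z * b from (hc.comm z hz.1 b hb).symm, ← mul_assoc,
    hc.comm a ha z hz.2, mul_assoc]

/-- The other subgroup is centralized by the first subsystem. -/
theorem le_centE_other (hS : IsPGroup p S) (hc : CommPair E₁ E₂) (n₁ : E₁.IsNormalIn F p)
    (hT₂ : F.StronglyClosed T₂) : T₂ ≤ H86.centE p F E₁ := by
  intro c hc₂
  refine ⟨hc.le_centralizerIn hT₂.1 hc₂, fun P hP a ha hao f hf hft hfo hfe x hx => ?_⟩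
  have hPS : P ≤ S := hP.1.trans n₁.1.2.2.2.1.1
  have hXS : H86.pc S P ≤ S := H86.pc_le hPS
  have : Finite (H86.pc S P) := H85.finite_of_le hXS
  have hfx : (f x : Ω) ∈ T₂ :=
    H86.map_mem_of_stronglyClosed hT₂ ((H85.mem_autGroup hXS).1 hf) (x := x) (hx ▸ hc₂)
  set u := x⁻¹ * f x with hu
  have huP : (u : Ω) ∈ P := hft x
  have huZ : (u : Ω) ∈ T₁ ⊓ T₂ :=
    ⟨hP.1 huP, T₂.mul_mem (T₂.inv_mem (hx ▸ hc₂)) hfx⟩
  have hau : ((a ⟨(u : Ω), huP⟩ : P) : Ω) = u :=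
    hc.fix₁ ((H85.mem_autGroup hP.1).1 ha) huZ huP
  have hfu : f u = u := Subtype.ext ((hfe ⟨(u : Ω), huP⟩).trans hau)
  have hn : ∀ n : ℕ, (f ^ n) x = x * u ^ n := by
    intro n
    induction n with
    | zero => simp
    | succ n ih =>
      rw [pow_succ', MulAut.mul_apply, ih, map_mul, map_pow, hfu, pow_succ', ← mul_assoc]
      congr 1
      rw [hu, mul_inv_cancel_left]
  have h1 : u ^ orderOf f = 1 := by
    have := hn (orderOf f)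
    rwa [pow_orderOf_eq_one, MulAut.one_apply, left_eq_mul] at this
  obtain ⟨k, hk⟩ := (hS.to_le hXS) u
  have h2 : orderOf u = 1 := Nat.eq_one_of_dvd_coprimes (Nat.Coprime.pow_right k hfo)
    (orderOf_dvd_of_pow_eq_one h1) (orderOf_dvd_of_pow_eq_one hk)
  have h3 : u = 1 := orderOf_eq_one_iff.1 h2
  exact (eq_of_inv_mul_eq_one (hu ▸ h3)).symm

/-- Maps of `E₁` extend over the other subgroup fixing it. -/
theorem exists_ext_other (hS : IsPGroup p S) (hc : CommPair E₁ E₂) (n₁ : E₁.IsNormalIn F p)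
    (hT₂ : F.StronglyClosed T₂) {P : Subgroup Ω} {φ : P →* Ω} (hφ : φ ∈ E₁.Hom P) :
    ∃ ψ ∈ F.Hom (P ⊔ T₂), (∀ x : P, ψ (Subgroup.inclusion le_sup_left x) = φ x) ∧
      ∀ t : T₂, ψ (Subgroup.inclusion le_sup_right t) = t :=
  (H86.cent_mono (H86.cent_centE hS n₁) (le_centE_other hS hc n₁ hT₂) P hφ).2.2.2

/-- The product of two commuting strongly closed subgroups is strongly closed. -/
theorem stronglyClosed_sup_comm (hS : IsPGroup p S) (hF : F.IsSaturated p)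
    (hcomm : ∀ a ∈ T₁, ∀ b ∈ T₂, a * b = b * a) (h₁ : F.StronglyClosed T₁)
    (h₂ : F.StronglyClosed T₂) : F.StronglyClosed (T₁ ⊔ T₂) := by
  refine ⟨sup_le h₁.1 h₂.1, fun R hR φ hφ x => ?_⟩
  obtain ⟨ψ, hψ, hs⟩ := H86.exists_lift hS hF h₁ hφ
  obtain ⟨s, hs₁, he⟩ := hs x
  obtain ⟨a, ha, b, hb, hx⟩ := mem_sup_comm hcomm (hR x.2)
  have haD : a ∈ R ⊔ T₁ := Subgroup.mem_sup_right ha
  have hbD : b ∈ R ⊔ T₁ := by
    rw [← inv_mul_cancel_left a b, hx]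
    exact mul_mem (inv_mem haD) (Subgroup.mem_sup_left x.2)
  rw [he, show Subgroup.inclusion le_sup_left x = (⟨a, haD⟩ : ↥(R ⊔ T₁)) * ⟨b, hbD⟩ from
    Subtype.ext hx.symm, map_mul]
  refine mul_mem (mul_mem ?_ ?_) (Subgroup.mem_sup_left hs₁)
  · exact Subgroup.mem_sup_left (H86.map_mem_of_stronglyClosed h₁ hψ (x := ⟨a, haD⟩) ha)
  · exact Subgroup.mem_sup_right (H86.map_mem_of_stronglyClosed h₂ hψ (x := ⟨b, hbD⟩) hb)

/-- The pair system is contained in `F`. -/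
theorem pairSys_le (hS : IsPGroup p S) (hc : CommPair E₁ E₂) (n₁ : E₁.IsNormalIn F p)
    (n₂ : E₂.IsNormalIn F p) : (pairSys hc).IsSubsystemOf F := by
  rintro P φ ⟨P₁, P₂, φ₁, φ₂, h₁, h₂, hP₁, hP₂, hf⟩
  obtain ⟨ψ₁, hψ₁, e₁, f₁⟩ := exists_ext_other hS hc n₁ n₂.1.2.2.2.1 h₁
  obtain ⟨ψ₂, hψ₂, e₂, f₂⟩ := exists_ext_other hS hc.swap n₂ n₁.1.2.2.2.1 h₂
  have hl : P₁ ⊔ P₂ ≤ P₁ ⊔ T₂ := sup_le_sup_left (H85.source_le h₂) _
  have hm : ∀ z : ↥(P₁ ⊔ P₂), ψ₁ (Subgroup.inclusion hl z) ∈ P₂ ⊔ T₁ :=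
    H87.mapsTo_sup (φ := ψ₁.comp (Subgroup.inclusion hl))
      (fun a => (e₁ a).symm ▸ Subgroup.mem_sup_right (H85.map_mem h₁ a))
      (fun b => (f₁ ⟨b, H85.source_le h₂ b.2⟩).symm ▸ Subgroup.mem_sup_left b.2)
  have hcomp := F.comp_mem (H85.restrict hψ₁ hl) hψ₂ hm
  have hPle : P ≤ P₁ ⊔ P₂ := fun x hx => by
    obtain ⟨a, b, hx', -⟩ := hf ⟨x, hx⟩
    rw [show x = a * b from hx']
    exact Subgroup.mul_mem_sup a.2 b.2
  refine H85.hom_congr (H85.restrict hcomp hPle) fun x => ?_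
  obtain ⟨a, b, hx, hv⟩ := hf x
  rw [hv]
  have ha : (a : Ω) ∈ P₁ ⊔ P₂ := Subgroup.mem_sup_left a.2
  have hb : (b : Ω) ∈ P₁ ⊔ P₂ := Subgroup.mem_sup_right b.2
  set χ := ψ₂.comp ((ψ₁.comp (Subgroup.inclusion hl)).codRestrict (P₂ ⊔ T₁) hm) with hχ
  show χ (Subgroup.inclusion hPle x) = _
  rw [show Subgroup.inclusion hPle x = (⟨a, ha⟩ : ↥(P₁ ⊔ P₂)) * ⟨b, hb⟩ from Subtype.ext hx,
    map_mul]
  congr 1
  · refine Eq.trans ?_ (f₂ ⟨φ₁ a, H85.map_mem h₁ a⟩)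
    exact congrArg ψ₂ (Subtype.ext (e₁ a))
  · refine Eq.trans ?_ (e₂ b)
    exact congrArg ψ₂ (Subtype.ext (f₁ ⟨b, H85.source_le h₂ b.2⟩))

/-- An automorphism of the join restricts to a strongly closed part. -/
theorem exists_aut_part {T R : Subgroup Ω} (hT : T ≤ S) (hR : F.StronglyClosed R) (hRT : R ≤ T)
    {δ : MulAut T} (hδ : δ ∈ F.autGroup T) :
    ∃ δ' ∈ F.autGroup R, ∀ x : R, (δ' x : Ω) = δ (Subgroup.inclusion hRT x) := by
  have : Finite R := H85.finite_of_le hR.1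
  have hd := H85.restrict ((H85.mem_autGroup hT).1 hδ) hRT
  have hr := H86.range_eq_self_of_le F hd (by
    rintro _ ⟨x, rfl⟩
    exact hR.2 R le_rfl _ hd x)
  exact ⟨_, H86.autOfHom_mem F hd hr, fun x => rfl⟩

/-- Automorphisms of the join in `F` normalize the pair system. -/
theorem normAut_pairSys (hc : CommPair E₁ E₂) (n₁ : E₁.IsNormalIn F p) (n₂ : E₂.IsNormalIn F p)
    {δ : MulAut ↥(T₁ ⊔ T₂)} (hδ : δ ∈ F.autGroup (T₁ ⊔ T₂)) :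
    H86.NormAut (pairSys hc) δ := by
  intro P φ hφ
  obtain ⟨P₁, P₂, φ₁, φ₂, h₁, h₂, hP₁, hP₂, hf⟩ := id hφ
  have hsc₁ := n₁.1.2.2.2.1
  have hsc₂ := n₂.1.2.2.2.1
  have hTS : T₁ ⊔ T₂ ≤ S := sup_le hsc₁.1 hsc₂.1
  obtain ⟨d₁, hd₁, e₁⟩ := exists_aut_part hTS hsc₁ le_sup_left hδ
  obtain ⟨d₂, hd₂, e₂⟩ := exists_aut_part hTS hsc₂ le_sup_right hδ
  obtain ⟨χ₁, hχ₁, c₁⟩ :=
    H86.strongInv_aut (H86.strongInv_of_invariant n₁.1.2.2) hsc₁.1 hd₁ h₁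
  obtain ⟨χ₂, hχ₂, c₂⟩ :=
    H86.strongInv_aut (H86.strongInv_of_invariant n₂.1.2.2) hsc₂.1 hd₂ h₂
  have hPT : P ≤ T₁ ⊔ T₂ := (pairSys hc).le_of_mem hφ |>.1
  have hφT : ∀ x : P, φ x ∈ T₁ ⊔ T₂ := (pairSys hc).le_of_mem hφ |>.2
  have hle : H85.img (H86.dmap δ) P ≤ T₁ ⊔ T₂ := fun y hy => by
    obtain ⟨w, -, hw⟩ := H85.mem_img.1 hy
    exact hw ▸ (δ w).2
  let pull : H85.img (H86.dmap δ) P →* Ω :=
    ((T₁ ⊔ T₂).subtype.comp δ.symm.toMonoidHom).comp (Subgroup.inclusion hle)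
  have hback : ∀ y, pull y ∈ P := by
    rintro ⟨y, hy⟩
    obtain ⟨w, hw, rfl⟩ := H85.mem_img.1 hy
    show (δ.symm (δ w) : Ω) ∈ P
    rw [MulEquiv.symm_apply_apply]
    exact hw
  let χ : H85.img (H86.dmap δ) P →* Ω :=
    ((H86.dmap δ).comp (φ.codRestrict (T₁ ⊔ T₂) hφT)).comp (pull.codRestrict P hback)
  have hval : ∀ (x : P) (hx : ((δ ⟨x, hPT x.2⟩ : ↥(T₁ ⊔ T₂)) : Ω) ∈ H85.img (H86.dmap δ) P),
      χ ⟨_, hx⟩ = ((δ ⟨φ x, hφT x⟩ : ↥(T₁ ⊔ T₂)) : Ω) := by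
    intro x hx
    have e : pull.codRestrict P hback ⟨_, hx⟩ = x := Subtype.ext (congrArg Subtype.val
      (MulEquiv.symm_apply_apply δ ⟨x, hPT x.2⟩) :)
    show H86.dmap δ ((φ.codRestrict (T₁ ⊔ T₂) hφT) (pull.codRestrict P hback ⟨_, hx⟩)) = _
    rw [e]
    rfl
  refine ⟨χ, hc.mem_pairHom hχ₁ hχ₂ ?_, hval⟩
  rintro ⟨y, hy⟩
  obtain ⟨w, hw, rfl⟩ := H85.mem_img.1 hy
  obtain ⟨a, b, hx, hv⟩ := hf ⟨w, hw⟩
  have ha : (a : Ω) ∈ T₁ := H85.source_le h₁ a.2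
  have hb : (b : Ω) ∈ T₂ := H85.source_le h₂ b.2
  refine ⟨⟨_, ⟨⟨a, ha⟩, a.2, rfl⟩⟩, ⟨_, ⟨⟨b, hb⟩, b.2, rfl⟩⟩, ?_, ?_⟩
  · show (δ w : Ω) = (d₁ ⟨a, ha⟩ : Ω) * (d₂ ⟨b, hb⟩ : Ω)
    rw [e₁, e₂, ← Subgroup.coe_mul, ← map_mul]
    exact congrArg (fun v => (δ v : Ω)) (Subtype.ext hx)
  · refine Eq.trans (hval ⟨w, hw⟩ hy) ?_
    refine Eq.trans ?_ (congrArg₂ (· * ·) (c₁ a ⟨⟨a, ha⟩, a.2, rfl⟩).symm
      (c₂ b ⟨⟨b, hb⟩, b.2, rfl⟩).symm)
    rw [e₁, e₂, ← Subgroup.coe_mul, ← map_mul]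
    exact congrArg (fun v => (δ v : Ω)) (Subtype.ext hv)

/-- Every map of `F` on subgroups of `T₁T₂` is a map of the pair system followed by an
automorphism of `T₁T₂`. -/
theorem frattini_pairSys (hS : IsPGroup p S) (hF : F.IsSaturated p) (hc : CommPair E₁ E₂)
    (n₁ : E₁.IsNormalIn F p) (n₂ : E₂.IsNormalIn F p) :
    ∀ (P : Subgroup Ω), P ≤ T₁ ⊔ T₂ → ∀ φ ∈ F.Hom P,
      ∃ α ∈ F.autGroup (T₁ ⊔ T₂), H86.Lev (pairSys hc) α P φ := by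
  have hsc₁ := n₁.1.2.2.2.1
  have hsc₂ := n₂.1.2.2.2.1
  have hTS : T₁ ⊔ T₂ ≤ S := sup_le hsc₁.1 hsc₂.1
  have hT := stronglyClosed_sup_comm hS hF hc.comm hsc₁ hsc₂
  have : Finite ↥(T₁ ⊔ T₂) := H85.finite_of_le hTS
  have hDF := pairSys_le hS hc n₁ n₂
  have hZT₁ : T₁ ⊓ T₂ ≤ T₁ := inf_le_left
  have hZsc : F.StronglyClosed (T₁ ⊓ T₂) := ⟨hZT₁.trans hsc₁.1, fun R hR φ hφ x =>
    ⟨hsc₁.2 R (hR.trans inf_le_left) φ hφ x, hsc₂.2 R (hR.trans inf_le_right) φ hφ x⟩⟩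
  have hZn : F.IsNormal (T₁ ⊓ T₂) := H85.isNormal_of_abelian hS hF hZsc
    ⟨⟨fun a b => Subtype.ext (inf_comm_mem hc b.2 (Subgroup.mem_sup_left a.2.1))⟩⟩
  have hNA : ∀ α ∈ F.autGroup (T₁ ⊔ T₂), H86.NormAut (pairSys hc) α :=
    fun α hα => normAut_pairSys hc n₁ n₂ hα
  refine H86.induction_within hS hF hT
    (fun P φ => ∃ α ∈ F.autGroup (T₁ ⊔ T₂), H86.Lev (pairSys hc) α P φ) ?_ ?_ ?_ ?_
  · rintro P Q φ h - - ⟨α, hα, hl⟩
    exact ⟨α, hα, hl.res h fun _ => rfl⟩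
  · rintro P Q Q' e e' - - - - - ⟨α, hα, hl⟩ ⟨α', hα', hl'⟩
    exact ⟨α' * α, mul_mem hα' hα, hl.comp hl' (hNA _ (inv_mem hα)) (fun x => (e x).2)
      fun _ => rfl⟩
  · rintro P Q e - - - ⟨α, hα, hl⟩
    exact ⟨α⁻¹, inv_mem hα, hl.inv (hNA _ hα) fun y => ⟨e.symm y, by simp, rfl⟩⟩
  intro U hUT hU ih a ha
  rcases eq_or_ne U (T₁ ⊔ T₂) with rfl | hne
  · exact ⟨a, ha, (H86.lev_aut a le_rfl).congr fun _ => rfl⟩
  have hUS := hU.1
  have : Finite U := H85.finite_of_le hUS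
  have haI : H85.IsFIso F a := (H85.mem_autGroup hUS).1 ha
  by_cases hZU : T₁ ⊓ T₂ ≤ U
  case neg =>
    obtain ⟨ψ, hψ, hext, -⟩ := hZn.2 U _ haI
    have hle : U ⊔ (T₁ ⊓ T₂) ≤ T₁ ⊔ T₂ := sup_le hUT (hZT₁.trans le_sup_left)
    have : Finite ↥(U ⊔ (T₁ ⊓ T₂)) := H85.finite_of_le (hle.trans hTS)
    have hbig : Nat.card U < Nat.card ↥(U ⊔ (T₁ ⊓ T₂)) := by
      refine lt_of_le_of_ne (Subgroup.card_le_of_le le_sup_left) fun h => hZU ?_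
      exact le_sup_right.trans (Subgroup.eq_of_le_of_card_ge le_sup_left h.ge).ge
    obtain ⟨α, hα, hl⟩ := ih _ hle hbig ψ hψ
    exact ⟨α, hα, hl.res le_sup_left fun x => (hext x).symm⟩
  obtain ⟨haut, hrec⟩ := H85.automized_receptive_of_fullyNormalized hS hF hU
  let V : Subgroup Ω := T₂ ⊓ (T₁ ⊔ U)
  by_cases hV : V ≤ U
  case neg =>
    have hVm : ∀ b ∈ V, ∃ a ∈ T₁, a * b ∈ U := by
      intro b hb
      have h1 : T₁ ≤ S := hsc₁.1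
      obtain ⟨x, hx, s, hs, hxs⟩ := H86.mem_sup_stronglyClosed hsc₁ hUS (sup_comm T₁ U ▸ hb.2)
      refine ⟨s⁻¹, T₁.inv_mem hs, ?_⟩
      have e : s * b = b * s := hc.comm s hs b hb.1
      have : s⁻¹ * b = x := by
        rw [inv_mul_eq_iff_eq_mul, ← mul_inv_eq_iff_eq_mul.2 hxs.symm, ← mul_assoc, e,
          mul_inv_cancel_right]
      exact this ▸ hx
    have hUV : U ≤ Subgroup.normalizer (V : Set Ω) := by
      intro u hu
      have : Finite V := H85.finite_of_le (inf_le_left.trans hsc₂.1)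
      refine H85.mem_normalizer_of_conj fun x hx => ⟨?_, ?_⟩
      · exact H86.normal_of_stronglyClosed F hsc₂ (hUS hu) hx.1
      · have hu' : u ∈ T₁ ⊔ U := Subgroup.mem_sup_right hu
        exact (T₁ ⊔ U).mul_mem ((T₁ ⊔ U).mul_mem hu' hx.2) ((T₁ ⊔ U).inv_mem hu')
    have hlt : U < U ⊔ V := lt_of_le_of_ne le_sup_left fun h => hV (h.ge.trans' le_sup_right)
    have hUVS : U ⊔ V ≤ S := sup_le hUS (inf_le_left.trans hsc₂.1)
    obtain ⟨n, hn, hnN, hnU⟩ := H86.exists_mem_normalizer_notMem hS hUVS hlt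
    rw [← SetLike.mem_coe, Subgroup.coe_mul_of_left_le_normalizer_right U V hUV] at hn
    obtain ⟨u, hu, g, hg, hug⟩ := hn
    have hgU : g ∉ U := fun h => hnU (hug ▸ U.mul_mem hu h)
    have hgN : g ∈ Subgroup.normalizer (U : Set Ω) := by
      rw [show g = u⁻¹ * n from (inv_mul_eq_iff_eq_mul.2 hug.symm).symm]
      exact mul_mem (inv_mem (Subgroup.le_normalizer hu)) hnN
    have hgS : g ∈ S := hsc₂.1 hg.1
    obtain ⟨a₀, ha₀, hx₀⟩ := hVm g hg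
    let x₀ : U := ⟨a₀ * g, hx₀⟩
    obtain ⟨a', ha', h, hh, hah⟩ := mem_sup_comm hc.comm (hUT (a x₀).2)
    -- the error terms
    let K : Subgroup (MulAut U) :=
      F.autGroup U ⊓
        { carrier := {k | (∀ x : U, (x : Ω)⁻¹ * k x ∈ T₁ ⊓ T₂) ∧
            ∀ x : U, (x : Ω) ∈ T₁ ⊓ T₂ → k x = x}
          one_mem' := ⟨fun x => by simp, fun x _ => rfl⟩
          mul_mem' := fun {k l} hk hl => ⟨fun x => by
            have h3 := mul_mem (hl.1 x) (hk.1 (l x))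
            rwa [mul_assoc, mul_inv_cancel_left] at h3, fun x hx => by
            rw [MulAut.mul_apply, hl.2 x hx, hk.2 x hx]⟩
          inv_mem' := fun {k} hk => ⟨fun x => by
            have h3 := inv_mem (hk.1 (k⁻¹ x))
            rwa [MulAut.apply_inv_self, mul_inv_rev, inv_inv] at h3, fun x hx => by
            conv_lhs => rw [← hk.2 x hx]
            exact MulAut.inv_apply_self _ _ _⟩ }
    have hKp : IsPGroup p K := by
      rintro ⟨k, -, hk₁, hk₂⟩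
      obtain ⟨j, hj⟩ := H85.aut_isPElement (hS.to_le hUS) k hk₂ hk₁
      exact ⟨j, Subtype.ext hj⟩
    have hKc : K ≤ autInducedBy S U := by
      obtain ⟨γ, hγ, hγc⟩ := H85.fullyAutomized_conj haut inf_le_left hKp
      intro k hk
      have hKn : γ⁻¹ * k * γ ∈ K := by
        have hγZ : ∀ x : U, (x : Ω) ∈ T₁ ⊓ T₂ → (γ x : Ω) ∈ T₁ ⊓ T₂ := fun x hx =>
          H86.map_mem_of_stronglyClosed hZsc ((H85.mem_autGroup hUS).1 hγ) (x := x) hx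
        have hγZ' : ∀ x : U, (x : Ω) ∈ T₁ ⊓ T₂ → (γ⁻¹ x : Ω) ∈ T₁ ⊓ T₂ := fun x hx =>
          H86.map_mem_of_stronglyClosed hZsc ((H85.mem_autGroup hUS).1 (inv_mem hγ)) (x := x) hx
        refine ⟨(F.autGroup U).mul_mem ((F.autGroup U).mul_mem ((F.autGroup U).inv_mem hγ) hk.1) hγ,
          fun x => ?_, fun x hx => ?_⟩
        · rw [MulAut.mul_apply, MulAut.mul_apply]
          have h3 := hγZ' ((γ x)⁻¹ * k (γ x)) (hk.2.1 (γ x))
          rwa [map_mul, map_inv, MulAut.inv_apply_self, Subgroup.coe_mul, Subgroup.coe_inv] at h3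
        · rw [MulAut.mul_apply, MulAut.mul_apply, hk.2.2 _ (hγZ x hx), MulAut.inv_apply_self]
      simpa [mul_assoc] using hγc _ hKn
    let cg : MulAut U := H85.conjAut S U ⟨g, hgS, hgN⟩
    have hcg : cg ∈ F.autGroup U := H85.autInducedBy_le_autGroup F hUS
      (H85.mem_autInducedBy.2 ⟨g, hgS, fun _ => rfl⟩)
    let c' : MulAut U := a * cg * a⁻¹
    have hc' : c' ∈ F.autGroup U := mul_mem (mul_mem ha hcg) (inv_mem ha)
    have haT : ∀ {R : Subgroup Ω}, F.StronglyClosed R → ∀ x : U, (x : Ω) ∈ R → (a x : Ω) ∈ R :=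
      fun hR x hx => H86.map_mem_of_stronglyClosed hR haI (x := x) hx
    have hkey : ∀ y : U, ((c' y : U) : Ω)⁻¹ * (h * (y : Ω) * h⁻¹) ∈ T₁ ⊓ T₂ := by
      intro y
      obtain ⟨z, rfl⟩ := a.surjective y
      have hcy : c' (a z) = a (cg z) := by
        show a (cg (a⁻¹ (a z))) = _
        rw [MulAut.inv_apply_self]
      rw [hcy]
      obtain ⟨az, haz, bz, hbz, hz⟩ := mem_sup_comm hc.comm (hUT z.2)
      have hcgv : ((cg z : U) : Ω) = az * (g * bz * g⁻¹) := by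
        show g * (z : Ω) * g⁻¹ = _
        rw [← hz, ← mul_assoc, ← hc.comm az haz g hg.1]
        group
      -- modulo `T₁`
      let d : U := (cg z)⁻¹ * (x₀ * z * x₀⁻¹)
      have hd : (d : Ω) ∈ T₁ := by
        have hw : g * bz * g⁻¹ ∈ T₂ := T₂.mul_mem (T₂.mul_mem hg.1 hbz) (T₂.inv_mem hg.1)
        have e : (d : Ω) = az⁻¹ * (a₀ * az * a₀⁻¹) := by
          show ((cg z : U) : Ω)⁻¹ * (a₀ * g * (z : Ω) * (a₀ * g)⁻¹) = _
          rw [hcgv, ← hz]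
          have e1 : a₀ * g * (az * bz) * (a₀ * g)⁻¹ =
              a₀ * az * (g * bz * g⁻¹) * a₀⁻¹ := by
            rw [mul_assoc a₀ g, ← mul_assoc g az, ← hc.comm az haz g hg.1]
            group
          have e2 : (g * bz * g⁻¹) * a₀⁻¹ = a₀⁻¹ * (g * bz * g⁻¹) :=
            (hc.comm _ (T₁.inv_mem ha₀) _ hw).symm
          have e3 : (g * bz * g⁻¹)⁻¹ * (az⁻¹ * (a₀ * az * a₀⁻¹)) =
              (az⁻¹ * (a₀ * az * a₀⁻¹)) * (g * bz * g⁻¹)⁻¹ :=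
            (hc.comm _ (T₁.mul_mem (T₁.inv_mem haz)
              (T₁.mul_mem (T₁.mul_mem ha₀ haz) (T₁.inv_mem ha₀))) _ (T₂.inv_mem hw)).symm
          rw [e1, mul_assoc (a₀ * az), e2, mul_inv_rev, ← mul_assoc (a₀ * az) a₀⁻¹,
            mul_assoc (g * bz * g⁻¹)⁻¹, ← mul_assoc az⁻¹, ← mul_assoc (g * bz * g⁻¹)⁻¹, e3,
            inv_mul_cancel_right]
        rw [e]
        exact T₁.mul_mem (T₁.inv_mem haz) (T₁.mul_mem (T₁.mul_mem ha₀ haz) (T₁.inv_mem ha₀))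
      have h1 := haT hsc₁ d hd
      obtain ⟨ay, hay, by', hby, hy⟩ := mem_sup_comm hc.comm (hUT (a z).2)
      have hby' : h * by' * h⁻¹ ∈ T₂ := T₂.mul_mem (T₂.mul_mem hh hby) (T₂.inv_mem hh)
      have hyv : h * (a z : Ω) * h⁻¹ = ay * (h * by' * h⁻¹) := by
        rw [← hy, ← mul_assoc h ay, ← hc.comm ay hay h hh]
        group
      have hxv : (a x₀ : Ω) * a z * (a x₀ : Ω)⁻¹ = a' * ay * a'⁻¹ * (h * by' * h⁻¹) := by
        rw [← hah, mul_inv_rev, mul_assoc a' h, ← mul_assoc _ h⁻¹, mul_assoc a' (h * _),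
          hyv, mul_assoc, mul_assoc ay,
          ← hc.comm _ (T₁.inv_mem ha') _ hby']
        group
      constructor
      · -- in `T₁`
        have h2 : (a d : Ω) = ((a (cg z) : U) : Ω)⁻¹ * ((a x₀ : Ω) * a z * (a x₀ : Ω)⁻¹) := by
          show ((a ((cg z)⁻¹ * (x₀ * z * x₀⁻¹)) : U) : Ω) = _
          simp only [map_mul, map_inv, Subgroup.coe_mul, Subgroup.coe_inv]
        rw [h2, hxv] at h1
        have hC : a' * ay⁻¹ * a'⁻¹ * ay ∈ T₁ :=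
          T₁.mul_mem (T₁.mul_mem (T₁.mul_mem ha' (T₁.inv_mem hay)) (T₁.inv_mem ha')) hay
        have h3 : ((a (cg z) : U) : Ω)⁻¹ * (h * (a z : Ω) * h⁻¹) =
            (((a (cg z) : U) : Ω)⁻¹ * (a' * ay * a'⁻¹ * (h * by' * h⁻¹))) *
              (a' * ay⁻¹ * a'⁻¹ * ay) := by
          rw [hyv, mul_assoc _ _ (a' * ay⁻¹ * a'⁻¹ * ay),
            mul_assoc (a' * ay * a'⁻¹), ← hc.comm _ hC _ hby']
          group
        rw [h3]
        exact T₁.mul_mem h1 hC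
      · -- in `T₂`
        have h4 : (((z⁻¹ * cg z : U)) : Ω) ∈ T₂ := by
          show (z : Ω)⁻¹ * ((cg z : U) : Ω) ∈ T₂
          rw [hcgv, ← hz, mul_inv_rev, mul_assoc, inv_mul_cancel_left]
          exact T₂.mul_mem (T₂.inv_mem hbz) (T₂.mul_mem (T₂.mul_mem hg.1 hbz) (T₂.inv_mem hg.1))
        have h5 := haT hsc₂ _ h4
        rw [map_mul, map_inv, Subgroup.coe_mul, Subgroup.coe_inv] at h5
        have h6 : (a z : Ω)⁻¹ * (h * (a z : Ω) * h⁻¹) ∈ T₂ := by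
          rw [hyv, ← hy, mul_inv_rev, mul_assoc, inv_mul_cancel_left]
          exact T₂.mul_mem (T₂.inv_mem hby) hby'
        have h7 := T₂.mul_mem (T₂.inv_mem h5) h6
        rwa [mul_inv_rev, inv_inv, mul_assoc, mul_inv_cancel_left] at h7
    have hhS : h ∈ S := hsc₂.1 hh
    have hhN : h ∈ Subgroup.normalizer (U : Set Ω) := H85.mem_normalizer_of_conj fun x hx => by
      have h3 := hkey ⟨x, hx⟩
      rw [← mul_inv_cancel_left ((c' ⟨x, hx⟩ : U) : Ω) (h * x * h⁻¹)]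
      exact U.mul_mem (SetLike.coe_mem _) (hZU h3)
    let ch : MulAut U := H85.conjAut S U ⟨h, hhS, hhN⟩
    have hch : ch ∈ autInducedBy S U := H85.mem_autInducedBy.2 ⟨h, hhS, fun _ => rfl⟩
    have hk : ch * c'⁻¹ ∈ K := by
      refine ⟨(F.autGroup U).mul_mem (H85.autInducedBy_le_autGroup F hUS hch)
        ((F.autGroup U).inv_mem hc'), fun x => ?_,
        fun x hx => ?_⟩
      · have h3 := hkey (c'⁻¹ x)
        rwa [MulAut.apply_inv_self] at h3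
      · have hcx : c' x = x := by
          show a (cg (a⁻¹ x)) = x
          have h3 : ((a⁻¹ x : U) : Ω) ∈ T₁ ⊓ T₂ :=
            H86.map_mem_of_stronglyClosed hZsc ((H85.mem_autGroup hUS).1 (inv_mem ha)) (x := x) hx
          have h4 : cg (a⁻¹ x) = a⁻¹ x := Subtype.ext (by
            show g * ((a⁻¹ x : U) : Ω) * g⁻¹ = _
            rw [inf_comm_mem hc h3 (Subgroup.mem_sup_right hg.1), mul_inv_cancel_right])
          rw [h4, MulAut.apply_inv_self]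
        rw [MulAut.mul_apply, show c'⁻¹ x = x by conv_lhs => rw [← hcx, MulAut.inv_apply_self]]
        refine Subtype.ext ?_
        show h * (x : Ω) * h⁻¹ = x
        rw [inf_comm_mem hc hx (Subgroup.mem_sup_right hh), mul_inv_cancel_right]
    have hcS : c' ∈ autInducedBy S U := by
      have : c' = (ch * c'⁻¹)⁻¹ * ch := by rw [mul_inv_rev, inv_inv, inv_mul_cancel_right]
      rw [this]
      exact mul_mem (inv_mem (hKc hk)) hch
    obtain ⟨ψ, hψ, hext⟩ := H85.receptive_extend hrec haI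
    obtain ⟨m, hm, hme⟩ := H85.mem_autInducedBy.1 hcS
    have hgX : g ∈ extender S U (U.subtype.comp a.toMonoidHom) := by
      refine H85.mem_extender.2 ⟨hgS, hgN, m, hm, fun x hx => ?_⟩
      refine Eq.trans ?_ (hme (a x))
      show (a ⟨g * x * g⁻¹, hx⟩ : Ω) = (a (cg (a⁻¹ (a x))) : Ω)
      rw [MulAut.inv_apply_self]
      rfl
    have hUX : U ≤ extender S U (U.subtype.comp a.toMonoidHom) :=
      H85.le_extender hUS fun x => H85.map_mem haI x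
    let W := U ⊔ Subgroup.zpowers g
    have hWX : W ≤ extender S U (U.subtype.comp a.toMonoidHom) :=
      sup_le hUX (Subgroup.zpowers_le.2 hgX)
    have hWT : W ≤ T₁ ⊔ T₂ := sup_le hUT (Subgroup.zpowers_le.2 (Subgroup.mem_sup_right hg.1))
    have : Finite W := H85.finite_of_le (hWT.trans hTS)
    have hbig : Nat.card U < Nat.card W := by
      refine lt_of_le_of_ne (Subgroup.card_le_of_le le_sup_left) fun h => hgU ?_
      exact (Subgroup.eq_of_le_of_card_ge le_sup_left h.ge).ge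
        (Subgroup.mem_sup_right (Subgroup.mem_zpowers g))
    obtain ⟨α, hα, hl⟩ := ih W hWT hbig _ (H85.restrict hψ hWX)
    exact ⟨α, hα, hl.res le_sup_left fun x => (hext x x.2 _).symm⟩
  -- `U` is the product of its intersections with `T₁` and `T₂`
  have hlt : U < T₁ ⊔ T₂ := lt_of_le_of_ne hUT hne
  have hsplit : ∀ x ∈ U, ∃ a ∈ U ⊓ T₁, ∃ b ∈ U ⊓ T₂, a * b = x := by
    intro x hx
    obtain ⟨a, ha, b, hb, rfl⟩ := mem_sup_comm hc.comm (hUT hx)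
    have hbU : b ∈ U := hV ⟨hb, by
      rw [← inv_mul_cancel_left a b]
      exact (T₁ ⊔ U).mul_mem ((T₁ ⊔ U).inv_mem (Subgroup.mem_sup_left ha))
        (Subgroup.mem_sup_right hx)⟩
    refine ⟨a, ⟨?_, ha⟩, b, ⟨hbU, hb⟩, rfl⟩
    rw [← mul_inv_cancel_right a b]
    exact U.mul_mem hx (U.inv_mem hbU)
  have hKle : (pairSys hc).autGroup U ≤ F.autGroup U := fun k hk =>
    (H85.mem_autGroup hUS).2 (hDF U ((H85.mem_autGroup hUT).1 hk))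
  have hKn : ∀ b ∈ F.autGroup U, ∀ k ∈ (pairSys hc).autGroup U,
      b * k * b⁻¹ ∈ (pairSys hc).autGroup U := by
    intro b hb k hk
    obtain ⟨P₁, P₂, φ₁, φ₂, h₁, h₂, hP₁, hP₂, hf⟩ := (H85.mem_autGroup hUT).1 hk
    have hbI : H85.IsFIso F b := (H85.mem_autGroup hUS).1 hb
    have hkI : H85.IsFIso F k := (H85.mem_autGroup hUS).1 (hKle hk)
    have hl₁ : U ⊓ T₁ ≤ P₁ := by
      intro x hx
      obtain ⟨c, d, he, -⟩ := hf ⟨x, hx.1⟩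
      have hd : (d : Ω) ∈ T₁ ⊓ T₂ := ⟨by
        rw [show (d : Ω) = (c : Ω)⁻¹ * x from eq_inv_mul_of_mul_eq he.symm]
        exact T₁.mul_mem (T₁.inv_mem (H85.source_le h₁ c.2)) hx.2, H85.source_le h₂ d.2⟩
      rw [show x = c * d from he]
      exact P₁.mul_mem c.2 (hP₁ hd)
    have hl₂ : U ⊓ T₂ ≤ P₂ := by
      intro x hx
      obtain ⟨c, d, he, -⟩ := hf ⟨x, hx.1⟩
      have hd : (c : Ω) ∈ T₁ ⊓ T₂ := ⟨H85.source_le h₁ c.2, by
        rw [show (c : Ω) = x * (d : Ω)⁻¹ from eq_mul_inv_of_mul_eq he.symm]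
        exact T₂.mul_mem hx.2 (T₂.inv_mem (H85.source_le h₂ d.2))⟩
      rw [show x = c * d from he]
      exact P₂.mul_mem (hP₂ hd) d.2
    have hv₁ : ∀ x : ↥(U ⊓ T₁), φ₁ ⟨x, hl₁ x.2⟩ = k ⟨x, x.2.1⟩ := fun x => by
      have h3 := hc.value ⟨h₁, h₂, hP₁, hP₂, hf⟩ (x := ⟨x, x.2.1⟩) ⟨x, hl₁ x.2⟩ 1 (mul_one _).symm
      rw [map_one, mul_one] at h3
      exact h3.symm
    have hv₂ : ∀ x : ↥(U ⊓ T₂), φ₂ ⟨x, hl₂ x.2⟩ = k ⟨x, x.2.1⟩ := fun x => by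
      have h3 := hc.value ⟨h₁, h₂, hP₁, hP₂, hf⟩ (x := ⟨x, x.2.1⟩) 1 ⟨x, hl₂ x.2⟩ (one_mul _).symm
      rw [map_one, one_mul] at h3
      exact h3.symm
    have hpres : ∀ {R : Subgroup Ω}, F.StronglyClosed R → ∀ {e : MulAut U}, H85.IsFIso F e →
        ∀ x : U, (x : Ω) ∈ R → (e x : Ω) ∈ U ⊓ R :=
      fun {R} hR {e} he x hx => ⟨(e x).2, H86.map_mem_of_stronglyClosed hR he (x := x) hx⟩
    obtain ⟨χ₁, hχ₁, c₁⟩ := H86.strongInv_of_invariant n₁.1.2.2 (U ⊓ T₁) (U ⊓ T₁) le_rfl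
      inf_le_right _ (H85.restrict h₁ hl₁)
      (fun x => by
        show φ₁ ⟨x, hl₁ x.2⟩ ∈ U ⊓ T₁
        rw [hv₁]
        exact hpres hsc₁ hkI _ x.2.2)
      _ (H85.restrict hbI inf_le_left)
    obtain ⟨χ₂, hχ₂, c₂⟩ := H86.strongInv_of_invariant n₂.1.2.2 (U ⊓ T₂) (U ⊓ T₂) le_rfl
      inf_le_right _ (H85.restrict h₂ hl₂)
      (fun x => by
        show φ₂ ⟨x, hl₂ x.2⟩ ∈ U ⊓ T₂
        rw [hv₂]
        exact hpres hsc₂ hkI _ x.2.2)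
      _ (H85.restrict hbI inf_le_left)
    refine (H85.mem_autGroup hUT).2 (hc.mem_pairHom hχ₁ hχ₂ fun y => ?_)
    obtain ⟨x, rfl⟩ := b.surjective y
    obtain ⟨u, hu, v, hv, huv⟩ := hsplit x x.2
    refine ⟨⟨_, ⟨⟨u, hu⟩, hu, rfl⟩⟩, ⟨_, ⟨⟨v, hv⟩, hv, rfl⟩⟩, ?_, ?_⟩
    · show (b x : Ω) = (b ⟨u, hu.1⟩ : Ω) * (b ⟨v, hv.1⟩ : Ω)
      rw [← Subgroup.coe_mul, ← map_mul]
      exact congrArg (fun w => (b w : Ω)) (Subtype.ext huv.symm)
    · refine Eq.trans ?_ (congrArg₂ (· * ·) (c₁ ⟨u, hu⟩ ⟨⟨u, hu⟩, hu, rfl⟩).symm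
        (c₂ ⟨v, hv⟩ ⟨⟨v, hv⟩, hv, rfl⟩).symm)
      show (b (k (b⁻¹ (b x))) : Ω) = (b ⟨φ₁ ⟨u, _⟩, _⟩ : Ω) * (b ⟨φ₂ ⟨v, _⟩, _⟩ : Ω)
      rw [MulAut.inv_apply_self, ← Subgroup.coe_mul, ← map_mul]
      refine congrArg (fun w => (b w : Ω)) (Subtype.ext ?_)
      rw [Subgroup.coe_mul]
      show _ = φ₁ ⟨u, _⟩ * φ₂ ⟨v, _⟩
      rw [hv₁ ⟨u, hu⟩, hv₂ ⟨v, hv⟩, ← Subgroup.coe_mul, ← map_mul]
      exact congrArg (fun w => (k w : Ω)) (Subtype.ext huv.symm)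
  have hN : normalizerIn (T₁ ⊔ T₂) U ≤ normalizerIn S U := inf_le_inf_right _ hTS
  obtain ⟨k, hk, β, hβ, hkβ, ψ, hψ, hψe⟩ := H86.frattini_step hS hF hU hKle hKn ha
    (normalizerIn (T₁ ⊔ T₂) U) hN fun g hg =>
      H85.autInducedBy_le_autGroup (pairSys hc) hUT
        (H85.mem_autInducedBy.2 ⟨g, hg.1, fun _ => rfl⟩)
  have hle : U ⊔ normalizerIn (T₁ ⊔ T₂) U ≤ T₁ ⊔ T₂ := sup_le hUT inf_le_left
  have hbig : Nat.card U < Nat.card ↥(U ⊔ normalizerIn (T₁ ⊔ T₂) U) :=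
    (H86.card_lt_card_normalizerIn hS hTS hlt).trans_le (by
      have : Finite ↥(U ⊔ normalizerIn (T₁ ⊔ T₂) U) := H85.finite_of_le (hle.trans hTS)
      exact Subgroup.card_le_of_le le_sup_right)
  obtain ⟨α, hα, hl⟩ := ih _ hle hbig ψ hψ
  have hl' : H86.Lev (pairSys hc) 1 U (U.subtype.comp k.toMonoidHom) :=
    H86.lev_one.2 ((H85.mem_autGroup hUT).1 hk)
  have hlβ : H86.Lev (pairSys hc) α U (U.subtype.comp β.toMonoidHom) :=
    hl.res le_sup_left fun x => (hψe x).symm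
  refine ⟨1 * α, by rwa [one_mul], ?_⟩
  exact hlβ.comp (ψ := U.subtype.comp k.toMonoidHom) hl' (hNA _ (inv_mem hα))
    (fun x => (β x).2) fun x => by rw [hkβ]; rfl

end H75.Fus
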