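import Cfsg.Agent.H86.Image
import Cfsg.Agent.H86.Product
import Cfsg.Agent.H87.CentralizerNormal
import Cfsg.Agent.H89.CentralEltApps
import Cfsg.Agent.H85.Centric
import Cfsg.Agent.S5134
import Cfsg.Agent.S5136
import Cfsg.Prelude.Def_FusionComponents

/-!
The system generated by two fusion systems on elementwise commuting subgroups meeting in both centres,
and its description as a central product.
-/

set_option autoImplicit false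
set_option linter.unusedSectionVars false

open Cfsg Cfsg.FusionSystem

namespace H75.Fus

variable {Ω : Type*} [Group Ω] {T₁ T₂ : Subgroup Ω}

/-- Two systems on elementwise commuting subgroups whose intersection is central in both. -/
structure CommPair (E₁ : FusionSystem T₁) (E₂ : FusionSystem T₂) : Prop where
  comm : ∀ a ∈ T₁, ∀ b ∈ T₂, a * b = b * a
  central₁ : T₁ ⊓ T₂ ≤ E₁.center
  central₂ : T₁ ⊓ T₂ ≤ E₂.center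

theorem comm_of_commutator {A B : Subgroup Ω} (h : ⁅A, B⁆ = ⊥) :
    ∀ a ∈ A, ∀ b ∈ B, a * b = b * a := fun a ha b hb =>
  commutatorElement_eq_one_iff_mul_comm.1
    (Subgroup.mem_bot.1 (h ▸ Subgroup.commutator_mem_commutator ha hb))

theorem mem_sup_comm {A B : Subgroup Ω} (h : ∀ a ∈ A, ∀ b ∈ B, a * b = b * a) {x : Ω}
    (hx : x ∈ A ⊔ B) : ∃ a ∈ A, ∃ b ∈ B, a * b = x := by
  have hn : A ≤ Subgroup.normalizer (B : Set Ω) := fun a ha =>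
    Subgroup.centralizer_le_normalizer _ (Subgroup.mem_centralizer_iff.2 fun b hb => (h a ha b hb).symm)
  rw [← SetLike.mem_coe, Subgroup.coe_mul_of_left_le_normalizer_right A B hn] at hx
  exact hx

/-- Every map extends over a central subgroup, fixing it. -/
theorem exists_ext_central {T : Subgroup Ω} [Finite T] {E : FusionSystem T} {Z P : Subgroup Ω}
    (hZ : Z ≤ E.center) {φ : P →* Ω} (hφ : φ ∈ E.Hom P) :
    ∃ ψ ∈ E.Hom (P ⊔ Z), (∀ x : P, ψ (Subgroup.inclusion le_sup_left x) = φ x) ∧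
      ∀ z : Z, ψ (Subgroup.inclusion le_sup_right z) = z := by
  obtain ⟨ψ, hψ, hψP, hψZ⟩ := (H89.center_isCentral E).2 P φ hφ
  exact ⟨_, H85.restrict hψ (sup_le_sup_left hZ P), fun x => hψP x, fun z => hψZ ⟨z, hZ z.2⟩⟩

/-- Factors from `E₁` and `E₂` of a map on a subgroup of `T₁T₂`. -/
def Factors (E₁ : FusionSystem T₁) (E₂ : FusionSystem T₂) {P P₁ P₂ : Subgroup Ω} (φ : P →* Ω)
    (φ₁ : P₁ →* Ω) (φ₂ : P₂ →* Ω) : Prop :=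
  φ₁ ∈ E₁.Hom P₁ ∧ φ₂ ∈ E₂.Hom P₂ ∧ T₁ ⊓ T₂ ≤ P₁ ∧ T₁ ⊓ T₂ ≤ P₂ ∧
    ∀ x : P, ∃ a : P₁, ∃ b : P₂, (x : Ω) = a * b ∧ φ x = φ₁ a * φ₂ b

variable [Finite T₁] [Finite T₂] {E₁ : FusionSystem T₁} {E₂ : FusionSystem T₂}

/-- The maps with factors. -/
def pairHom (E₁ : FusionSystem T₁) (E₂ : FusionSystem T₂) (P : Subgroup Ω) : Set (P →* Ω) :=
  {φ | ∃ (P₁ P₂ : Subgroup Ω) (φ₁ : P₁ →* Ω) (φ₂ : P₂ →* Ω), Factors E₁ E₂ φ φ₁ φ₂}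

theorem CommPair.fix₁ (hc : CommPair E₁ E₂) {P : Subgroup Ω} {φ : P →* Ω} (hφ : φ ∈ E₁.Hom P)
    {z : Ω} (hz : z ∈ T₁ ⊓ T₂) (hzP : z ∈ P) : φ ⟨z, hzP⟩ = z :=
  H89.center_fix hφ hzP (hc.central₁ hz)

theorem CommPair.fix₂ (hc : CommPair E₁ E₂) {P : Subgroup Ω} {φ : P →* Ω} (hφ : φ ∈ E₂.Hom P)
    {z : Ω} (hz : z ∈ T₁ ⊓ T₂) (hzP : z ∈ P) : φ ⟨z, hzP⟩ = z :=
  H89.center_fix hφ hzP (hc.central₂ hz)

/-- Membership in `pairHom`, with arbitrary sources of the factors. -/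
theorem CommPair.mem_pairHom (hc : CommPair E₁ E₂) {P P₁ P₂ : Subgroup Ω} {φ : P →* Ω}
    {φ₁ : P₁ →* Ω} {φ₂ : P₂ →* Ω} (h₁ : φ₁ ∈ E₁.Hom P₁) (h₂ : φ₂ ∈ E₂.Hom P₂)
    (h : ∀ x : P, ∃ a : P₁, ∃ b : P₂, (x : Ω) = a * b ∧ φ x = φ₁ a * φ₂ b) :
    φ ∈ pairHom E₁ E₂ P := by
  obtain ⟨ψ₁, hψ₁, he₁, -⟩ := exists_ext_central hc.central₁ h₁
  obtain ⟨ψ₂, hψ₂, he₂, -⟩ := exists_ext_central hc.central₂ h₂
  refine ⟨_, _, ψ₁, ψ₂, hψ₁, hψ₂, le_sup_right, le_sup_right, fun x => ?_⟩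
  obtain ⟨a, b, hx, hv⟩ := h x
  exact ⟨Subgroup.inclusion le_sup_left a, Subgroup.inclusion le_sup_left b, hx,
    by rw [he₁, he₂]; exact hv⟩

/-- The value does not depend on the decomposition. -/
theorem CommPair.value (hc : CommPair E₁ E₂) {P P₁ P₂ : Subgroup Ω} {φ : P →* Ω} {φ₁ : P₁ →* Ω}
    {φ₂ : P₂ →* Ω} (h : Factors E₁ E₂ φ φ₁ φ₂) {x : P} (a : P₁) (b : P₂)
    (hx : (x : Ω) = a * b) : φ x = φ₁ a * φ₂ b := by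
  obtain ⟨h₁, h₂, hz₁, hz₂, hf⟩ := h
  obtain ⟨a', b', hx', hv⟩ := hf x
  rw [hv]
  have hP₁ := H85.source_le h₁
  have hP₂ := H85.source_le h₂
  have hmid : (a : Ω)⁻¹ * a' = b * (b' : Ω)⁻¹ := by
    have h0 : (a' : Ω) * b' = a * b := hx'.symm.trans hx
    rw [eq_mul_inv_iff_mul_eq, mul_assoc, h0, inv_mul_cancel_left]
  have hz : (a : Ω)⁻¹ * a' ∈ T₁ ⊓ T₂ := by
    refine ⟨T₁.mul_mem (T₁.inv_mem (hP₁ a.2)) (hP₁ a'.2), ?_⟩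
    show (a : Ω)⁻¹ * a' ∈ T₂
    rw [hmid]
    exact T₂.mul_mem (hP₂ b.2) (T₂.inv_mem (hP₂ b'.2))
  have ea : a' = a * ⟨_, hz₁ hz⟩ := Subtype.ext (mul_inv_cancel_left (a : Ω) a').symm
  have eb : b = ⟨_, hz₂ hz⟩ * b' := Subtype.ext (by
    show (b : Ω) = (a : Ω)⁻¹ * a' * b'
    rw [hmid, inv_mul_cancel_right])
  rw [ea, map_mul, hc.fix₁ h₁ hz, mul_assoc]
  congr 1
  conv_rhs => rw [eb, map_mul, hc.fix₂ h₂ hz]

/-- The system generated by a commuting pair. -/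
def pairSys (hc : CommPair E₁ E₂) : FusionSystem (T₁ ⊔ T₂) where
  Hom P := pairHom E₁ E₂ P
  le_of_mem := by
    rintro P φ ⟨P₁, P₂, φ₁, φ₂, h₁, h₂, -, -, hf⟩
    refine ⟨fun x hx => ?_, fun x => ?_⟩
    · obtain ⟨a, b, hx', -⟩ := hf ⟨x, hx⟩
      rw [show x = a * b from hx']
      exact Subgroup.mul_mem_sup (H85.source_le h₁ a.2) (H85.source_le h₂ b.2)
    · obtain ⟨a, b, -, hv⟩ := hf x
      rw [hv]
      exact Subgroup.mul_mem_sup (H85.map_mem h₁ a) (H85.map_mem h₂ b)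
  injective_of_mem := by
    rintro P φ ⟨P₁, P₂, φ₁, φ₂, h₁, h₂, hz₁, hz₂, hf⟩
    refine (injective_iff_map_eq_one φ).2 fun x hx => ?_
    obtain ⟨a, b, hxe, hv⟩ := hf x
    rw [hx] at hv
    have hw : φ₁ a = (φ₂ b)⁻¹ := eq_inv_of_mul_eq_one_left hv.symm
    have hz : φ₁ a ∈ T₁ ⊓ T₂ :=
      ⟨H85.map_mem h₁ a, hw ▸ T₂.inv_mem (H85.map_mem h₂ b)⟩
    have ha : a = ⟨_, hz₁ hz⟩ := E₁.injective_of_mem h₁ (hc.fix₁ h₁ hz (hz₁ hz)).symm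
    have hb : b = (⟨_, hz₂ hz⟩ : P₂)⁻¹ := E₂.injective_of_mem h₂ (by
      rw [map_inv, hc.fix₂ h₂ hz (hz₂ hz), hw, inv_inv])
    refine Subtype.ext (hxe.trans ?_)
    conv_lhs => rw [ha, hb]
    exact mul_inv_cancel (φ₁ a)
  conj_mem {P g} hP hg := by
    obtain ⟨u, hu, v, hv, rfl⟩ := mem_sup_comm hc.comm hg
    refine hc.mem_pairHom (E₁.conj_mem le_rfl hu) (E₂.conj_mem le_rfl hv) fun x => ?_
    obtain ⟨a, ha, b, hb, hx⟩ := mem_sup_comm hc.comm (hP x.2)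
    refine ⟨⟨a, ha⟩, ⟨b, hb⟩, hx.symm, ?_⟩
    show u * v * (x : Ω) * (u * v)⁻¹ = u * a * u⁻¹ * (v * b * v⁻¹)
    rw [← hx]
    have e1 : v * a = a * v := (hc.comm a ha v hv).symm
    have e2 : v * b * v⁻¹ * u⁻¹ = u⁻¹ * (v * b * v⁻¹) :=
      (hc.comm u⁻¹ (T₁.inv_mem hu) _ (T₂.mul_mem (T₂.mul_mem hv hb) (T₂.inv_mem hv))).symm
    calc u * v * (a * b) * (u * v)⁻¹ = u * (v * a) * b * v⁻¹ * u⁻¹ := by group
      _ = u * (a * v) * b * v⁻¹ * u⁻¹ := by rw [e1]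
      _ = u * a * (v * b * v⁻¹ * u⁻¹) := by group
      _ = u * a * (u⁻¹ * (v * b * v⁻¹)) := by rw [e2]
      _ = u * a * u⁻¹ * (v * b * v⁻¹) := by group
  comp_mem := by
    rintro P Q φ ψ ⟨P₁, P₂, φ₁, φ₂, h₁, h₂, hP₁, hP₂, hf⟩
      ⟨Q₁, Q₂, ψ₁, ψ₂, k₁, k₂, hQ₁, hQ₂, kf⟩ h
    let A : Subgroup Ω := (Q₁.comap φ₁).map P₁.subtype
    let B : Subgroup Ω := (Q₂.comap φ₂).map P₂.subtype
    have hA : A ≤ P₁ := Subgroup.map_subtype_le _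
    have hB : B ≤ P₂ := Subgroup.map_subtype_le _
    have mA : ∀ a : A, φ₁.comp (Subgroup.inclusion hA) a ∈ Q₁ := by
      rintro ⟨_, a, ha, rfl⟩
      exact ha
    have mB : ∀ b : B, φ₂.comp (Subgroup.inclusion hB) b ∈ Q₂ := by
      rintro ⟨_, b, hb, rfl⟩
      exact hb
    refine hc.mem_pairHom (E₁.comp_mem (H85.restrict h₁ hA) k₁ mA)
      (E₂.comp_mem (H85.restrict h₂ hB) k₂ mB) fun x => ?_
    obtain ⟨a, b, hx, hv⟩ := hf x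
    obtain ⟨c, d, hy, -⟩ := kf ⟨φ x, h x⟩
    have hy' : φ₁ a * φ₂ b = c * d := hv.symm.trans hy
    have hmid : (c : Ω)⁻¹ * φ₁ a = d * (φ₂ b)⁻¹ := by
      rw [eq_mul_inv_iff_mul_eq, mul_assoc, hy', inv_mul_cancel_left]
    have hz : (c : Ω)⁻¹ * φ₁ a ∈ T₁ ⊓ T₂ :=
      ⟨T₁.mul_mem (T₁.inv_mem (H85.source_le k₁ c.2)) (H85.map_mem h₁ a), by
        show (c : Ω)⁻¹ * φ₁ a ∈ T₂
        rw [hmid]
        exact T₂.mul_mem (H85.source_le k₂ d.2) (T₂.inv_mem (H85.map_mem h₂ b))⟩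
    have ha : φ₁ a ∈ Q₁ := by
      rw [← mul_inv_cancel_left (c : Ω) (φ₁ a)]
      exact Q₁.mul_mem c.2 (hQ₁ hz)
    have hb : φ₂ b ∈ Q₂ := by
      have : φ₂ b = ((c : Ω)⁻¹ * φ₁ a)⁻¹ * d := by rw [hmid, mul_inv_rev, inv_inv, inv_mul_cancel_right]
      rw [this]
      exact Q₂.mul_mem (Q₂.inv_mem (hQ₂ hz)) d.2
    refine ⟨⟨a, a, ha, rfl⟩, ⟨b, b, hb, rfl⟩, hx, ?_⟩
    exact hc.value ⟨k₁, k₂, hQ₁, hQ₂, kf⟩ (x := ⟨φ x, h x⟩) ⟨φ₁ a, ha⟩ ⟨φ₂ b, hb⟩ hv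
  inv_mem := by
    rintro P φ ⟨P₁, P₂, φ₁, φ₂, h₁, h₂, hP₁, hP₂, hf⟩
    have hinj : Function.Injective φ := by
      refine (injective_iff_map_eq_one φ).2 fun x hx => ?_
      obtain ⟨a, b, hxe, hv⟩ := hf x
      rw [hx] at hv
      have hw : φ₁ a = (φ₂ b)⁻¹ := eq_inv_of_mul_eq_one_left hv.symm
      have hz : φ₁ a ∈ T₁ ⊓ T₂ :=
        ⟨H85.map_mem h₁ a, hw ▸ T₂.inv_mem (H85.map_mem h₂ b)⟩
      have ha : a = ⟨_, hP₁ hz⟩ := E₁.injective_of_mem h₁ (hc.fix₁ h₁ hz (hP₁ hz)).symm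
      have hb : b = (⟨_, hP₂ hz⟩ : P₂)⁻¹ := E₂.injective_of_mem h₂ (by
        rw [map_inv, hc.fix₂ h₂ hz (hP₂ hz), hw, inv_inv])
      refine Subtype.ext (hxe.trans ?_)
      conv_lhs => rw [ha, hb]
      exact mul_inv_cancel (φ₁ a)
    obtain ⟨f₁, hf₁, he₁⟩ := E₁.inv_mem h₁
    obtain ⟨f₂, hf₂, he₂⟩ := E₂.inv_mem h₂
    let g : φ.range →* Ω := P.subtype.comp (MonoidHom.ofInjective hinj).symm.toMonoidHom
    have hg : ∀ x : P, g ⟨φ x, x, rfl⟩ = (x : Ω) := fun x =>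
      congrArg Subtype.val (MulEquiv.symm_apply_apply (MonoidHom.ofInjective hinj) x)
    refine ⟨g, hc.mem_pairHom hf₁ hf₂ ?_, hg⟩
    rintro ⟨_, x, rfl⟩
    obtain ⟨a, b, hx, hv⟩ := hf x
    exact ⟨⟨φ₁ a, a, rfl⟩, ⟨φ₂ b, b, rfl⟩, hv, by rw [hg x, he₁, he₂]; exact hx⟩

/-- The multiplication map. -/
def mulMap (hc : CommPair E₁ E₂) : ↥(T₁.prod T₂) →* Ω where
  toFun x := (x : Ω × Ω).1 * (x : Ω × Ω).2
  map_one' := one_mul 1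
  map_mul' x y := by
    show (x : Ω × Ω).1 * (y : Ω × Ω).1 * ((x : Ω × Ω).2 * (y : Ω × Ω).2) = _
    rw [mul_assoc, ← mul_assoc ((y : Ω × Ω).1) ((x : Ω × Ω).2),
      hc.comm _ y.2.1 _ x.2.2, mul_assoc ((x : Ω × Ω).2), ← mul_assoc]

variable {p : ℕ} [Fact p.Prime]

/-- The pair system is the factor system of a direct product. -/
theorem exists_factorSystem (h₁ : IsPGroup p T₁) (h₂ : IsPGroup p T₂) (hc : CommPair E₁ E₂) :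
    ∃ D₀ : FusionSystem (T₁.prod T₂), IsProductSystem E₁ E₂ D₀ ∧
      ((mulMap hc).ker.map (T₁.prod T₂).subtype) ≤ D₀.center ∧
      D₀.StronglyClosed ((mulMap hc).ker.map (T₁.prod T₂).subtype) ∧
      D₀.IsFactorSystem ((mulMap hc).ker.map (T₁.prod T₂).subtype) (mulMap hc) (pairSys hc) := by
  obtain ⟨D₀, hD₀⟩ := Cfsg.Agent.S5136.result p h₁ h₂ E₁ E₂
  set θ := mulMap hc with hθ
  set Z := θ.ker.map (T₁.prod T₂).subtype with hZ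
  have hZT : Z ≤ T₁.prod T₂ := Subgroup.map_subtype_le _
  have hZm : ∀ w ∈ Z, w.1 ∈ T₁ ⊓ T₂ ∧ w.2 ∈ T₁ ⊓ T₂ := by
    rintro _ ⟨w, hw, rfl⟩
    have e : (w : Ω × Ω).1 * (w : Ω × Ω).2 = 1 := hw
    refine ⟨⟨w.2.1, ?_⟩, ?_, w.2.2⟩
    · show (w : Ω × Ω).1 ∈ T₂
      rw [eq_inv_of_mul_eq_one_left e]
      exact T₂.inv_mem w.2.2
    · show (w : Ω × Ω).2 ∈ T₁
      rw [eq_inv_of_mul_eq_one_right e]
      exact T₁.inv_mem w.2.1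
  have hcen : D₀.IsCentral Z := by
    refine ⟨hZT, fun P φ hφ => ?_⟩
    obtain ⟨hP, φ₁, k₁, φ₂, k₂, he⟩ := (hD₀ P φ).1 hφ
    obtain ⟨ψ₁, hψ₁, hψ₁P, hψ₁Z⟩ := exists_ext_central hc.central₁ k₁
    obtain ⟨ψ₂, hψ₂, hψ₂P, hψ₂Z⟩ := exists_ext_central hc.central₂ k₂
    have l₁ : (P ⊔ Z).map (MonoidHom.fst Ω Ω) ≤ P.map (MonoidHom.fst Ω Ω) ⊔ (T₁ ⊓ T₂) := by
      rw [Subgroup.map_sup]
      refine sup_le_sup_left ?_ _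
      rintro _ ⟨w, hw, rfl⟩
      exact (hZm w hw).1
    have l₂ : (P ⊔ Z).map (MonoidHom.snd Ω Ω) ≤ P.map (MonoidHom.snd Ω Ω) ⊔ (T₁ ⊓ T₂) := by
      rw [Subgroup.map_sup]
      refine sup_le_sup_left ?_ _
      rintro _ ⟨w, hw, rfl⟩
      exact (hZm w hw).2
    let π₁ : ↥(P ⊔ Z) →* Ω := (ψ₁.comp (Subgroup.inclusion l₁)).comp
      ((MonoidHom.fst Ω Ω).subgroupMap (P ⊔ Z))
    let π₂ : ↥(P ⊔ Z) →* Ω := (ψ₂.comp (Subgroup.inclusion l₂)).comp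
      ((MonoidHom.snd Ω Ω).subgroupMap (P ⊔ Z))
    refine ⟨π₁.prod π₂, (hD₀ _ _).2 ⟨sup_le hP hZT, _, H85.restrict hψ₁ l₁, _,
      H85.restrict hψ₂ l₂, fun x _ _ => rfl⟩, fun x => ?_, fun w => ?_⟩
    · rw [he x ⟨_, x.2, rfl⟩ ⟨_, x.2, rfl⟩]
      exact Prod.ext (hψ₁P ⟨_, x, x.2, rfl⟩) (hψ₂P ⟨_, x, x.2, rfl⟩)
    · exact Prod.ext (hψ₁Z ⟨_, (hZm w w.2).1⟩) (hψ₂Z ⟨_, (hZm w w.2).2⟩)
  refine ⟨D₀, hD₀, le_sSup hcen, ⟨hZT, fun R hR φ hφ x => ?_⟩, hZT, fun s => H86.mem_ker_map,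
    ?_, fun P' φ' => ?_⟩
  · obtain ⟨ψ, -, hψR, hψZ⟩ := hcen.2 R φ hφ
    rw [← hψR x, show Subgroup.inclusion le_sup_left x =
      (Subgroup.inclusion le_sup_right (⟨(x : Ω × Ω), hR x.2⟩ : Z) : ↥(R ⊔ Z)) from rfl, hψZ]
    exact hR x.2
  · apply le_antisymm
    · rintro _ ⟨x, rfl⟩
      exact Subgroup.mul_mem_sup x.2.1 x.2.2
    · intro y hy
      obtain ⟨a, ha, b, hb, rfl⟩ := mem_sup_comm hc.comm hy
      exact ⟨⟨(a, b), ha, hb⟩, rfl⟩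
  constructor
  · rintro ⟨P₁, P₂, φ₁, φ₂, k₁, k₂, hP₁, hP₂, hf⟩
    have hP' : P' ≤ T₁ ⊔ T₂ := by
      intro x hx
      obtain ⟨a, b, hx', -⟩ := hf ⟨x, hx⟩
      rw [show x = a * b from hx']
      exact Subgroup.mul_mem_sup (H85.source_le k₁ a.2) (H85.source_le k₂ b.2)
    set Q := preimageAlong θ P' with hQ
    have hQT : Q ≤ T₁.prod T₂ := Subgroup.map_subtype_le _
    have hmem : ∀ w ∈ Q, (w.1 ∈ P₁ ∧ w.2 ∈ P₂) ∧ w.1 * w.2 ∈ P' := by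
      intro w hw
      obtain ⟨hwT, hw'⟩ := H86.mem_preimageAlong.1 hw
      have hwP : w.1 * w.2 ∈ P' := hw'
      obtain ⟨a, b, hx', -⟩ := hf ⟨_, hwP⟩
      have e : (a : Ω) * b = w.1 * w.2 := hx'.symm
      have hmid : (a : Ω)⁻¹ * w.1 = b * w.2⁻¹ := by
        rw [eq_mul_inv_iff_mul_eq, mul_assoc, ← e, inv_mul_cancel_left]
      have hz : (a : Ω)⁻¹ * w.1 ∈ T₁ ⊓ T₂ :=
        ⟨T₁.mul_mem (T₁.inv_mem (H85.source_le k₁ a.2)) hwT.1, by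
          show (a : Ω)⁻¹ * w.1 ∈ T₂
          rw [hmid]
          exact T₂.mul_mem (H85.source_le k₂ b.2) (T₂.inv_mem hwT.2)⟩
      refine ⟨⟨?_, ?_⟩, hwP⟩
      · rw [← mul_inv_cancel_left (a : Ω) w.1]
        exact P₁.mul_mem a.2 (hP₁ hz)
      · rw [show w.2 = ((a : Ω)⁻¹ * w.1)⁻¹ * b by rw [hmid, mul_inv_rev, inv_inv, inv_mul_cancel_right]]
        exact P₂.mul_mem (P₂.inv_mem (hP₂ hz)) b.2
    have l₁ : Q.map (MonoidHom.fst Ω Ω) ≤ P₁ := by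
      rintro _ ⟨w, hw, rfl⟩
      exact (hmem w hw).1.1
    have l₂ : Q.map (MonoidHom.snd Ω Ω) ≤ P₂ := by
      rintro _ ⟨w, hw, rfl⟩
      exact (hmem w hw).1.2
    let π₁ : ↥Q →* Ω := (φ₁.comp (Subgroup.inclusion l₁)).comp ((MonoidHom.fst Ω Ω).subgroupMap Q)
    let π₂ : ↥Q →* Ω := (φ₂.comp (Subgroup.inclusion l₂)).comp ((MonoidHom.snd Ω Ω).subgroupMap Q)
    refine ⟨hP', π₁.prod π₂, (hD₀ _ _).2 ⟨hQT, _, H85.restrict k₁ l₁, _, H85.restrict k₂ l₂,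
      fun x _ _ => rfl⟩, hQT, fun x => ⟨H85.map_mem k₁ _, H85.map_mem k₂ _⟩,
      fun x => (hmem x x.2).2, fun x => ?_⟩
    exact hc.value ⟨k₁, k₂, hP₁, hP₂, hf⟩ (x := ⟨_, (hmem x x.2).2⟩)
      ⟨_, (hmem x x.2).1.1⟩ ⟨_, (hmem x x.2).1.2⟩ rfl
  · rintro ⟨hP', φ, hφ, hQT, hφT, hm, hv⟩
    obtain ⟨-, φ₁, k₁, φ₂, k₂, he⟩ := (hD₀ _ _).1 hφ
    refine hc.mem_pairHom k₁ k₂ fun x => ?_
    obtain ⟨a, ha, b, hb, hx⟩ := mem_sup_comm hc.comm (hP' x.2)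
    have hQ : (a, b) ∈ preimageAlong θ P' :=
      H86.mem_preimageAlong.2 ⟨⟨ha, hb⟩, show a * b ∈ P' from hx.symm ▸ x.2⟩
    refine ⟨⟨a, (a, b), hQ, rfl⟩, ⟨b, (a, b), hQ, rfl⟩, hx.symm, ?_⟩
    have h3 := hv ⟨(a, b), hQ⟩
    rw [show (⟨θ ⟨((⟨(a, b), hQ⟩ : ↥(preimageAlong θ P')) : Ω × Ω), _⟩, hm _⟩ : P') = x from
      Subtype.ext hx] at h3
    rw [h3]
    show (φ _).1 * (φ _).2 = _
    rw [he ⟨(a, b), hQ⟩ ⟨(a, b), hQ, rfl⟩ ⟨(a, b), hQ, rfl⟩]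

theorem isSaturated_pairSys (h₁ : IsPGroup p T₁) (h₂ : IsPGroup p T₂) (hc : CommPair E₁ E₂)
    (s₁ : E₁.IsSaturated p) (s₂ : E₂.IsSaturated p) : (pairSys hc).IsSaturated p := by
  obtain ⟨D₀, hD₀, -, hsc, hfac⟩ := exists_factorSystem h₁ h₂ hc
  have hS : IsPGroup p (T₁.prod T₂) := by
    intro x
    obtain ⟨k, hk⟩ := h₁ ⟨(x : Ω × Ω).1, x.2.1⟩
    obtain ⟨l, hl⟩ := h₂ ⟨(x : Ω × Ω).2, x.2.2⟩
    refine ⟨k + l, Subtype.ext (Prod.ext ?_ ?_)⟩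
    · show ((x : Ω × Ω).1) ^ p ^ (k + l) = 1
      rw [pow_add, pow_mul, show ((x : Ω × Ω).1) ^ p ^ k = 1 from congrArg Subtype.val hk, one_pow]
    · show ((x : Ω × Ω).2) ^ p ^ (k + l) = 1
      rw [pow_add, mul_comm, pow_mul,
        show ((x : Ω × Ω).2) ^ p ^ l = 1 from congrArg Subtype.val hl, one_pow]
  have : Finite (T₁.prod T₂) := Finite.of_equiv _ (Subgroup.prodEquiv T₁ T₂).toEquiv.symm
  have hsat := H86.isSaturated_product h₁ h₂ s₁ s₂ hD₀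
  exact H86.isSaturated_image hS hsat
    (Cfsg.Agent.S5134.result p hS D₀ hsat _ hsc _ _ hfac)

theorem isCentralProductOf_pairSys (h₁ : IsPGroup p T₁) (h₂ : IsPGroup p T₂)
    (hc : CommPair E₁ E₂) : IsCentralProductOf E₁ E₂ (pairSys hc) := by
  obtain ⟨D₀, hD₀, hcen, -, hfac⟩ := exists_factorSystem h₁ h₂ hc
  refine ⟨D₀, hD₀, _, mulMap hc, hcen, ?_, ?_, fun x _ => mul_one x, fun y _ => one_mul y, hfac⟩
  · refine eq_bot_iff.2 fun w ⟨⟨s, hs, hsw⟩, hw⟩ => ?_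
    subst hsw
    have e : (s : Ω × Ω).1 * (s : Ω × Ω).2 = 1 := hs
    have h2 : (s : Ω × Ω).2 = 1 := Subgroup.mem_bot.1 hw.2
    rw [h2, mul_one] at e
    exact Subgroup.mem_bot.2 (Prod.ext e h2)
  · refine eq_bot_iff.2 fun w ⟨⟨s, hs, hsw⟩, hw⟩ => ?_
    subst hsw
    have e : (s : Ω × Ω).1 * (s : Ω × Ω).2 = 1 := hs
    have h2 : (s : Ω × Ω).1 = 1 := Subgroup.mem_bot.1 hw.1
    rw [h2, one_mul] at e
    exact Subgroup.mem_bot.2 (Prod.ext h2 e)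

end H75.Fus
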