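import Cfsg.Agent.H75.EnvelopeCentral
import Cfsg.Agent.H86.ProductIface
import Cfsg.Agent.H87.ThompsonFusion
import Cfsg.Agent.S5193

/-!
For odd `p` a central element of `S` is congruent modulo a subgroup containing the focal subgroup to a
central element of the system; so, products granted, `C_S(T) ≤ T` when `C_S(E) ≤ T`.
-/

set_option autoImplicit false
set_option linter.unusedSectionVars false
set_option linter.style.haveILetI false

open Cfsg Cfsg.FusionSystem

namespace H75.Envl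

universe u

variable {Ω : Type*} [Group Ω] {U T : Subgroup Ω} {p : ℕ} [Fact p.Prime]

/-- In an abelian group acted on through `Γ`, an element fixed by a Sylow `p`-subgroup is congruent
to a fixed element modulo a subgroup containing its displacements. -/
theorem exists_fixed_rep {A Γ : Type*} [CommGroup A] [Group Γ] [Finite Γ] (f : Γ →* MulAut A)
    (R : Sylow p Γ) {a : A} {k : ℕ} (ha : orderOf a ∣ p ^ k) (hR : ∀ r ∈ R, f r a = a)
    (M : Subgroup A) (hM : ∀ g : Γ, a⁻¹ * f g a ∈ M) :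
    ∃ b : A, (∀ g : Γ, f g b = b) ∧ a⁻¹ * b ∈ M := by
  classical
  haveI : Fintype (Γ ⧸ (R : Subgroup Γ)) := Fintype.ofFinite _
  let h : Γ ⧸ (R : Subgroup Γ) → A := Quotient.lift (fun g => f g a) fun g g' hgg' => by
    have h1 : g⁻¹ * g' ∈ (R : Subgroup Γ) := QuotientGroup.leftRel_apply.1 hgg'
    show f g a = f g' a
    conv_rhs => rw [← mul_inv_cancel_left g g', map_mul, MulAut.mul_apply, hR _ h1]
  have hperm : ∀ g : Γ, f g (∏ q, h q) = ∏ q, h q := by
    intro g
    rw [map_prod]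
    refine Fintype.prod_equiv (MulAction.toPerm g) _ _ fun q => ?_
    obtain ⟨g', rfl⟩ := QuotientGroup.mk_surjective q
    show f g (f g' a) = f (g * g') a
    rw [map_mul, MulAut.mul_apply]
  set m := Fintype.card (Γ ⧸ (R : Subgroup Γ)) with hm
  have hcop : Nat.Coprime m (orderOf a) := by
    refine Nat.Coprime.coprime_dvd_right ha (Nat.Coprime.pow_right k ?_)
    rw [hm, ← Nat.card_eq_fintype_card]
    exact ((Nat.Prime.coprime_iff_not_dvd Fact.out).2 R.not_dvd_index).symm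
  obtain ⟨j, hj⟩ := exists_pow_eq_self_of_coprime hcop
  refine ⟨(∏ q, h q) ^ j, fun g => by rw [map_pow, hperm], ?_⟩
  have h2 : a⁻¹ * (∏ q, h q) ^ j = (∏ q, a⁻¹ * h q) ^ j := by
    rw [Finset.prod_mul_distrib, Finset.prod_const, Finset.card_univ, ← hm, mul_pow, inv_pow,
      inv_pow, hj]
  rw [h2]
  refine pow_mem (prod_mem fun q _ => ?_) j
  obtain ⟨g, rfl⟩ := QuotientGroup.mk_surjective q
  exact hM g

/-- For odd `p` an element centralizing `U` is congruent modulo `T` to a central element. -/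
theorem exists_central_rep [Finite U] (hU : IsPGroup p U) {D : FusionSystem U}
    (hD : D.IsSaturated p) (hp : p ≠ 2) (hfoc : D.focalSubgroup ≤ T) {x : Ω} (hx : x ∈ U)
    (hc : ∀ u ∈ U, u * x = x * u) : ∃ z ∈ D.center, x⁻¹ * z ∈ T := by
  set J := Cfsg.thompsonSubgroupAOf U with hJ
  have hJU : J ≤ U := Subgroup.map_subtype_le _
  haveI : Finite J := H85.finite_of_le hJU
  haveI := H85.finite_autGroup D hJU
  have hNJ : normalizerIn U J = U :=
    H89.normalizerIn_char fun e => H74.JA.map_thompsonSubgroupA e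
  have hJn : D.IsFullyNormalized J :=
    ⟨hJU, fun Q _ => by rw [hNJ]; exact Subgroup.card_le_of_le (H85.normalizerIn_le Q)⟩
  have hxZ : (⟨x, hx⟩ : U) ∈ Subgroup.center U :=
    Subgroup.mem_center_iff.2 fun u => Subtype.ext (hc u u.2)
  have hxJ : x ∈ J := ⟨⟨x, hx⟩, H89.center_le_thompsonA U hxZ, rfl⟩
  obtain ⟨-, R, hR⟩ := H85.fullyAutomized_of_fullyNormalized hU hD hJn
  -- the action on the centre of `J`
  let a : Subgroup.center J :=
    ⟨⟨x, hxJ⟩, Subgroup.mem_center_iff.2 fun j => Subtype.ext (hc j (hJU j.2))⟩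
  have hmap : ∀ (g : MulAut J) (w : Subgroup.center J), g w ∈ Subgroup.center J := by
    intro g w
    refine Subgroup.mem_center_iff.2 fun j => ?_
    obtain ⟨i, rfl⟩ := g.surjective j
    rw [← map_mul, ← map_mul, Subgroup.mem_center_iff.1 w.2 i]
  let act : D.autGroup J →* MulAut (Subgroup.center J) :=
    { toFun := fun g =>
        { toFun := fun w => ⟨(g : MulAut J) w, hmap _ w⟩
          invFun := fun w => ⟨(g : MulAut J)⁻¹ w, hmap _ w⟩
          left_inv := fun w => Subtype.ext (MulAut.inv_apply_self _ (g : MulAut J) (w : J))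
          right_inv := fun w => Subtype.ext (MulAut.apply_inv_self _ (g : MulAut J) (w : J))
          map_mul' := fun w w' => Subtype.ext (map_mul (g : MulAut J) (w : J) (w' : J)) }
      map_one' := MulEquiv.ext fun w => Subtype.ext rfl
      map_mul' := fun g g' => MulEquiv.ext fun w => Subtype.ext rfl }
  letI : CommGroup (Subgroup.center J) :=
    { (inferInstance : Group (Subgroup.center J)) with
      mul_comm := fun u v => Subtype.ext (Subgroup.mem_center_iff.1 v.2 u) }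
  obtain ⟨k, hk⟩ := (hU.to_le hJU) (⟨x, hxJ⟩ : J)
  obtain ⟨b, hb, hbT⟩ := exists_fixed_rep (k := k) act R (a := a)
    (orderOf_dvd_of_pow_eq_one (Subtype.ext (by rw [Subgroup.coe_pow]; exact hk)))
    (fun r hr => by
      have hr' : r ∈ (R : Subgroup (D.autGroup J)) := hr
      rw [hR] at hr'
      obtain ⟨u, hu, hue⟩ := H85.mem_autInducedBy.1 hr'
      refine Subtype.ext (Subtype.ext ?_)
      show (((r : MulAut J) ⟨x, hxJ⟩ : J) : Ω) = x
      refine (hue _).trans ?_
      show u * x * u⁻¹ = x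
      rw [hc u hu, mul_inv_cancel_right])
    (T.comap (J.subtype.comp (Subgroup.center J).subtype))
    (fun g => hfoc (Subgroup.subset_closure
      ⟨J, J.subtype.comp (g : MulAut J).toMonoidHom, ⟨x, hxJ⟩,
        (H85.mem_autGroup hJU).1 g.2, rfl⟩))
  refine ⟨((b : J) : Ω), ?_, hbT⟩
  -- `b` is central in the normalizer system
  let N := H85.normalizerSystem D J hJU
  have hN := H85.normalizerSystem_spec D J hJU
  rw [← ((Cfsg.Agent.S5193.result p hU D hD N hN).2 (Or.inl hp))]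
  have hbJ : ((b : J) : Ω) ∈ J := (b : J).2
  have hcen : N.IsCentral (Subgroup.zpowers ((b : J) : Ω)) := by
    refine ⟨(Subgroup.zpowers_le.2 hbJ).trans (H85.le_normalizerIn hJU), fun P φ hφ => ?_⟩
    rw [hN P] at hφ
    obtain ⟨hφD, hPN, hφN, ψ, hψ, hψP, hψJ⟩ := H85.mem_normalizerHom.1 hφ
    have hJJ : ∀ j : J, ψ (Subgroup.inclusion le_sup_right j) ∈ J := fun j =>
      hψJ.le (H85.mem_img.2 ⟨Subgroup.inclusion le_sup_right j, j.2, rfl⟩)
    have hg : (ψ.comp (Subgroup.inclusion (le_sup_right : J ≤ P ⊔ J))).range = J :=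
      H86.range_eq_self_of_le D (H85.restrict hψ le_sup_right) (by
        rintro _ ⟨j, rfl⟩; exact hJJ j)
    let g : D.autGroup J := ⟨_, H86.autOfHom_mem D (H85.restrict hψ le_sup_right) hg⟩
    have hfix : ψ (Subgroup.inclusion le_sup_right (b : J)) = ((b : J) : Ω) :=
      congrArg (fun w : Subgroup.center J => ((w : J) : Ω)) (hb g)
    have hle : P ⊔ Subgroup.zpowers ((b : J) : Ω) ≤ P ⊔ J :=
      sup_le_sup_left (Subgroup.zpowers_le.2 hbJ) P
    refine ⟨ψ.comp (Subgroup.inclusion hle), ?_, fun y => hψP y, ?_⟩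
    · rw [hN]
      refine H85.mem_normalizerHom.2 ⟨H85.restrict hψ hle,
        sup_le hPN ((Subgroup.zpowers_le.2 hbJ).trans (H85.le_normalizerIn hJU)),
        fun y => by rw [hNJ]; exact H85.map_mem hψ _, ψ.comp (Subgroup.inclusion
          (sup_le (sup_le le_sup_left ((Subgroup.zpowers_le.2 hbJ).trans le_sup_right))
            le_sup_right : (P ⊔ Subgroup.zpowers ((b : J) : Ω)) ⊔ J ≤ P ⊔ J)),
        H85.restrict hψ _, fun y => rfl, ?_⟩
      ext w
      constructor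
      · intro hw
        obtain ⟨j, hj, rfl⟩ := H85.mem_img.1 hw
        exact hψJ.le (H85.mem_img.2 ⟨_, hj, rfl⟩)
      · intro hw
        obtain ⟨j, hj, hjw⟩ := H85.mem_img.1 (hψJ.ge hw)
        exact H85.mem_img.2 ⟨⟨(j : Ω), le_sup_right (a := P ⊔ _) hj⟩, hj, hjw⟩
    · rintro ⟨_, i, rfl⟩
      show (ψ.comp (Subgroup.inclusion hle)) _ = _
      have h1 : (⟨((b : J) : Ω) ^ i, hle (le_sup_right (a := P) ⟨i, rfl⟩)⟩ :
          (P ⊔ J : Subgroup Ω)) = Subgroup.inclusion le_sup_right (b : J) ^ i :=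
        Subtype.ext (by simp)
      show ψ ⟨((b : J) : Ω) ^ i, _⟩ = _
      rw [h1, map_zpow, hfix]
  exact le_sSup (α := Subgroup Ω) (show Subgroup.zpowers ((b : J) : Ω) ∈ _ from hcen)
    (Subgroup.mem_zpowers _)

/-- `C_S(T) ≤ T` for odd `p` when `C_S(E) ≤ T`, products granted. -/
theorem centralizer_le_of_products {Ω : Type u} [Group Ω] {S T : Subgroup Ω} [Finite S]
    (hP : H86.HasProducts.{u} p) (hS : IsPGroup p S) {F : FusionSystem S} {E : FusionSystem T}
    (hE : E.IsNormalIn F p) (hp : p ≠ 2)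
    (hCE : ∀ Y : Subgroup Ω, Y ≤ centralizerIn S T →
      (∀ C : FusionSystem (centralizerIn S Y), F.IsCentralizerSystem Y C → E.IsSubsystemOf C) →
        Y ≤ T) : centralizerIn S T ≤ T := by
  intro x hx
  have hT := hE.1.2.2.2.1
  have hTS := hT.1
  haveI : Finite T := H85.finite_of_le hTS
  obtain ⟨D, hD⟩ := hP S T F E hS hE
  let V := T ⊔ Subgroup.zpowers x
  have hxS : x ∈ S := hx.1
  have hVS : V ≤ S := sup_le hTS (Subgroup.zpowers_le.2 hxS)
  haveI : Finite V := H85.finite_of_le hVS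
  have hVp : IsPGroup p V := hS.to_le hVS
  have hxV : x ∈ V := le_sup_right (a := T) (Subgroup.mem_zpowers x)
  obtain ⟨D', hD', hi⟩ :=
    H86.exists_powerIndex _ hS D hD.saturated V hVS (hD.hyp_le.trans le_sup_left) le_rfl
  have hED : E.IsSubsystemOf D' := H87.subsystem_of_pResidual hS hE.1.1 hD.le D'
    le_sup_left fun P hP' => hi.2.2 P (hP'.trans le_sup_left)
  have hcx : ∀ u ∈ V, u * x = x * u := by
    have : V ≤ Subgroup.centralizer {x} :=
      sup_le (fun t ht => Subgroup.mem_centralizer_singleton_iff.2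
        ((H85.mem_centralizerIn.1 hx).2 t ht))
        (Subgroup.zpowers_le.2 (Subgroup.mem_centralizer_singleton_iff.2 rfl))
    exact fun u hu => Subgroup.mem_centralizer_singleton_iff.1 (this hu)
  have hVa : ⁅V, V⁆ ≤ T := by
    refine Subgroup.commutator_le.2 fun v hv w hw => ?_
    have hn : ∀ y ∈ V, ∀ t ∈ T, y * t * y⁻¹ ∈ T := fun y hy t ht =>
      H86.normal_of_stronglyClosed F hT (hVS hy) ht
    haveI : (T.subgroupOf V).Normal := ⟨fun n hn' g => hn g g.2 n hn'⟩
    let π := QuotientGroup.mk' (T.subgroupOf V)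
    have hcyc : ∀ y : V, ∃ i : ℤ, π y = π ⟨x, hxV⟩ ^ i := by
      intro y
      obtain ⟨c, hc, t, ht, hy⟩ := H86.mem_sup_stronglyClosed hT
        (Subgroup.zpowers_le.2 hxS) (show (y : Ω) ∈ Subgroup.zpowers x ⊔ T from sup_comm T _ ▸ y.2)
      obtain ⟨i, rfl⟩ := hc
      refine ⟨i, ?_⟩
      rw [show y = (⟨x, hxV⟩ : V) ^ i * ⟨t, le_sup_left (b := Subgroup.zpowers x) ht⟩ from
        Subtype.ext (by simpa using hy.symm), map_mul, map_zpow,
        show π ⟨t, _⟩ = 1 from (QuotientGroup.eq_one_iff _).2 ht, mul_one]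
    obtain ⟨i, hi'⟩ := hcyc ⟨v, hv⟩
    obtain ⟨j, hj'⟩ := hcyc ⟨w, hw⟩
    have h1 : π (⟨v, hv⟩ * ⟨w, hw⟩ * ⟨v, hv⟩⁻¹ * ⟨w, hw⟩⁻¹) = 1 := by
      rw [map_mul, map_mul, map_mul, map_inv, map_inv, hi', hj', ← zpow_add, add_comm,
        zpow_add, mul_inv_cancel_right, mul_inv_cancel]
    have h2 := (MonoidHom.mem_ker (f := π)).2 h1
    rw [QuotientGroup.ker_mk'] at h2
    exact h2
  have hfoc : D'.focalSubgroup ≤ T := by
    rw [H85.focalSubgroup_eq hVp hD', H87.hyperfocal_eq_of_powerIndex hS hi]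
    exact sup_le hD.hyp_le hVa
  obtain ⟨z, hz, hzT⟩ := exists_central_rep hVp hD' hp hfoc hxV hcx
  have hzV : z ∈ V := H89.center_le D' hz
  have hzC : Subgroup.zpowers z ≤ centralizerIn S T := Subgroup.zpowers_le.2
    (H85.mem_centralizerIn.2 ⟨hVS hzV, fun t ht =>
      Subgroup.mem_centralizer_iff.1 (D'.center_le_centralizer hz) t (le_sup_left (a := T) ht)⟩)
  have hcent : ∀ P : Subgroup Ω, E.Hom P ⊆ F.centralizerHom (Subgroup.zpowers z) P := by
    intro P φ hφ
    have hφD := hED P hφ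
    have hsubF : ∀ Q, D'.Hom Q ⊆ F.Hom Q := fun Q f hf => hD.subsystem Q (hi.1 Q hf)
    obtain ⟨ψ, hψ, hψP, hψZ⟩ := (H89.center_isCentral D').2 P φ hφD
    have hle : P ⊔ Subgroup.zpowers z ≤ P ⊔ D'.center :=
      sup_le_sup_left (Subgroup.zpowers_le.2 hz) P
    have hTC : T ≤ centralizerIn S (Subgroup.zpowers z) := fun t ht =>
      H85.mem_centralizerIn.2 ⟨hTS ht, fun y hy =>
        ((H85.mem_centralizerIn.1 (hzC hy)).2 t ht).symm⟩
    exact ⟨hsubF P hφD, (E.le_of_mem hφ).1.trans hTC, fun y => hTC ((E.le_of_mem hφ).2 y),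
      _, H85.restrict (hsubF _ hψ) hle, fun y => hψP y,
      fun y => hψZ ⟨(y : Ω), Subgroup.zpowers_le.2 hz y.2⟩⟩
  have hzT' : z ∈ T := hCE (H86.centE p F E) H86.centE_le
    (fun C hC P φ hφ => by rw [hC P]; exact H86.cent_centE hS hE P hφ)
    (H86.le_centE hS hE hzC hcent (Subgroup.mem_zpowers z))
  have := T.mul_mem hzT' (T.inv_mem hzT)
  simpa using this

/-- `T C_S(T)` is abelian modulo `T` when `C_S(E) ≤ T`. -/
theorem commutator_le_of_centralizer {Ω : Type u} [Group Ω] {S T : Subgroup Ω} [Finite S]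
    (hS : IsPGroup p S) {F : FusionSystem S} {E : FusionSystem T} (hE : E.IsNormalIn F p)
    (hCE : ∀ Y : Subgroup Ω, Y ≤ centralizerIn S T →
      (∀ C : FusionSystem (centralizerIn S Y), F.IsCentralizerSystem Y C → E.IsSubsystemOf C) →
        Y ≤ T) : ⁅T ⊔ centralizerIn S T, T ⊔ centralizerIn S T⁆ ≤ T := by
  have hT := hE.1.2.2.2.1
  have hTS := hT.1
  have hn : S ≤ Subgroup.normalizer (T : Set Ω) := H86.le_normalizer_of_stronglyClosed hT
  set C := centralizerIn S T with hC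
  have hCS : C ≤ S := H85.centralizerIn_le T
  haveI : Finite C := H85.finite_of_le hCS
  have hfoc := focal_centralizer_le hS hE hCE
  let W := T ⊔ C
  have hWS : W ≤ S := sup_le hTS hCS
  haveI : (T.subgroupOf W).Normal :=
    ⟨fun n hn' g => H86.normal_of_stronglyClosed F hT (hWS g.2) hn'⟩
  let π := QuotientGroup.mk' (T.subgroupOf W)
  have hπT : ∀ t : W, (t : Ω) ∈ T → π t = 1 := fun t ht => (QuotientGroup.eq_one_iff _).2 ht
  have hcomm : ∀ c d : W, (c : Ω) ∈ C → (d : Ω) ∈ C → π c * π d = π d * π c := by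
    intro c d hc hd
    have h1 : (c : Ω)⁻¹ * ((d : Ω) * c * (d : Ω)⁻¹) ∈ T :=
      hfoc (Subgroup.subset_closure ⟨C, Cfsg.conjHom C (d : Ω), ⟨c, hc⟩,
        FusionSystem.conj_mem _ le_rfl hd, by rw [H85.conjHom_apply]⟩)
    have h2 := hπT (c⁻¹ * (d * c * d⁻¹)) h1
    rw [map_mul, map_inv, map_mul, map_mul, map_inv, inv_mul_eq_one, eq_mul_inv_iff_mul_eq] at h2
    exact h2
  have hdec : ∀ y : W, ∃ c : W, (c : Ω) ∈ C ∧ π y = π c := by
    intro y
    obtain ⟨c, hc, t, ht, hy⟩ := H86.mem_sup_stronglyClosed hT hCS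
      (show (y : Ω) ∈ C ⊔ T from sup_comm T C ▸ y.2)
    refine ⟨⟨c, le_sup_right (a := T) hc⟩, hc, ?_⟩
    rw [show y = ⟨c, le_sup_right (a := T) hc⟩ * ⟨t, le_sup_left (a := T) ht⟩ from
      Subtype.ext hy.symm, map_mul, hπT ⟨t, _⟩ ht, mul_one]
  refine Subgroup.commutator_le.2 fun v hv w hw => ?_
  obtain ⟨c, hc, hvc⟩ := hdec ⟨v, hv⟩
  obtain ⟨d, hd, hwd⟩ := hdec ⟨w, hw⟩
  have h3 : π (⟨v, hv⟩ * ⟨w, hw⟩ * ⟨v, hv⟩⁻¹ * ⟨w, hw⟩⁻¹) = 1 := by
    rw [map_mul, map_mul, map_mul, map_inv, map_inv, hvc, hwd, hcomm c d hc hd,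
      mul_inv_cancel_right, mul_inv_cancel]
  have h4 := (MonoidHom.mem_ker (f := π)).2 h3
  rw [QuotientGroup.ker_mk'] at h4
  exact h4

end H75.Envl
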