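import Cfsg.Agent.H75.EnvelopeStep

/-!
The normal envelope of a normal subsystem with `p`-soluble automizer quotient.
-/

set_option autoImplicit false
set_option linter.unusedSectionVars false

open Cfsg Cfsg.FusionSystem

namespace H75.Envl

variable {Ω : Type*} [Group Ω] {S T : Subgroup Ω} {p : ℕ} [Finite S] [Fact p.Prime]

theorem stage_series (hS : IsPGroup p S) {F : FusionSystem S} {E : FusionSystem T}
    (hE : E.IsNormalIn F p) [hn : ((E.autGroup T).subgroupOf (F.autGroup T)).Normal]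
    (hsolv : Cfsg.IsPSolvable p (↥(F.autGroup T) ⧸ (E.autGroup T).subgroupOf (F.autGroup T))) :
    ∃ G : FusionSystem (actSub S T (E.autGroup T)), Stage p F E (E.autGroup T) G := by
  set Γ := F.autGroup T with hΓ
  set N := (E.autGroup T).subgroupOf Γ with hN
  have hEΓ : E.autGroup T ≤ Γ := H87.subsystem_autGroup_le hE.1.2.2.1 T
  obtain ⟨n, H, h0, hlast, hmono, hnorm, hstep⟩ := hsolv
  let π := QuotientGroup.mk' N
  let K : Fin (n + 1) → Subgroup (MulAut T) := fun i => ((H i).comap π).map Γ.subtype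
  have hKmem : ∀ (i : Fin (n + 1)) (a : Γ), (a : MulAut T) ∈ K i ↔ π a ∈ H i := fun i a =>
    Subgroup.mem_map_iff_mem Γ.subtype_injective
  have hKΓ : ∀ i, K i ≤ Γ := fun i => Subgroup.map_subtype_le _
  have cast : ∀ (A B : Subgroup (MulAut T)), A = B →
      (∃ G : FusionSystem (actSub S T A), Stage p F E A G) →
      ∃ G : FusionSystem (actSub S T B), Stage p F E B G := fun A B h hG => h ▸ hG
  have main : ∀ i : Fin (n + 1), ∃ G : FusionSystem (actSub S T (K i)), Stage p F E (K i) G := by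
    intro i
    induction i using Fin.reverseInduction with
    | last =>
      refine cast Γ _ ?_ ?_
      · show Γ = _
        simp only [K, hlast, Subgroup.comap_top, ← MonoidHom.range_eq_map,
          Subgroup.range_subtype]
      · have key : ∀ (U : Subgroup Ω) (G : FusionSystem U), Stage p F E Γ G →
            ∃ G : FusionSystem (actSub S T Γ), Stage p F E Γ G := by
          intro U G hG
          obtain rfl := hG.base
          exact ⟨G, hG⟩
        exact key S F (stage_top hS hE)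
    | cast i ih =>
      obtain ⟨G, hG⟩ := ih
      have hEL : E.autGroup T ≤ K i.castSucc := by
        intro e he
        refine (hKmem _ ⟨e, hEΓ he⟩).2 ?_
        rw [show π ⟨e, hEΓ he⟩ = 1 from (QuotientGroup.eq_one_iff _).2 he]
        exact one_mem _
      have hLK : K i.castSucc ≤ K i.succ :=
        Subgroup.map_mono (Subgroup.comap_mono (hmono (Fin.castSucc_le_succ i)))
      have hL : ∀ g ∈ F.autGroup T, ∀ l ∈ K i.castSucc, g * l * g⁻¹ ∈ K i.castSucc := by
        intro g hg l hl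
        have h1 : π ⟨l, hKΓ _ hl⟩ ∈ H i.castSucc := (hKmem _ ⟨l, hKΓ _ hl⟩).1 hl
        refine (hKmem _ (⟨g, hg⟩ * ⟨l, hKΓ _ hl⟩ * ⟨g, hg⟩⁻¹)).2 ?_
        rw [map_mul, map_mul, map_inv]
        exact (hnorm i.castSucc).conj_mem _ h1 _
      have hrel : (K i.castSucc).relIndex (K i.succ) =
          (H i.castSucc).relIndex (H i.succ) := by
        rw [Subgroup.relIndex_map_map_of_injective _ _ Γ.subtype_injective,
          Subgroup.relIndex_comap,
          Subgroup.map_comap_eq_self_of_surjective (QuotientGroup.mk'_surjective N)]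
      rcases hstep i with ⟨m, hm⟩ | hc
      · refine step_pow hS hE hG hEL hLK hL fun a ha => ⟨m, ?_⟩
        haveI : ((K i.castSucc).subgroupOf (K i.succ)).Normal :=
          ⟨fun x hx g => hL g (hKΓ _ g.2) x hx⟩
        have h1 := Subgroup.pow_index_mem ((K i.castSucc).subgroupOf (K i.succ))
          (⟨a, ha⟩ : K i.succ)
        rw [show ((K i.castSucc).subgroupOf (K i.succ)).index = p ^ m from hrel.trans hm] at h1
        exact h1
      · exact step_prime hS hE hG hEL hLK hL (hrel.symm ▸ hc)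
  refine cast _ _ ?_ (main 0)
  show ((H 0).comap π).map Γ.subtype = E.autGroup T
  rw [h0, MonoidHom.comap_bot, QuotientGroup.ker_mk', hN, Subgroup.subgroupOf_map_subtype,
    inf_eq_left.2 hEΓ]

theorem actSub_autGroup (hS : IsPGroup p S) {F : FusionSystem S} {E : FusionSystem T}
    (hE : E.IsNormalIn F p) : actSub S T (E.autGroup T) = T ⊔ centralizerIn S T := by
  have hTS := hE.1.2.2.2.1.1
  haveI : Finite T := H85.finite_of_le hTS
  refine le_antisymm ?_ (sup_le (le_actSub hTS (H85.inn_le_autGroup E le_rfl))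
    centralizerIn_le_actSub)
  rintro s ⟨hs, α, hα, he⟩
  obtain ⟨-, R, hR⟩ := H85.fullyAutomized_of_fullyNormalized (hS.to_le hTS) hE.1.1
    (H85.fullyNormalized_top E)
  have hA : IsPGroup p ↥((autInducedBy S T).subgroupOf (E.autGroup T)) :=
    (H85.autInducedBy_isPGroup hS T).comap_of_injective (E.autGroup T).subtype
      (E.autGroup T).subtype_injective
  have hle : (R : Subgroup (E.autGroup T)) ≤
      (autInducedBy S T).subgroupOf (E.autGroup T) := by
    rw [hR]
    intro a ha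
    obtain ⟨g, hg, hga⟩ := H85.mem_autInducedBy.1 ha
    exact H85.mem_autInducedBy.2 ⟨g, hTS hg, hga⟩
  have h1 : (⟨α, hα⟩ : E.autGroup T) ∈ (R : Subgroup (E.autGroup T)) :=
    (R.3 hA hle).le (H85.mem_autInducedBy.2 ⟨s, hs, he⟩)
  rw [hR] at h1
  obtain ⟨g, hg, hga⟩ := H85.mem_autInducedBy.1 h1
  rw [← mul_inv_cancel_left g s]
  refine Subgroup.mul_mem_sup hg (H85.mem_centralizerIn.2
    ⟨S.mul_mem (S.inv_mem (hTS hg)) hs, fun t ht => ?_⟩)
  have h2 : g * t * g⁻¹ = s * t * s⁻¹ := (hga ⟨t, ht⟩).symm.trans (he ⟨t, ht⟩)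
  calc t * (g⁻¹ * s) = g⁻¹ * (g * t * g⁻¹) * s := by group
    _ = g⁻¹ * (s * t * s⁻¹) * s := by rw [h2]
    _ = g⁻¹ * s * t := by group

/-- The normal envelope. -/
theorem exists_envelope (hS : IsPGroup p S) {F : FusionSystem S} {E : FusionSystem T}
    (hE : E.IsNormalIn F p) [hn : ((E.autGroup T).subgroupOf (F.autGroup T)).Normal]
    (hsolv : Cfsg.IsPSolvable p (↥(F.autGroup T) ⧸ (E.autGroup T).subgroupOf (F.autGroup T))) :
    ∃ F₀ : FusionSystem (T ⊔ centralizerIn S T), F₀.IsNormalIn F p ∧ E.IsNormalIn F₀ p ∧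
      F₀.autGroup T = E.autGroup T ∧
      ∀ {W : Subgroup Ω} (X : FusionSystem W), X.IsWeaklyNormalIn F p →
        Res.Stable p X → X.IsSubsystemOf F₀ := by
  have hU := actSub_autGroup hS hE
  obtain ⟨G, hG⟩ := stage_series hS hE hsolv
  rw [← hU]
  refine ⟨G, ⟨hG.wn, ?_⟩, hG.nE, hG.aut, hG.stable⟩
  set U := actSub S T (E.autGroup T)
  haveI : Finite U := H85.finite_of_le actSub_le
  intro α hα
  have hTU : T ≤ U := hG.nE.1.2.2.2.1.1
  have hCU : centralizerIn S U ≤ U := fun c hc => centralizerIn_le_actSub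
    ⟨hc.1, Subgroup.centralizer_le (SetLike.coe_subset_coe.2 hTU) hc.2⟩
  have hR : U ⊔ centralizerIn S U = U := sup_eq_left.2 hCU
  have hαF : H86.dmap α ∈ F.Hom U := hG.wn.2.2.1 U ((H85.mem_autGroup le_rfl).1 hα)
  refine ⟨MulAut.congr (MulEquiv.subgroupCongr hR.symm) α,
    (H85.mem_autGroup (hR.le.trans actSub_le)).2
      (H85.hom_congr (H85.restrict hαF hR.le) fun _ => rfl), fun _ => rfl, fun c hc =>
      ⟨U.mul_mem (U.inv_mem (hCU hc)) (hR.le (SetLike.coe_mem _)),
        Subgroup.mul_mem _ (Subgroup.inv_mem _ hc.2)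
          (Subgroup.mem_centralizer_iff.2 fun u hu => ?_)⟩⟩
  have h1 : (α⁻¹ ⟨u, hu⟩ : U) * ⟨(c : Ω), hCU hc⟩ = ⟨(c : Ω), hCU hc⟩ * α⁻¹ ⟨u, hu⟩ :=
    Subtype.ext ((H85.mem_centralizerIn.1 hc).2 _ (SetLike.coe_mem _))
  have h2 := congrArg (fun z => α z) h1
  simp only [map_mul, MulAut.apply_inv_self] at h2
  exact congrArg Subtype.val h2

end H75.Envl
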