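import Cfsg.Agent.H75.LimitGreatest
import Cfsg.Agent.H87.HyperfocalAction

/-!
The subgroups of `S` acting on a strongly closed subgroup `T` by elements of a given group of
automorphisms; weak normality of subsystems of `p`-power index in weakly normal subsystems; normality
in an intermediate system.
-/

set_option autoImplicit false
set_option linter.unusedSectionVars false

open Cfsg Cfsg.FusionSystem

namespace H75.Envl

variable {Ω : Type*} [Group Ω] {S T : Subgroup Ω} {p : ℕ}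

/-- The elements of `S` acting on `T` as an element of `K`. -/
def actSub (S T : Subgroup Ω) (K : Subgroup (MulAut T)) : Subgroup Ω where
  carrier := {s | s ∈ S ∧ ∃ α ∈ K, ∀ t : T, ((α t : T) : Ω) = s * (t : Ω) * s⁻¹}
  one_mem' := ⟨S.one_mem, 1, K.one_mem, fun t => by simp⟩
  mul_mem' := by
    rintro a b ⟨ha, α, hα, hαe⟩ ⟨hb, β, hβ, hβe⟩
    refine ⟨S.mul_mem ha hb, α * β, K.mul_mem hα hβ, fun t => ?_⟩
    rw [MulAut.mul_apply, hαe, hβe]
    group
  inv_mem' := by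
    rintro a ⟨ha, α, hα, hαe⟩
    refine ⟨S.inv_mem ha, α⁻¹, K.inv_mem hα, fun t => ?_⟩
    have h := hαe (α⁻¹ t)
    rw [MulAut.apply_inv_self] at h
    rw [h]
    group

theorem actSub_le {K : Subgroup (MulAut T)} : actSub S T K ≤ S := fun _ hs => hs.1

theorem actSub_mono {K L : Subgroup (MulAut T)} (h : L ≤ K) : actSub S T L ≤ actSub S T K :=
  fun _ ⟨hs, α, hα, he⟩ => ⟨hs, α, h hα, he⟩

theorem centralizerIn_le_actSub {K : Subgroup (MulAut T)} :
    centralizerIn S T ≤ actSub S T K := fun c hc => ⟨hc.1, 1, K.one_mem, fun t => by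
  rw [MulAut.one_apply, ← (H85.mem_centralizerIn.1 hc).2 t t.2, mul_inv_cancel_right]⟩

theorem le_actSub {K : Subgroup (MulAut T)} (hTS : T ≤ S) (hK : Cfsg.Inn T ≤ K) :
    T ≤ actSub S T K := fun t ht =>
  ⟨hTS ht, MulAut.conj ⟨t, ht⟩, hK ⟨⟨t, ht⟩, rfl⟩, fun _ => rfl⟩

theorem actSub_top [Finite S] {F : FusionSystem S} (hT : F.StronglyClosed T) :
    actSub S T (F.autGroup T) = S := by
  refine le_antisymm actSub_le fun s hs => ⟨hs, ?_⟩
  have hn : s ∈ normalizerIn S T := ⟨hs, H88.sc_normalizer hT hs⟩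
  exact ⟨H85.conjAut S T ⟨s, hn⟩, H85.autInducedBy_le_autGroup F hT.1
    (H85.conjAut_range S T ▸ ⟨_, rfl⟩), fun t => rfl⟩

theorem map_mem_actSub [Finite S] {F : FusionSystem S} (hT : F.StronglyClosed T)
    {L : Subgroup (MulAut T)} (hL : ∀ g ∈ F.autGroup T, ∀ l ∈ L, g * l * g⁻¹ ∈ L)
    {P : Subgroup Ω} (hTP : T ≤ P) {ψ : P →* Ω} (hψ : ψ ∈ F.Hom P) {x : P}
    (hx : (x : Ω) ∈ actSub S T L) : ψ x ∈ actSub S T L := by
  have : Finite T := H85.finite_of_le hT.1
  obtain ⟨-, l, hl, hle⟩ := hx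
  have hψT := H85.restrict hψ hTP
  have himg : (ψ.comp (Subgroup.inclusion hTP)).range = T :=
    H86.range_eq_self_of_le F hψT (by
      rintro _ ⟨z, rfl⟩; exact H88.sc_map_mem hT hψ z.2)
  let β : MulAut T := H85.isoOf _ hψT himg
  have hβ : β ∈ F.autGroup T := (H85.mem_autGroup hT.1).2 (H85.isFIso_isoOf _ hψT himg)
  refine ⟨H85.map_mem hψ x, β * l * β⁻¹, hL β hβ l hl, fun t => ?_⟩
  obtain ⟨u, rfl⟩ := β.surjective t
  rw [MulAut.mul_apply, MulAut.mul_apply, MulAut.inv_apply_self]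
  show ψ (Subgroup.inclusion hTP (l u)) = ψ x * ψ (Subgroup.inclusion hTP u) * (ψ x)⁻¹
  rw [← map_inv, ← map_mul, ← map_mul]
  exact congrArg ψ (Subtype.ext (hle u))

theorem stronglyClosed_actSub [Finite S] {F : FusionSystem S} (hT : F.StronglyClosed T)
    {K L : Subgroup (MulAut T)} (hL : ∀ g ∈ F.autGroup T, ∀ l ∈ L, g * l * g⁻¹ ∈ L)
    (hLK : L ≤ K) (hTK : T ≤ actSub S T K) {G : FusionSystem (actSub S T K)}
    (hG : G.IsWeaklyNormalIn F p) (hc : G.StronglyClosed (actSub S T L)) :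
    F.StronglyClosed (actSub S T L) := by
  refine ⟨actSub_le, fun P hP φ hφ x => ?_⟩
  obtain ⟨α, hα, φ₀, hφ₀, he⟩ := hG.2.2.2.2.2 P (hP.trans (actSub_mono hLK)) φ hφ
  rw [he x ((G.le_of_mem hφ₀).2 x)]
  exact map_mem_actSub hT hL hTK ((H85.mem_autGroup actSub_le).1 hα)
    (hc.2 P hP φ₀ hφ₀ x)

variable [Finite S] [Fact p.Prime]

/-- A saturated subsystem of `p`-power index over a strongly closed subgroup of a weakly normal
subsystem is weakly normal. -/
theorem weaklyNormal_of_powerIndex (hS : IsPGroup p S) {F : FusionSystem S} {U V : Subgroup Ω}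
    {G : FusionSystem U} (hG : G.IsWeaklyNormalIn F p) (hVc : F.StronglyClosed V) (hVU : V ≤ U)
    (hH : G.hyperfocalSubgroup p ≤ V) {E : FusionSystem V} (hE : E.IsSaturated p)
    (hEi : E.HasPPowerIndexIn G p) : E.IsWeaklyNormalIn F p := by
  obtain ⟨hGF, hUc, -, hfr⟩ := hG.2.2
  have hUS := hUc.1
  have hVS := hVc.1
  have : Finite U := H85.finite_of_le hUS
  have hUp : IsPGroup p U := hS.to_le hUS
  have hVn : (V.subgroupOf U).Normal :=
    ⟨fun n hn g => H86.normal_of_stronglyClosed F hVc (hUS g.2) hn⟩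
  have hsub : E.IsSubsystemOf F := fun P φ hφ => hGF P (hEi.1 P hφ)
  have : Finite V := H85.finite_of_le hVS
  let F' := H86.restrictSys F hVc
  have hNA : ∀ α ∈ F.autGroup V, H86.NormAut E α := by
    intro α hα
    have hd : H86.dmap α ∈ F.Hom _ := (H85.mem_autGroup hVS).1 hα
    have hsub' : E.IsSubsystemOf (H86.pullSys F' E α) := by
      refine H87.subsystem_of_pResidual hUp hE hEi.1 _ le_rfl fun P hP => ?_
      rw [Cfsg.pResidual, MonoidHom.map_closure, Subgroup.closure_le]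
      rintro _ ⟨⟨a, ha⟩, hk, rfl⟩
      let e := H85.resIso (H86.dmap α) (F.injective_of_mem hd) hP
      have he : H85.IsFIso F e := H85.isFIso_resIso hd hP
      have haF : a ∈ F.autGroup P :=
        (H85.mem_autGroup (hP.trans hVS)).2 (hGF _ ((H85.mem_autGroup (hP.trans hVU)).1 ha))
      have hI : H85.img (H86.dmap α) P ≤ V := fun y hy => by
        obtain ⟨s, -, rfl⟩ := H85.mem_img.1 hy
        exact SetLike.coe_mem _
      have ha' := H86.autGroup_transport hG (hP.trans hVU) (hI.trans hVU) he ha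
      have hb := hEi.2.2 _ hI ⟨⟨_, ha'⟩, H87.mem_pResidual_of_coprime (by
        rw [Subgroup.orderOf_mk,
          show orderOf (MulAut.congr e a) = orderOf a from MulEquiv.orderOf_eq (MulAut.congr e) a,
          ← Subgroup.orderOf_mk a ha]
        exact hk), rfl⟩
      refine (H85.mem_autGroup hP).2
        ⟨⟨hP, (H85.mem_autGroup (hP.trans hVS)).1 haF⟩, _, (H85.mem_autGroup hI).1 hb,
          fun x hx => ?_⟩
      show ((e (a (e.symm ⟨_, hx⟩)) : H85.img (H86.dmap α) P) : Ω) = _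
      rw [show e.symm ⟨_, hx⟩ = x from (MulEquiv.symm_apply_eq _).2 (Subtype.ext rfl)]
      rfl
    intro P φ hφ
    obtain ⟨_, χ, hχ, he⟩ := hsub' P hφ
    exact ⟨χ, hχ, he⟩
  have hEG := H86.isNormalIn_of_powerIndex hUp hG.1 hVU hVn hH hE hEi
  refine ⟨hE, hG.2.1, hsub, hVc, fun P hP φ hφ α hα => ?_, fun P hP φ hφ => ?_⟩
  · obtain ⟨χ, hχ, he⟩ := hNA α hα P φ hφ
    exact ⟨χ, hχ, fun x _ hx => he x hx⟩
  · obtain ⟨α, hα, φ₁, hφ₁, he⟩ := hfr P (hP.trans hVU) φ hφ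
    obtain ⟨β, hβ, φ₀, hφ₀, he'⟩ := hEG.1.2.2.2.2.2 P hP φ₁ hφ₁
    obtain ⟨α', hα', hαe⟩ := Fus.exists_aut_part hUS hVc hVU hα
    have hβF : β ∈ F.autGroup V :=
      (H85.mem_autGroup hVS).2 (hGF _ ((H85.mem_autGroup hVU).1 hβ))
    refine ⟨α' * β, mul_mem hα' hβF, φ₀, hφ₀, fun x hx => ?_⟩
    rw [he x ((G.le_of_mem hφ₁).2 x), MulAut.mul_apply, hαe]
    exact congrArg (fun z : U => (α z : Ω)) (Subtype.ext (he' x hx))

/-- `β` extends `α` and moves the centralizer of `T` by elements of `Z(T)`. -/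
def IsExt {U : Subgroup Ω} (α : MulAut T) (β : MulAut ↥(T ⊔ centralizerIn U T)) : Prop :=
  (∀ x : T, ((β (Subgroup.inclusion le_sup_left x) : ↥(T ⊔ centralizerIn U T)) : Ω) =
      ((α x : T) : Ω)) ∧
    ∀ c : ↥(T ⊔ centralizerIn U T), (c : Ω) ∈ centralizerIn U T →
      (c : Ω)⁻¹ * ((β c : ↥(T ⊔ centralizerIn U T)) : Ω) ∈
        T ⊓ Subgroup.centralizer (T : Set Ω)

theorem IsExt.one {U : Subgroup Ω} : IsExt (U := U) (1 : MulAut T) 1 :=
  ⟨fun _ => rfl, fun c _ => by simp⟩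

theorem IsExt.mul {U : Subgroup Ω} {α α' : MulAut T} {β β' : MulAut ↥(T ⊔ centralizerIn U T)}
    (h : IsExt α β) (h' : IsExt α' β') : IsExt (α * α') (β * β') := by
  refine ⟨fun x => ?_, fun c hc => ?_⟩
  · rw [MulAut.mul_apply, MulAut.mul_apply, ← h.1 (α' x)]
    exact congrArg (fun z => ((β z : ↥(T ⊔ centralizerIn U T)) : Ω)) (Subtype.ext (h'.1 x))
  · obtain ⟨hzT, hzC⟩ := h'.2 c hc
    let z : T := ⟨(c : Ω)⁻¹ * ((β' c : ↥(T ⊔ centralizerIn U T)) : Ω), hzT⟩
    have hβ'c : β' c = c * Subgroup.inclusion le_sup_left z := Subtype.ext (by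
      show ((β' c : ↥(T ⊔ centralizerIn U T)) : Ω) = (c : Ω) * ((c : Ω)⁻¹ * _)
      rw [mul_inv_cancel_left])
    rw [MulAut.mul_apply, hβ'c, map_mul, Subgroup.coe_mul, ← mul_assoc]
    refine mul_mem (h.2 c hc) ?_
    rw [h.1 z]
    refine ⟨SetLike.coe_mem _, Subgroup.mem_centralizer_iff.2 fun u hu => ?_⟩
    obtain ⟨v, hv⟩ := α.surjective ⟨u, hu⟩
    have h1 : v * z = z * v := Subtype.ext (Subgroup.mem_centralizer_iff.1 hzC v v.2)
    have h2 := congrArg (fun w : T => ((α w : T) : Ω)) h1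
    simp only [map_mul, Subgroup.coe_mul, hv] at h2
    exact h2

theorem IsExt.pow {U : Subgroup Ω} {α : MulAut T} {β : MulAut ↥(T ⊔ centralizerIn U T)}
    (h : IsExt α β) : ∀ n : ℕ, IsExt (α ^ n) (β ^ n)
  | 0 => by rw [pow_zero, pow_zero]; exact IsExt.one
  | n + 1 => by rw [pow_succ, pow_succ]; exact (IsExt.pow h n).mul h

/-- The automorphisms of `T` in `E` with an extension in `N`. -/
theorem ext_of_coprime {U V : Subgroup Ω} [Finite U] (hU : IsPGroup p U) {G : FusionSystem U}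
    {E : FusionSystem T} (hE : E.IsNormalIn G p) {N : FusionSystem V}
    (hW : T ⊔ centralizerIn U T ≤ V)
    (hext : ∀ α ∈ E.autGroup T, ∀ β ∈ G.autGroup (T ⊔ centralizerIn U T),
      (∀ x : T, ((β (Subgroup.inclusion le_sup_left x) : ↥(T ⊔ centralizerIn U T)) : Ω) =
        ((α x : T) : Ω)) → Nat.Coprime (orderOf β) p →
      β ∈ N.autGroup (T ⊔ centralizerIn U T)) :
    ∀ α ∈ E.autGroup T, ∃ β ∈ N.autGroup (T ⊔ centralizerIn U T), IsExt α β := by
  have hTU := hE.1.2.2.2.1.1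
  have : Finite T := H85.finite_of_le hTU
  have : Finite ↥(T ⊔ centralizerIn U T) :=
    H85.finite_of_le (sup_le hTU (H85.centralizerIn_le T) : _ ≤ U)
  have hone : ∃ β ∈ N.autGroup (T ⊔ centralizerIn U T), IsExt (1 : MulAut T) β :=
    ⟨1, one_mem _, IsExt.one⟩
  let A : Subgroup (E.autGroup T) :=
    { carrier := {α | ∃ β ∈ N.autGroup (T ⊔ centralizerIn U T), IsExt (α : MulAut T) β}
      one_mem' := hone
      mul_mem' := by
        rintro a b ⟨β, hβ, h⟩ ⟨β', hβ', h'⟩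
        exact ⟨β * β', mul_mem hβ hβ', h.mul h'⟩
      inv_mem' := by
        rintro a ⟨β, hβ, h⟩
        refine ⟨β ^ (orderOf a - 1), pow_mem hβ _, ?_⟩
        have h1 := h.pow (orderOf a - 1)
        have h2 : a ^ (orderOf a - 1) = a⁻¹ := eq_inv_of_mul_eq_one_left (by
          rw [← pow_succ, Nat.sub_add_cancel (orderOf_pos a), pow_orderOf_eq_one])
        rwa [← h2, Subgroup.coe_pow] }
  intro α hα
  suffices h : A = ⊤ from (h.symm ▸ Subgroup.mem_top (⟨α, hα⟩ : E.autGroup T) : _ ∈ A)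
  obtain ⟨-, R, hR⟩ := H85.fullyAutomized_of_fullyNormalized (hU.to_le hTU) hE.1.1
    (H85.fullyNormalized_top E)
  refine H87.pResidual_sup_eq_top R ?_ ?_
  · rw [hR]
    intro a ha
    obtain ⟨g, hg, hga⟩ := H85.mem_autInducedBy.1 ha
    let W := T ⊔ centralizerIn U T
    have hgW : g ∈ W := le_sup_left (a := T) hg
    refine ⟨MulAut.conj (⟨g, hgW⟩ : W), H85.inn_le_autGroup N hW ⟨_, rfl⟩,
      fun x => (hga x).symm, fun c hc => ?_⟩
    show (c : Ω)⁻¹ * (g * (c : Ω) * g⁻¹) ∈ _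
    rw [(H85.mem_centralizerIn.1 hc).2 g hg]
    simp
  · rw [Cfsg.pResidual, Subgroup.closure_le]
    intro a ha
    obtain ⟨β, hβ, hβe⟩ := hE.2 a a.2
    obtain ⟨i, r, hr, hir⟩ := Nat.exists_eq_pow_mul_and_not_dvd (orderOf_pos β).ne' p
      (Nat.Prime.ne_one Fact.out)
    have hcop : Nat.Coprime (orderOf (β ^ p ^ i)) p := by
      have : orderOf (β ^ p ^ i) = r := by
        rw [orderOf_pow, hir, Nat.gcd_mul_right_left,
          Nat.mul_div_cancel_left _ (pow_pos (Nat.Prime.pos Fact.out) i)]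
      rw [this]
      exact Nat.Coprime.symm ((Nat.Prime.coprime_iff_not_dvd Fact.out).2 hr)
    have h1 : IsExt ((a : MulAut T) ^ p ^ i) (β ^ p ^ i) :=
      IsExt.pow (show IsExt (a : MulAut T) β from hβe) _
    have h2 : a ^ p ^ i ∈ A := ⟨β ^ p ^ i,
      hext _ (pow_mem a.2 _) _ (pow_mem hβ _) h1.1 hcop, by rw [Subgroup.coe_pow]; exact h1⟩
    obtain ⟨m, hm⟩ := exists_pow_eq_self_of_coprime (n := p ^ i) (x := a)
      (Nat.Coprime.pow_left i (Nat.Coprime.symm ha))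
    exact hm ▸ pow_mem h2 m

/-- A normal subsystem is normal in an intermediate saturated system containing the extensions of
order prime to `p`. -/
theorem normal_of_between {U V : Subgroup Ω} [Finite U] (hU : IsPGroup p U) {G : FusionSystem U}
    {E : FusionSystem T} (hE : E.IsNormalIn G p) {N : FusionSystem V} (hN : N.IsSaturated p)
    (hNG : N.IsSubsystemOf G) (hEN : E.IsSubsystemOf N) (hC : centralizerIn U T ≤ V)
    (hext : ∀ α ∈ E.autGroup T, ∀ β ∈ G.autGroup (T ⊔ centralizerIn U T),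
      (∀ x : T, ((β (Subgroup.inclusion le_sup_left x) : ↥(T ⊔ centralizerIn U T)) : Ω) =
        ((α x : T) : Ω)) → Nat.Coprime (orderOf β) p →
      β ∈ N.autGroup (T ⊔ centralizerIn U T)) : E.IsNormalIn N p := by
  have hVU : V ≤ U := H87.subsystem_le hNG
  have hTV : T ≤ V := H87.subsystem_le hEN
  have hCC : centralizerIn V T = centralizerIn U T :=
    le_antisymm (fun x hx => ⟨hVU hx.1, hx.2⟩) fun x hx => ⟨hC hx, hx.2⟩
  refine ⟨H75.Res.weaklyNormal_of_le hU hE.1 hN hNG hEN, ?_⟩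
  intro α hα
  have key : ∀ C : Subgroup Ω, C = centralizerIn U T → ∃ β ∈ N.autGroup (T ⊔ C),
      (∀ x : T, ((β (Subgroup.inclusion le_sup_left x) : ↥(T ⊔ C)) : Ω) = ((α x : T) : Ω)) ∧
      ∀ c : ↥(T ⊔ C), (c : Ω) ∈ C →
        (c : Ω)⁻¹ * ((β c : ↥(T ⊔ C)) : Ω) ∈ T ⊓ Subgroup.centralizer (T : Set Ω) := by
    rintro C rfl
    exact ext_of_coprime hU hE (sup_le hTV hC) hext α hα
  exact key _ hCC

end H75.Envl
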