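import Cfsg.Agent.H75.Envelope
import Cfsg.Agent.S5293
import Cfsg.Agent.H88.Normal

/-!
When the centralizer of a normal subsystem lies in its base `T`, the envelope has hyperfocal subgroup
inside `T`, so it contains the subsystem with `p`-power index.
-/

set_option autoImplicit false
set_option linter.unusedSectionVars false

open Cfsg Cfsg.FusionSystem

namespace H75.Envl

variable {Ω : Type*} [Group Ω] {S T : Subgroup Ω} {p : ℕ} [Finite S] [Fact p.Prime]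
  {F : FusionSystem S} {E : FusionSystem T}

theorem focal_centralizer_le (hS : IsPGroup p S) (hE : E.IsNormalIn F p)
    (hCE : ∀ Y : Subgroup Ω, Y ≤ centralizerIn S T →
      (∀ C : FusionSystem (centralizerIn S Y), F.IsCentralizerSystem Y C → E.IsSubsystemOf C) →
        Y ≤ T) :
    (H85.centralizerSystem F T hE.1.2.2.2.1.1).focalSubgroup ≤ T := by
  refine (Cfsg.Agent.S5293.result p hS F hE.1.2.1 E hE _ rfl _
    (H85.centralizerSystem_spec F T _)).trans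
    ((sSup_le fun X hX => H86.le_centE hS hE hX.1 hX.2).trans
      (hCE (H86.centE p F E) H86.centE_le fun C hC P φ hφ => ?_))
  rw [hC P]
  exact H86.cent_centE hS hE P hφ

/-- A map of the envelope moves the elements of its source modulo `T`. -/
theorem disp_mem (hS : IsPGroup p S) (hE : E.IsNormalIn F p)
    (hfoc : (H85.centralizerSystem F T hE.1.2.2.2.1.1).focalSubgroup ≤ T)
    {U : Subgroup Ω} (hU : U ≤ T ⊔ centralizerIn S T) {G : FusionSystem U}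
    (hG : G.IsSubsystemOf F) (haut : G.autGroup T ≤ E.autGroup T)
    {Q : Subgroup Ω} (hTQ : T ≤ Q) {ψ : Q →* Ω} (hψ : ψ ∈ G.Hom Q) (x : Q) :
    (x : Ω)⁻¹ * ψ x ∈ T := by
  have hT := hE.1.2.2.2.1
  have hTS := hT.1
  have : Finite T := H85.finite_of_le hTS
  have hQU : Q ≤ U := (G.le_of_mem hψ).1
  have hψF := hG Q hψ
  have hψT := H85.restrict hψ hTQ
  have himg : (ψ.comp (Subgroup.inclusion hTQ)).range = T :=
    H86.range_eq_self_of_le F (H85.restrict hψF hTQ) (by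
      rintro _ ⟨z, rfl⟩; exact H88.sc_map_mem hT hψF z.2)
  let α : MulAut T := H85.isoOf _ hψT himg
  have hTU : T ≤ U := hTQ.trans hQU
  have : Finite U := H85.finite_of_le (H87.subsystem_le hG)
  have hα : α ∈ E.autGroup T :=
    haut ((H85.mem_autGroup hTU).2 (H85.isFIso_isoOf _ hψT himg))
  obtain ⟨β, hβ, hβT, hβC⟩ := hE.2 α hα
  let W := T ⊔ centralizerIn S T
  have hWS : W ≤ S := sup_le hTS (H85.centralizerIn_le T)
  have : Finite W := H85.finite_of_le hWS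
  have hψW : ∀ y : Q, ψ y ∈ W := fun y => hU ((G.le_of_mem hψ).2 y)
  have hβi : H86.dmap β⁻¹ ∈ F.Hom W := (H85.mem_autGroup hWS).1 (inv_mem hβ)
  let δ : Q →* Ω := (H86.dmap β⁻¹).comp (ψ.codRestrict W hψW)
  have hδ : δ ∈ F.Hom Q := F.comp_mem hψF hβi hψW
  have hδT : ∀ t : Q, (t : Ω) ∈ T → δ t = t := by
    intro t ht
    show ((β⁻¹ ⟨ψ t, hψW t⟩ : W) : Ω) = t
    rw [show (⟨ψ t, hψW t⟩ : W) = β (Subgroup.inclusion le_sup_left ⟨(t : Ω), ht⟩) from
      Subtype.ext (hβT ⟨(t : Ω), ht⟩).symm, MulAut.inv_apply_self]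
    rfl
  -- the part centralizing `T`
  let Q' := Q ⊓ centralizerIn S T
  let δ' : Q' →* Ω := δ.comp (Subgroup.inclusion inf_le_left)
  have hQ'T : Q' ⊔ T ≤ Q := sup_le inf_le_left hTQ
  have hval : ∀ c : Q', δ' c ∈ centralizerIn S T := by
    intro c
    refine H85.mem_centralizerIn.2 ⟨H85.map_mem hδ _, fun t ht => ?_⟩
    have h1 : (⟨t, hTQ ht⟩ : Q) * Subgroup.inclusion inf_le_left c =
        Subgroup.inclusion inf_le_left c * ⟨t, hTQ ht⟩ :=
      Subtype.ext ((H85.mem_centralizerIn.1 c.2.2).2 t ht)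
    have h2 := congrArg δ h1
    rw [map_mul, map_mul, hδT ⟨t, hTQ ht⟩ ht] at h2
    exact h2
  have hδ' : δ' ∈ (H85.centralizerSystem F T hTS).Hom Q' := by
    rw [H85.centralizerSystem_spec F T hTS Q']
    exact ⟨H85.restrict hδ inf_le_left, inf_le_right, hval,
      _, H85.restrict hδ hQ'T, fun c => rfl, fun t => hδT _ t.2⟩
  obtain ⟨t, ht, c, hc, htc⟩ :
      ∃ t ∈ T, ∃ c ∈ centralizerIn S T, t * c = (x : Ω) := by
    have hx : (x : Ω) ∈ centralizerIn S T ⊔ T := sup_comm T _ ▸ hU (hQU x.2)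
    obtain ⟨c, hc, t, ht, h⟩ := H86.mem_sup_stronglyClosed hT (H85.centralizerIn_le T) hx
    exact ⟨t, ht, c, hc, ((H85.mem_centralizerIn.1 hc).2 t ht).trans h⟩
  have hcQ : c ∈ Q := by
    rw [← inv_mul_cancel_left t c, htc]
    exact Q.mul_mem (Q.inv_mem (hTQ ht)) x.2
  have hz : c⁻¹ * δ ⟨c, hcQ⟩ ∈ T :=
    hfoc (Subgroup.subset_closure ⟨Q', δ', ⟨c, hcQ, hc⟩, hδ', rfl⟩)
  have hcψ : c⁻¹ * ψ ⟨c, hcQ⟩ ∈ T := by
    have hcW : c ∈ W := le_sup_right (a := T) hc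
    have h1 : (⟨ψ ⟨c, hcQ⟩, hψW _⟩ : W) =
        β (⟨c, hcW⟩ * Subgroup.inclusion le_sup_left ⟨_, hz⟩) := by
      refine Eq.trans ?_ (congrArg β (show β⁻¹ ⟨ψ ⟨c, hcQ⟩, hψW _⟩ = _ from Subtype.ext ?_))
      · rw [MulAut.apply_inv_self]
      · show δ ⟨c, hcQ⟩ = c * (c⁻¹ * δ ⟨c, hcQ⟩)
        rw [mul_inv_cancel_left]
    rw [show ψ ⟨c, hcQ⟩ = _ from congrArg Subtype.val h1, map_mul, Subgroup.coe_mul, ← mul_assoc]
    refine T.mul_mem (hβC ⟨c, hcW⟩ hc).1 ?_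
    rw [hβT]
    exact SetLike.coe_mem _
  have hx : x = ⟨t, hTQ ht⟩ * ⟨c, hcQ⟩ := Subtype.ext htc.symm
  rw [hx, map_mul, Subgroup.coe_mul]
  have h3 : t⁻¹ * ψ ⟨t, hTQ ht⟩ ∈ T :=
    T.mul_mem (T.inv_mem ht) (H88.sc_map_mem hT hψF ht)
  have h4 := H86.normal_of_stronglyClosed F hT (S.inv_mem hc.1) h3
  show (t * c)⁻¹ * (ψ ⟨t, hTQ ht⟩ * ψ ⟨c, hcQ⟩) ∈ T
  rw [show (t * c)⁻¹ * (ψ ⟨t, hTQ ht⟩ * ψ ⟨c, hcQ⟩) =
      (c⁻¹ * (t⁻¹ * ψ ⟨t, hTQ ht⟩) * c⁻¹⁻¹) * (c⁻¹ * ψ ⟨c, hcQ⟩) by group]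
  exact T.mul_mem h4 hcψ

/-- Residual limits of the system lie in a normal subsystem whose centralizer is inside its base. -/
theorem stable_le_of_centralizer (hS : IsPGroup p S) (hE : E.IsNormalIn F p)
    (hCE : ∀ Y : Subgroup Ω, Y ≤ centralizerIn S T →
      (∀ C : FusionSystem (centralizerIn S Y), F.IsCentralizerSystem Y C → E.IsSubsystemOf C) →
        Y ≤ T)
    [hn : ((E.autGroup T).subgroupOf (F.autGroup T)).Normal]
    (hsolv : Cfsg.IsPSolvable p (↥(F.autGroup T) ⧸ (E.autGroup T).subgroupOf (F.autGroup T)))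
    {W : Subgroup Ω} (X : FusionSystem W) (hX : X.IsWeaklyNormalIn F p)
    (hXs : Res.Stable p X) : X.IsSubsystemOf E := by
  obtain ⟨F₀, hF₀, hEF₀, haut, hst⟩ := exists_envelope hS hE hsolv
  let U := T ⊔ centralizerIn S T
  have hUS : U ≤ S := hF₀.1.2.2.2.1.1
  have : Finite U := H85.finite_of_le hUS
  have hUp : IsPGroup p U := hS.to_le hUS
  have hT := hEF₀.1.2.2.2.1
  have : Finite T := H85.finite_of_le hT.1
  have hfoc := focal_centralizer_le hS hE hCE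
  have hH : F₀.hyperfocalSubgroup p ≤ T := by
    rw [hyperfocalSubgroup, Subgroup.closure_le]
    rintro _ ⟨P, α, x, hP, -, rfl⟩
    obtain ⟨ψ, hψ, hmod⟩ :=
      H88.exists_mod_extension hUp hF₀.1.1 hT ((H85.mem_autGroup hP).1 α.2)
    have h1 := disp_mem hS hE hfoc le_rfl hF₀.1.2.2.1 haut.le le_sup_right hψ
      (Subgroup.inclusion le_sup_left x)
    have h2 := T.mul_mem h1 (hmod x)
    rw [mul_assoc, mul_inv_cancel_left] at h2
    exact h2
  have hTn : (T.subgroupOf U).Normal :=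
    ⟨fun n hn g => H86.normal_of_stronglyClosed F₀ hT g.2 hn⟩
  obtain ⟨E₁, hE₁, hi⟩ := H86.exists_powerIndex _ hUp F₀ hF₀.1.1 T hT.1 hH le_rfl
  have hwn := (H86.isNormalIn_of_powerIndex hUp hF₀.1.1 hT.1 hTn hH hE₁ hi).1
  have hA : E₁.autGroup T = E.autGroup T := by
    refine le_antisymm ((H87.subsystem_autGroup_le hi.1 T).trans haut.le) ?_
    obtain ⟨-, R, hR⟩ := H85.fullyAutomized_of_fullyNormalized (hUp.to_le hT.1) hEF₀.1.1
      (H85.fullyNormalized_top E)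
    refine Subgroup.subgroupOf_eq_top.1 (H87.pResidual_sup_eq_top R ?_ ?_)
    · rw [hR]
      exact Subgroup.comap_mono (H85.autInducedBy_le_autGroup E₁ le_rfl)
    · intro a ha
      exact hi.2.2 T le_rfl (H87.pResidual_map_mono hEF₀.1.2.2.1 T ⟨a, ha, rfl⟩)
  have hEE₁ := H86.hom_le_of_autGroup_le hUp hwn hEF₀.1 hA.le
  have hXF₀ := hst X hX hXs
  have hWT : W ≤ T := (hXs.1.ge.trans (Res.hyperfocal_mono hXF₀)).trans hH
  have hXE₁ := H87.subsystem_of_pResidual hUp hX.1 hXF₀ E₁ hWT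
    fun P hP => hi.2.2 P (hP.trans hWT)
  exact fun P φ hφ => hEE₁ P (hXE₁ P hφ)

end H75.Envl
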