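import Cfsg.Agent.H75.EnvelopeBase
import Cfsg.Agent.S5243

/-!
One step down a `p`-soluble series of `Aut_F(T) / Aut_E(T)`: the factor a `p`-group, or of order
prime to `p`.
-/

set_option autoImplicit false
set_option linter.unusedSectionVars false
set_option linter.style.haveILetI false

open Cfsg Cfsg.FusionSystem

namespace H75.Envl

variable {Ω : Type*} [Group Ω] {S T : Subgroup Ω} {p : ℕ}

/-- `G` is a subsystem standing for the subgroup `K` of `Aut_F(T)`. -/
structure Stage (p : ℕ) (F : FusionSystem S) (E : FusionSystem T) (K : Subgroup (MulAut T))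
    {U : Subgroup Ω} (G : FusionSystem U) : Prop where
  base : U = actSub S T K
  wn : G.IsWeaklyNormalIn F p
  nE : E.IsNormalIn G p
  aut : G.autGroup T = K
  stable : ∀ {W : Subgroup Ω} (X : FusionSystem W), X.IsWeaklyNormalIn F p →
    Res.Stable p X → X.IsSubsystemOf G

variable [Finite S] [Fact p.Prime]

theorem stage_top (hS : IsPGroup p S) {F : FusionSystem S} {E : FusionSystem T}
    (hE : E.IsNormalIn F p) : Stage p F E (F.autGroup T) F :=
  ⟨(actSub_top hE.1.2.2.2.1).symm, Res.weaklyNormal_self hE.1.2.1, hE, rfl,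
    fun _ hX _ => hX.2.2.1⟩

/-- The step with a `p`-group as factor. -/
theorem step_pow (hS : IsPGroup p S) {F : FusionSystem S} {E : FusionSystem T}
    (hE : E.IsNormalIn F p) {K L : Subgroup (MulAut T)}
    {G : FusionSystem (actSub S T K)} (hG : Stage p F E K G)
    (hEL : E.autGroup T ≤ L) (hLK : L ≤ K) (hL : ∀ g ∈ F.autGroup T, ∀ l ∈ L, g * l * g⁻¹ ∈ L)
    (hrel : ∀ a ∈ K, ∃ k : ℕ, a ^ p ^ k ∈ L) :
    ∃ G' : FusionSystem (actSub S T L), Stage p F E L G' := by
  let U := actSub S T K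
  let V := actSub S T L
  have hTS := hE.1.2.2.2.1.1
  have hT := hE.1.2.2.2.1
  haveI : Finite T := H85.finite_of_le hTS
  have hInn : Cfsg.Inn T ≤ L := (H85.inn_le_autGroup E le_rfl).trans hEL
  have hTV : T ≤ V := le_actSub hTS hInn
  have hVU : V ≤ U := actSub_mono hLK
  have hTU : T ≤ U := hTV.trans hVU
  haveI : Finite U := H85.finite_of_le actSub_le
  haveI : Finite V := H85.finite_of_le actSub_le
  have hUp : IsPGroup p U := hS.to_le actSub_le
  have hTG : G.StronglyClosed T := hG.nE.1.2.2.2.1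
  -- automorphisms of order prime to `p`
  have hcopL : ∀ a ∈ K, Nat.Coprime (orderOf a) p → a ∈ L := by
    intro a ha hc
    obtain ⟨k, hk⟩ := hrel a ha
    obtain ⟨m, hm⟩ := exists_pow_eq_self_of_coprime (n := p ^ k) (x := a)
      (Nat.Coprime.pow_left k (Nat.Coprime.symm hc))
    exact hm ▸ pow_mem hk m
  have hres : (Cfsg.pResidual p (G.autGroup T)).map (G.autGroup T).subtype ≤ L := by
    rw [Cfsg.pResidual, MonoidHom.map_closure, Subgroup.closure_le]
    rintro _ ⟨a, ha, rfl⟩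
    refine hcopL _ (hG.aut.le a.2) ?_
    rw [Subgroup.coe_subtype, Subgroup.orderOf_coe]
    exact ha
  have hH : G.hyperfocalSubgroup p ≤ V := by
    intro x hx
    obtain ⟨α, hα, he⟩ := H87.hyperfocal_action hUp hG.wn.1 hTG x hx
    exact ⟨actSub_le (H87.hyperfocal_le G p hx), α, sup_le hres hInn hα, he⟩
  have hVn : (V.subgroupOf U).Normal :=
    ⟨fun n hn g => map_mem_actSub hT hL hTU
      (F.conj_mem actSub_le (actSub_le g.2)) (x := n) hn⟩
  have hVG := H86.stronglyClosed_of_hyperfocal_le hUp hG.wn.1 hVU hVn hH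
  have hVF := stronglyClosed_actSub hT hL hLK hTU hG.wn hVG
  obtain ⟨G', hG's, hi⟩ := H86.exists_powerIndex _ hUp G hG.wn.1 V hVU hH le_rfl
  have hwn := weaklyNormal_of_powerIndex hS hG.wn hVF hVU hH hG's hi
  have hEG : E.IsSubsystemOf G' := H87.subsystem_of_pResidual hUp hE.1.1 hG.nE.1.2.2.1 G' hTV
    fun P hP => hi.2.2 P (hP.trans hTV)
  refine ⟨G', rfl, hwn, ?_, ?_, fun {W} X hX hXs => ?_⟩
  · refine normal_of_between hUp hG.nE hG's hi.1 hEG
      (fun c hc => centralizerIn_le_actSub ⟨actSub_le hc.1, hc.2⟩) fun α _ β hβ _ hc => ?_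
    have hW : T ⊔ centralizerIn U T ≤ V :=
      sup_le hTV fun c hc => centralizerIn_le_actSub ⟨actSub_le hc.1, hc.2⟩
    exact hi.2.2 _ hW ⟨⟨β, hβ⟩, H87.mem_pResidual_of_coprime (by rwa [Subgroup.orderOf_mk]), rfl⟩
  · have hTV' : G'.StronglyClosed T :=
      ⟨hTV, fun P hP φ hφ x => hTG.2 P hP φ (hi.1 P hφ) x⟩
    haveI := H85.finite_autGroup G hTU
    haveI := H85.finite_autGroup G' hTV
    obtain ⟨-, R, hR⟩ := H85.fullyAutomized_of_fullyNormalized hUp hG.wn.1
      (H86.fullyNormalized_stronglyClosed hTG)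
    obtain ⟨-, R', hR'⟩ := H85.fullyAutomized_of_fullyNormalized (hS.to_le actSub_le) hG's
      (H86.fullyNormalized_stronglyClosed hTV')
    have hresG' : (Cfsg.pResidual p (G.autGroup T)).map (G.autGroup T).subtype ≤ G'.autGroup T :=
      hi.2.2 T hTV
    apply le_antisymm
    · intro a ha
      have key : L.subgroupOf (G'.autGroup T) = ⊤ := by
        refine H87.pResidual_sup_eq_top R' ?_ ?_
        · rw [hR']
          intro b hb
          obtain ⟨g, hg, hgb⟩ := H85.mem_autInducedBy.1 hb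
          obtain ⟨-, l, hl, hle⟩ := hg
          show (b : MulAut T) ∈ L
          rw [show (b : MulAut T) = l from
            MulEquiv.ext fun t => Subtype.ext ((hgb t).trans (hle t).symm)]
          exact hl
        · intro b hb
          exact hres (H87.pResidual_map_mono hi.1 T ⟨b, hb, rfl⟩)
      exact Subgroup.subgroupOf_eq_top.1 key ha
    · intro l hl
      haveI := H86.pResidual_normal' p (G.autGroup T)
      have h1 : (⟨l, hG.aut.ge (hLK hl)⟩ : G.autGroup T) ∈
          Cfsg.pResidual p (G.autGroup T) ⊔ (R : Subgroup (G.autGroup T)) := by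
        rw [H86.pResidual_sup_sylow R]
        exact Subgroup.mem_top _
      obtain ⟨o, ho, s, hs, hos⟩ := Subgroup.mem_sup_of_normal_left.1 h1
      have hoL : (o : MulAut T) ∈ L := hres ⟨o, ho, rfl⟩
      have hl' : l = (o : MulAut T) * (s : MulAut T) := congrArg Subtype.val hos.symm
      have hsL : (s : MulAut T) ∈ L := by
        rw [show (s : MulAut T) = (o : MulAut T)⁻¹ * l by rw [hl', inv_mul_cancel_left]]
        exact L.mul_mem (L.inv_mem hoL) hl
      rw [hR] at hs
      obtain ⟨g, hg, hgs⟩ := H85.mem_autInducedBy.1 hs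
      rw [hl']
      exact mul_mem (hresG' ⟨o, ho, rfl⟩) (H85.autInducedBy_le_autGroup G' hTV
        (H85.mem_autInducedBy.2 ⟨g, ⟨actSub_le hg, _, hsL, hgs⟩, hgs⟩))
  · have hXG := hG.stable X hX hXs
    have hWV : W ≤ V := (hXs.1.ge.trans (Res.hyperfocal_mono hXG)).trans hH
    exact H87.subsystem_of_pResidual hUp hX.1 hXG G' hWV fun P hP => hi.2.2 P (hP.trans hWV)

section Prime

open H5.SubLevel Cfsg.Agent.S5243

variable {U : Subgroup Ω} [Finite U] {G : FusionSystem U} {E : FusionSystem T} {Δ : Type*}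
  [Group Δ] {χ : G.autGroup T →* Δ} {lv : ∀ P : Subgroup Ω, (P →* Ω) → Δ}

/-- The level of a map extending `a` is the value of the character at `a`. -/
theorem level_of_ext (D : Data p G E χ) (A : LAx G E χ (Nat.card U + 1) lv) {X : Subgroup Ω}
    (hTX : T ≤ X) (hXc : G.IsCentric X) {ψ : X →* Ω} (hψ : ψ ∈ G.Hom X) (a : G.autGroup T)
    (he : ∀ t : T, ψ (Subgroup.inclusion hTX t) = (((a : MulAut T) t : T) : Ω)) :
    lv X ψ = χ a := by
  haveI : Finite T := H85.finite_of_le D.sc.1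
  have hEX : E.IsCentric (X ⊓ T) := by
    rw [inf_eq_right.2 hTX]
    exact H85.centric_top E
  exact D.gv_unique hψ hEX (A.good X ψ hψ hXc (hn X) hEX)
    ⟨a, rfl, (X ⊓ T : Subgroup Ω).subtype, H85.id_mem E inf_le_right,
      fun x hx => he ⟨(x : Ω), x.2.2⟩⟩

/-- A map on a centric subgroup of level one lies in the kernel system. -/
theorem mem_kerSys_of_level (D : Data p G E χ) (A : LAx G E χ (Nat.card U + 1) lv)
    {X : Subgroup Ω} (hXc : G.IsCentric X) {ψ : X →* Ω} (hψ : ψ ∈ G.Hom X) (h : lv X ψ = 1) :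
    ψ ∈ (kerSys D A).Hom X := by
  obtain ⟨ε, hε, hl⟩ := H86.frattini_centric D.hS D.sat H86.primeData_minSysCl.inv
    H86.primeData_minSysCl.good hψ
  exact ⟨ε, hε, by rw [← level_eq_of_lev D A hXc hε hl, h], hl⟩

/-- `Aut(T)` in the kernel system is the kernel of the character. -/
theorem kerSys_autT (D : Data p G E χ) (A : LAx G E χ (Nat.card U + 1) lv) (a : G.autGroup T) :
    (a : MulAut T) ∈ (kerSys D A).autGroup T ↔ χ a = 1 := by
  have hTU := D.sc.1
  haveI : Finite T := H85.finite_of_le hTU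
  let X := extender U T (T.subtype.comp (a : MulAut T).toMonoidHom)
  have haG : H85.IsFIso G (a : MulAut T) := (H85.mem_autGroup hTU).1 a.2
  have hTX : T ≤ X := H85.le_extender hTU fun x => H85.map_mem haG x
  have hTn : G.IsFullyNormalized T := H86.fullyNormalized_stronglyClosed D.sc
  have hXc : G.IsCentric X := H85.centric_mono
    (H86.centric_pc (H85.fullyCentralized_of_fullyNormalized D.hS D.sat hTn))
    (sup_le hTX (H85.centralizerIn_le_extender _ _)) (H85.extender_le _ _)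
  constructor
  · intro h
    have hK := primeData_kerSys D A
    have hTn' : (kerSys D A).IsFullyNormalized T := H86.fullyNormalized_stronglyClosed
      ⟨hTU, fun P hP φ hφ x => D.sc.2 P hP φ (hK.sub P hφ) x⟩
    obtain ⟨ψ, hψ, hext⟩ := H85.receptive_extend
      (H85.receptive_of_fullyNormalized D.hS (isSaturated_kerSys D A) hTn')
      (e := (a : MulAut T)) ((H85.mem_autGroup hTU).1 h)
    obtain ⟨ε, hε, h1, hl⟩ := id hψ
    rw [← level_of_ext D A hTX hXc (hK.sub X hψ) a fun t => hext t t.2 (hTX t.2),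
      level_eq_of_lev D A hXc hε hl, h1]
  · intro h
    obtain ⟨ψ, hψ, hext⟩ :=
      H85.receptive_extend (H85.receptive_of_fullyNormalized D.hS D.sat hTn) haG
    have hm := mem_kerSys_of_level D A hXc hψ
      ((level_of_ext D A hTX hXc hψ a fun t => hext t t.2 (hTX t.2)).trans h)
    exact (H85.mem_autGroup hTU).2
      (H85.hom_congr (H85.restrict hm hTX) fun t => hext t t.2 (hTX t.2))

/-- The kernel system of a weakly normal system is weakly normal. -/
theorem weaklyNormal_kerSys (hS : IsPGroup p S) {F : FusionSystem S}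
    (hG : G.IsWeaklyNormalIn F p) (hTF : F.StronglyClosed T) (D : Data p G E χ)
    (A : LAx G E χ (Nat.card U + 1) lv)
    (hχ : ∀ g ∈ F.autGroup T, ∀ a a' : G.autGroup T,
      (a' : MulAut T) = g * (a : MulAut T) * g⁻¹ → χ a = 1 → χ a' = 1) :
    (kerSys D A).IsWeaklyNormalIn F p := by
  have hUc := hG.2.2.2.1
  have hUS := hUc.1
  have hTU := D.sc.1
  haveI : Finite T := H85.finite_of_le hTU
  have hK := primeData_kerSys D A
  have hGn : ∀ γ ∈ F.autGroup U, H86.NormAut G γ := fun γ hγ =>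
    H86.normAut_of_strongInv (H86.strongInv_of_invariant hG.2.2) hUS hγ
  have hMn : ∀ γ ∈ F.autGroup U, H86.NormAut (H86.minSysCl p G) γ := fun γ hγ =>
    H86.normAut_of_strongInv
      (H86.strongInv_of_invariant (H86.residual_normal hS hG).1.2.2) hUS hγ
  have hN : ∀ γ ∈ F.autGroup U, H86.NormAut (kerSys D A) γ := by
    intro γ hγ P φ hφ
    obtain ⟨ε, hε, h1, φ₀, h₀, he⟩ := id hφ
    obtain ⟨χ₀, hχ₀, hχe⟩ := hMn γ hγ P φ₀ h₀
    have hε' := (hGn γ hγ).conj_mem hε
    have hm : ∀ y, χ₀ y ∈ U := ((H86.minSysCl p G).le_of_mem hχ₀).2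
    have hlev : lv U (H86.dmap (γ * ε * γ⁻¹)) = 1 := by
      obtain ⟨β, hβ⟩ := exists_res D hε
      have hχβ : χ β = 1 := (level_res D A hε hβ).symm.trans h1
      obtain ⟨g, hg, hge⟩ := Fus.exists_aut_part hUS hTF hTU hγ
      obtain ⟨β', hβ'⟩ := exists_res D hε'
      rw [level_res D A hε' hβ']
      refine hχ g hg β β' (MulEquiv.ext fun t => Subtype.ext ?_) hχβ
      obtain ⟨u, rfl⟩ := g.surjective t
      rw [MulAut.mul_apply, MulAut.mul_apply, MulAut.inv_apply_self, hge]
      refine (hβ' (g u)).trans ?_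
      have h2 : (⟨((g u : T) : Ω), D.sc.1 (g u).2⟩ : U) = γ ⟨(u : Ω), hTU u.2⟩ :=
        Subtype.ext (hge u)
      rw [h2, MulAut.mul_apply, MulAut.mul_apply, MulAut.inv_apply_self]
      exact congrArg (fun z : U => ((γ z : U) : Ω)) (Subtype.ext (hβ u).symm)
    refine ⟨(H86.dmap (γ * ε * γ⁻¹)).comp (χ₀.codRestrict U hm),
      ⟨_, hε', hlev, χ₀, hχ₀, fun _ _ => rfl⟩, fun x hx => ?_⟩
    show (((γ * ε * γ⁻¹) ⟨χ₀ ⟨_, hx⟩, hm _⟩ : U) : Ω) = _
    rw [show (⟨χ₀ ⟨_, hx⟩, hm _⟩ : U) = γ ⟨φ₀ x, ((H86.minSysCl p G).le_of_mem h₀).2 x⟩ from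
      Subtype.ext (hχe x hx)]
    rw [MulAut.mul_apply, MulAut.mul_apply, MulAut.inv_apply_self]
    exact congrArg (fun z : U => ((γ z : U) : Ω)) (Subtype.ext (he x _).symm)
  refine ⟨isSaturated_kerSys D A, hG.2.1, fun P φ hφ => hG.2.2.1 P (hK.sub P hφ), hUc,
    fun P hP φ hφ γ hγ => ?_, fun P hP φ hφ => ?_⟩
  · obtain ⟨c, hc, he⟩ := hN γ hγ P φ hφ
    exact ⟨c, hc, fun x _ hx => he x hx⟩
  · obtain ⟨α, hα, φ₁, hφ₁, he⟩ := hG.2.2.2.2.2 P hP φ hφ
    obtain ⟨β, hβ, φ₀, hφ₀, he'⟩ := H86.frattini_centric D.hS D.sat hK.inv hK.good hφ₁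
    refine ⟨α * β, mul_mem hα ((H85.mem_autGroup hUS).2
      (hG.2.2.1 _ ((H85.mem_autGroup le_rfl).1 hβ))), φ₀, hφ₀, fun x hx => ?_⟩
    rw [he x ((G.le_of_mem hφ₁).2 x), MulAut.mul_apply]
    exact congrArg (fun z : U => (α z : Ω)) (Subtype.ext (he' x hx))

end Prime

open H5.SubLevel Cfsg.Agent.S5243 in
/-- The step with a factor of order prime to `p`. -/
theorem step_prime (hS : IsPGroup p S) {F : FusionSystem S} {E : FusionSystem T}
    (hE : E.IsNormalIn F p) {K L : Subgroup (MulAut T)}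
    {G : FusionSystem (actSub S T K)} (hG : Stage p F E K G)
    (hEL : E.autGroup T ≤ L) (hLK : L ≤ K) (hL : ∀ g ∈ F.autGroup T, ∀ l ∈ L, g * l * g⁻¹ ∈ L)
    (hrel : (L.relIndex K).Coprime p) :
    ∃ G' : FusionSystem (actSub S T L), Stage p F E L G' := by
  let U := actSub S T K
  have hTS := hE.1.2.2.2.1.1
  have hT := hE.1.2.2.2.1
  haveI : Finite T := H85.finite_of_le hTS
  haveI : Finite U := H85.finite_of_le actSub_le
  have hUp : IsPGroup p U := hS.to_le actSub_le
  have hKF : G.autGroup T ≤ F.autGroup T := H87.subsystem_autGroup_le hG.wn.2.2.1 T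
  set L' := L.subgroupOf (G.autGroup T) with hL'
  haveI : L'.Normal := ⟨fun n hn g => hL g (hKF g.2) n hn⟩
  let χ := QuotientGroup.mk' L'
  have hker : ∀ a : G.autGroup T, χ a = 1 ↔ (a : MulAut T) ∈ L := fun a =>
    QuotientGroup.eq_one_iff a
  have D : Data p G E χ := ⟨hUp, hG.nE, by
    rw [← Subgroup.index_eq_card, hL']
    show (L.relIndex (G.autGroup T)).Coprime p
    rw [hG.aut]
    exact hrel,
    fun a ha => (hker a).2 (hEL ha)⟩
  obtain ⟨lv, A⟩ := exists_level D
  have hVU : U = actSub S T L := by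
    refine le_antisymm (fun s hs => ?_) (actSub_mono hLK)
    obtain ⟨hsS, α, hα, he⟩ := hs
    obtain ⟨k, hk⟩ := hS ⟨s, hsS⟩
    have hsN : s ∈ normalizerIn S T := ⟨hsS, H88.sc_normalizer hT hsS⟩
    have hαk : α ^ p ^ k = 1 := by
      rw [show α = H85.conjAut S T ⟨s, hsN⟩ from MulEquiv.ext fun t => Subtype.ext (he t),
        ← map_pow, show (⟨s, hsN⟩ : normalizerIn S T) ^ p ^ k = 1 from Subtype.ext (by
          rw [Subgroup.coe_pow]; exact congrArg Subtype.val hk), map_one]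
    exact ⟨hsS, α, (hker ⟨α, hG.aut.ge hα⟩).1 (D.chi_pElement (k := k) hαk), he⟩
  suffices h : ∃ G' : FusionSystem U, Stage p F E L G' by rwa [hVU] at h
  have hK := primeData_kerSys D A
  have hwn : (kerSys D A).IsWeaklyNormalIn F p :=
    weaklyNormal_kerSys hS hG.wn hT D A fun g hg a a' he ha =>
      (hker a').2 (he ▸ hL g hg _ ((hker a).1 ha))
  refine ⟨kerSys D A, hVU, hwn, ?_, ?_, fun X hX hXs => ?_⟩
  · refine normal_of_between hUp hG.nE hwn.1 hK.sub (le_kerSys D A)
      (fun c hc => hc.1) fun α hα β hβ he _ => ?_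
    have hW : T ⊔ centralizerIn U T ≤ U := sup_le D.sc.1 fun c hc => hc.1
    have hWc : G.IsCentric (T ⊔ centralizerIn U T) := H86.centric_pc
      (H85.fullyCentralized_of_fullyNormalized hUp D.sat
        (H86.fullyNormalized_stronglyClosed D.sc))
    have hαG : α ∈ G.autGroup T := H87.subsystem_autGroup_le hG.nE.1.2.2.1 T hα
    refine (H85.mem_autGroup hW).2 (mem_kerSys_of_level D A hWc
      ((H85.mem_autGroup hW).1 hβ) ?_)
    rw [level_of_ext D A le_sup_left hWc ((H85.mem_autGroup hW).1 hβ) ⟨α, hαG⟩ he]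
    exact (hker _).2 (hEL hα)
  · ext a
    constructor
    · intro ha
      have haG : a ∈ G.autGroup T := H87.subsystem_autGroup_le hK.sub T ha
      exact (hker ⟨a, haG⟩).1 ((kerSys_autT D A ⟨a, haG⟩).1 ha)
    · intro ha
      exact (kerSys_autT D A ⟨a, hG.aut.ge (hLK ha)⟩).2 ((hker _).2 ha)
  · rename_i W
    have hXG := hG.stable X hX hXs
    haveI : Finite W := H85.finite_of_le hX.2.2.2.1.1
    have hWp : IsPGroup p W := hS.to_le hX.2.2.2.1.1
    have h := Res.minSysCl_le_of_pElements hUp hG.wn.1 hwn.1 hK.sub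
      (fun P hP a ha hk => H85.autGroup_mono (minSys_le_kerSys D A) P
        (Res.pElement_minSysCl hUp hG.wn.1 hP ha hk))
      (Res.weaklyNormal_of_le hS hX hG.wn.1 hG.wn.2.2.1 hXG)
    rwa [← H86.eq_minSysCl hWp hX.1 hXs.2] at h

end H75.Envl
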