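import Cfsg.Agent.H75.PReduced2
import Cfsg.Agent.H75.LLemma

/-!
The members of the family with the basic property, above a given parabolic subgroup.
-/

set_option autoImplicit false

namespace H75

open Subgroup
open scoped commutatorElement
open H70 (cj)

variable {G : Type*} [Group G] {p : ℕ}

theorem maxP_sylow_inf [Finite G] [Fact p.Prime] (T : Sylow p G) {K C : Subgroup G}
    (hTK : (T : Subgroup G) ≤ K) (hCK : C ≤ K) (hKC : K ≤ normalizer (C : Set G)) :
    MaxP p ((T : Subgroup G) ⊓ C) C := by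
  refine ⟨inf_le_right, IsPGroup.to_inf_left (K := C) T.isPGroup', fun R hR hRC hle => ?_⟩
  obtain ⟨P, hP⟩ := exists_sylow_inf_of_normalized T hTK hCK hKC
  have h1 : R.subgroupOf C = (P : Subgroup C) :=
    P.is_maximal' (IsPGroup.comap_subtype hR) (hP ▸ comap_mono hle)
  rw [hP] at h1
  have h2 := congrArg (Subgroup.map C.subtype) h1
  rwa [map_subgroupOf_eq_of_le hRC, map_subgroupOf_eq_of_le inf_le_right] at h2

/-- Frattini argument inside `K` for the Sylow subgroup `T ∩ C` of a normal subgroup `C`. -/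
theorem frattini_inf [Finite G] [Fact p.Prime] (T : Sylow p G) {K C : Subgroup G}
    (hTK : (T : Subgroup G) ≤ K) (hCK : C ≤ K) (hKC : K ≤ normalizer (C : Set G)) {k : G}
    (hk : k ∈ K) :
    ∃ c ∈ C, c * k ∈ K ⊓ normalizer (((T : Subgroup G) ⊓ C : Subgroup G) : Set G) := by
  have h := maxP_sylow_inf T hTK hCK hKC
  have h' := h.conj k
  rw [H70.cj_eq_self_iff.mpr (hKC hk)] at h'
  obtain ⟨c, hc, hck⟩ := h.exists_conj h'
  refine ⟨c, hc, mem_inf.mpr ⟨mul_mem (hCK hc) hk, H70.cj_eq_self_iff.mp ?_⟩⟩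
  rw [← H70.cj_cj, hck]

theorem pCoreOf_le_pCoreOf [Finite G] [Fact p.Prime] (T : Sylow p G) {L K : Subgroup G}
    (hTL : (T : Subgroup G) ≤ L) (hLK : L ≤ K) : Cfsg.pCoreOf p K ≤ Cfsg.pCoreOf p L :=
  le_pCoreOf ((pCoreOf_le_sylow T (hTL.trans hLK)).trans hTL) (hLK.trans (le_normalizer_pCoreOf K))
    (isPGroup_pCoreOf K)

theorem mem_charPSubgroups_iff {K : Subgroup G} :
    K ∈ Cfsg.charPSubgroups p G ↔ Cfsg.pCoreOf p K ≠ ⊥ ∧
      centralizer (Cfsg.pCoreOf p K : Set G) ≤ Cfsg.pCoreOf p K := by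
  rw [ne_eq, pCore_eq_bot_iff]
  rfl

/-- In parabolic characteristic `p` a subgroup over a Sylow subgroup lies in `𝓛` as soon as its
`p`-core is nontrivial. -/
theorem mem_charP_of_parabolic [Finite G] [Fact p.Prime]
    (hG : Cfsg.IsOfParabolicCharacteristic p G) (T : Sylow p G) {K : Subgroup G}
    (hTK : (T : Subgroup G) ≤ K) (hne : Cfsg.pCoreOf p K ≠ ⊥) :
    K ∈ Cfsg.charPSubgroups p G := by
  refine mem_charPSubgroups_iff.mpr ⟨hne, ?_⟩
  set R := Cfsg.pCoreOf p K
  set N := normalizer (R : Set G)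
  have hKN : K ≤ N := le_normalizer_pCoreOf K
  have h1 := charP_iff.mp (hG R (isPGroup_pCoreOf K) hne ⟨T, hTK.trans hKN⟩)
  have h2 : Cfsg.pCoreOf p N ≤ R := pCoreOf_le_pCoreOf T hTK hKN
  exact (le_inf (centralizer_le_normalizer _) (centralizer_le h2)).trans (h1.trans h2)

/-- `Y_L ≤ Y_K` for parabolic `L ≤ K` with `C(O_p K) ≤ O_p K`. -/
theorem largest_mono [Finite G] [Fact p.Prime] (T : Sylow p G) {L K : Subgroup G}
    (hTL : (T : Subgroup G) ≤ L) (hLK : L ≤ K)
    (hK : centralizer (Cfsg.pCoreOf p K : Set G) ≤ Cfsg.pCoreOf p K) :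
    Cfsg.largestPReducedOf p L ≤ Cfsg.largestPReducedOf p K := by
  set Y := Cfsg.largestPReducedOf p L
  have hY := redIn_largest (p := p) L
  set P := Cfsg.pCoreOf p K
  set Zc := Cfsg.omegaOne p (P ⊓ centralizer (P : Set G))
  have hYP : Y ≤ centralizer (P : Set G) :=
    le_centralizer_iff.mp ((pCoreOf_le_pCoreOf T hTL hLK).trans hY.pCoreOf_le)
  have hYZ : Y ≤ Zc := le_omegaOne hY.elem.2 (le_inf (hYP.trans hK) hYP)
  have hKP : ∀ k ∈ K, cj k P = P := fun k hk =>
    H70.cj_eq_self_iff.mpr (le_normalizer_pCoreOf K hk)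
  set V := ⨆ k : K, cj (k : G) Y with hVdef
  have hYV : Y ≤ V := by
    refine le_trans ?_ (le_iSup (fun k : K => cj (k : G) Y) 1)
    rw [Subgroup.coe_one, H70.cj_one]
  have hVZ : V ≤ Zc := iSup_le fun k => by
    refine (H70.cj_mono _ hYZ).trans ?_
    have e := H74.omegaZ_map (p := p) P (MulAut.conj (k : G)).toMonoidHom (MulAut.conj (k : G)).injective
    rw [show P.map (MulAut.conj (k : G)).toMonoidHom = P from hKP k k.2] at e
    exact e.ge
  have hVn : K ≤ normalizer (V : Set G) := by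
    intro l hl
    refine H70.cj_eq_self_iff.mp (H70.eq_of_cj_le ?_)
    rw [hVdef]
    simp only [cj, Subgroup.map_iSup]
    exact iSup_le fun k => (H70.cj_cj l (k : G) Y).le.trans
      (le_iSup (fun k : K => cj (k : G) Y) ⟨l * k, mul_mem hl k.2⟩)
  have hPK : P ≤ K := pCoreOf_le K
  refine hYV.trans (RedIn.le_largest (L := K) ⟨hVZ.trans ((omegaOne_le _).trans
    (inf_le_left.trans hPK)), hVn, elemAb_mono (omegaOne_elemAb (centre_abelian P)) hVZ,
    fun N hNK hKN hp => ?_⟩)
  set C := centralizer (V : Set G)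
  set T0 := (T : Subgroup G) ⊓ N
  set R := resOf p N
  have hRC : R ≤ C := resOf_le_of_powInto hp
  have hT0R : T0 ≤ normalizer (R : Set G) :=
    (inf_le_right.trans le_normalizer).trans (normalizer_le_normalizer_resOf N)
  obtain ⟨P', hP'⟩ := exists_sylow_inf_of_normalized T (hTL.trans hLK) hNK hKN
  have hgen : R ⊔ T0 = N := by
    have h2 : (Cfsg.pResidual p N ⊔ (P' : Subgroup N)).map N.subtype = N := by
      rw [pResidual_sup_sylow, ← MonoidHom.range_eq_map, range_subtype]
    rwa [Subgroup.map_sup, map_pResidual_eq_resOf, hP', map_subgroupOf_eq_of_le inf_le_right] at h2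
  have hT0Y : T0 ≤ centralizer (Y : Set G) := by
    refine le_trans ?_ (hY.red (N ⊓ L) inf_le_right
      ((le_inf (hLK.trans hKN) le_normalizer).trans (normalizer_inf_le_normalizer_inf N L))
      (powInto_mono hp inf_le_left (centralizer_le hYV)))
    exact le_inf inf_le_right (inf_le_left.trans hTL)
  have hT0V : T0 ≤ C := by
    refine le_centralizer_iff.mp (iSup_le fun k => ?_)
    obtain ⟨c, hc, hcn⟩ := frattini_inf T (hTL.trans hLK) hNK hKN k.2
    obtain ⟨r, hr, t, ht, rfl⟩ := sup_eq_mul_of_le_normalizer hT0R (hgen.ge hc)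
    obtain ⟨hnK, hnT⟩ := mem_inf.mp hcn
    set n := r * t * (k : G)
    have e1 : cj (k : G) Y = cj t⁻¹ (cj r⁻¹ (cj n Y)) := by
      rw [H70.cj_cj, H70.cj_cj]
      congr 1
      simp [n, mul_assoc]
    have h1 : cj n Y ≤ V := le_iSup (fun k : K => cj (k : G) Y) ⟨n, hnK⟩
    have e2 : cj r⁻¹ (cj n Y) = cj n Y := H70.cj_eq_self_iff.mpr
      (centralizer_le_normalizer _ (centralizer_le h1 (hRC (inv_mem hr))))
    have h3 : T0 ≤ centralizer (cj n Y : Set G) := by
      intro s hs
      rw [mem_centralizer_iff]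
      rintro _ ⟨y, hy, rfl⟩
      have hs' : n⁻¹ * s * n ∈ T0 := conj'_mem_of_mem_normalizer hnT hs
      have h4 := (mem_centralizer_iff.mp (hT0Y hs')) y hy
      show n * y * n⁻¹ * s = s * (n * y * n⁻¹)
      calc n * y * n⁻¹ * s = n * (y * (n⁻¹ * s * n)) * n⁻¹ := by group
        _ = n * ((n⁻¹ * s * n) * y) * n⁻¹ := by rw [h4]
        _ = _ := by group
    rw [e1, e2, H70.cj_eq_self_iff.mpr (centralizer_le_normalizer _ (h3 (inv_mem ht)))]
    exact le_centralizer_iff.mp h3
  rw [← hgen]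
  exact sup_le hRC hT0V

theorem omegaZ_le_largest [Finite G] [Fact p.Prime] (T : Sylow p G) {L : Subgroup G}
    (hTL : (T : Subgroup G) ≤ L)
    (hL : centralizer (Cfsg.pCoreOf p L : Set G) ≤ Cfsg.pCoreOf p L) :
    Cfsg.omegaOne p ((T : Subgroup G) ⊓ centralizer ((T : Subgroup G) : Set G)) ≤
      Cfsg.largestPReducedOf p L :=
  (omega_centre_le_closure T hTL).trans
    (redIn_sylowCenterClosure (inf_le_right.trans hL : CharPSub p L)).le_largest

theorem omegaOne_ne_bot [Finite G] [hp : Fact p.Prime] {A : Subgroup G} (hA : IsPGroup p A)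
    (hne : A ≠ ⊥) : Cfsg.omegaOne p A ≠ ⊥ := by
  obtain ⟨n, hn⟩ := IsPGroup.iff_card.mp hA
  have hn0 : n ≠ 0 := fun h => hne (A.eq_bot_of_card_eq (by rw [hn, h, pow_zero]))
  obtain ⟨x, hx⟩ := exists_prime_orderOf_dvd_card' (G := A) p (hn ▸ dvd_pow_self p hn0)
  intro h
  have h1 : (x : G) ∈ Cfsg.omegaOne p A := subset_closure ⟨x.2, by
    rw [← Subgroup.coe_pow, ← hx, pow_orderOf_eq_one, Subgroup.coe_one]⟩
  rw [h, mem_bot] at h1
  have h2 : x = 1 := Subtype.ext h1
  exact hp.out.ne_one (by rw [← hx, h2, orderOf_one])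

theorem largest_ne_bot [Finite G] [Fact p.Prime] (T : Sylow p G) {L : Subgroup G}
    (hTL : (T : Subgroup G) ≤ L) (hne : Cfsg.pCoreOf p L ≠ ⊥)
    (hL : centralizer (Cfsg.pCoreOf p L : Set G) ≤ Cfsg.pCoreOf p L) :
    Cfsg.largestPReducedOf p L ≠ ⊥ := by
  intro h
  have h1 := le_bot_iff.mp (h ▸ omegaZ_le_largest T hTL hL)
  refine omegaOne_ne_bot (IsPGroup.to_inf_left (K := centralizer ((T : Subgroup G) : Set G))
    T.isPGroup') (exists_fixed T.isPGroup' T.isPGroup' le_normalizer fun e => hne ?_) h1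
  exact le_bot_iff.mp (e ▸ pCoreOf_le_sylow T hTL)

/-- The norm argument for a `p`-group `W` under a group with `p'` image. -/
theorem eq_one_of_fixed_of_mem_commutator [Finite G] [hp : Fact p.Prime] {W D : Subgroup G}
    (hWc : W ≤ centralizer (W : Set G)) (hW : IsPGroup p W) (hDW : D ≤ normalizer (W : Set G))
    (hidx : ¬ p ∣ ((centralizer (W : Set G)).subgroupOf D).index) {z : G} (hz : z ∈ ⁅W, D⁆)
    (hzD : z ∈ centralizer (D : Set G)) : z = 1 := by
  classical
  set S := (centralizer (W : Set G)).subgroupOf D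
  have hS : S.Normal :=
    normal_subgroupOf_of_le_normalizer (hDW.trans (normalizer_le_normalizer_centralizer W))
  have : Fintype (D ⧸ S) := Fintype.ofFinite _
  let _ : CommGroup W := { (inferInstance : Group W) with
    mul_comm := fun a b => Subtype.ext ((mem_centralizer_iff.mp (hWc b.2)) a a.2) }
  let φ0 : D → (W →* W) := fun d =>
    { toFun := fun a => ⟨(d : G) * a * (d : G)⁻¹, conj_mem_of_mem_normalizer (hDW d.2) a.2⟩
      map_one' := Subtype.ext (by simp)
      map_mul' := fun a b => Subtype.ext (by simp [mul_assoc]) }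
  let φ : D ⧸ S → (W →* W) := Quotient.lift φ0 (by
    intro a b hab
    have hab' : a⁻¹ * b ∈ S := QuotientGroup.leftRel_apply.mp hab
    refine MonoidHom.ext fun w => Subtype.ext ?_
    have h := (mem_centralizer_iff.mp hab') w w.2
    simp only [Subgroup.coe_mul, Subgroup.coe_inv, Subgroup.coe_subtype] at h
    show (a : G) * w * (a : G)⁻¹ = b * w * (b : G)⁻¹
    calc (a : G) * w * (a : G)⁻¹ = a * ((w : G) * ((a : G)⁻¹ * b)) * (b : G)⁻¹ := by group
      _ = a * ((a : G)⁻¹ * b * w) * (b : G)⁻¹ := by rw [h]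
      _ = _ := by group)
  let N : W →* W := ∏ q : D ⧸ S, φ q
  have hN : ∀ w, N w = ∏ q : D ⧸ S, φ q w := fun w => by simp [N]
  have hinv : ∀ (d : D) (w : W), N (φ0 d w) = N w := by
    intro d w
    rw [hN, hN]
    refine Fintype.prod_equiv (Equiv.mulRight (d : D ⧸ S)) _ _ fun q => ?_
    induction q using QuotientGroup.induction_on with
    | _ a =>
      show φ0 a (φ0 d w) = φ0 (a * d) w
      exact Subtype.ext (by simp [φ0, mul_assoc])
  have key : ⁅W, D⁆ ≤ N.ker.map W.subtype := by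
    rw [commutator_le]
    intro w hw d hd
    refine ⟨⟨w, hw⟩ * φ0 ⟨d, hd⟩ ⟨w, hw⟩⁻¹, ?_, ?_⟩
    · rw [SetLike.mem_coe, MonoidHom.mem_ker, map_mul, hinv, map_inv, mul_inv_cancel]
    · simp [φ0, commutatorElement_def, mul_assoc]
  obtain ⟨z', hz', rfl⟩ := key hz
  have hfix : ∀ q : D ⧸ S, φ q z' = z' := by
    intro q
    induction q using QuotientGroup.induction_on with
    | _ a =>
      refine Subtype.ext ?_
      show (a : G) * z' * (a : G)⁻¹ = z'
      have h1 := (mem_centralizer_iff.mp hzD) (a : G) a.2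
      rw [show (a : G) * (z' : G) = z' * a from h1, mul_inv_cancel_right]
  have h2 : N z' = 1 := hz'
  rw [hN] at h2
  simp only [hfix, Finset.prod_const, Finset.card_univ] at h2
  obtain ⟨k, hk⟩ := hW z'
  have h3 : (Fintype.card (D ⧸ S)).Coprime (p ^ k) := by
    rw [← Nat.card_eq_fintype_card]
    exact ((Nat.Prime.coprime_iff_not_dvd hp.out).mpr hidx).symm.pow_right k
  have h4 : z' = 1 := by
    rw [← orderOf_eq_one_iff]
    exact Nat.eq_one_of_dvd_coprimes h3 (orderOf_dvd_of_pow_eq_one h2) (orderOf_dvd_of_pow_eq_one hk)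
  simp [h4]

/-- Overgroups of `T` with the same action on `Y_L` and normal `T ∩ C(Y_L)` have the same `Y`. -/
theorem largest_eq_of_same_action [Finite G] [Fact p.Prime] (T : Sylow p G) {L X K : Subgroup G}
    (hTL : (T : Subgroup G) ≤ L) (hLK : L ≤ K)
    (hL : centralizer (Cfsg.pCoreOf p L : Set G) ≤ Cfsg.pCoreOf p L)
    (hKY : K ≤ normalizer (Cfsg.largestPReducedOf p L : Set G))
    (hfac0 : K ≤ L ⊔ centralizer (Cfsg.largestPReducedOf p L : Set G))
    (hTX : (T : Subgroup G) ≤ X) (hXK : X ≤ K)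
    (hXN : X ≤ normalizer (((T : Subgroup G) ⊓
      centralizer (Cfsg.largestPReducedOf p L : Set G) : Subgroup G) : Set G))
    (hfac : K ≤ X ⊔ centralizer (Cfsg.largestPReducedOf p L : Set G)) :
    Cfsg.largestPReducedOf p X = Cfsg.largestPReducedOf p L := by
  set Y := Cfsg.largestPReducedOf p L
  set C := centralizer (Y : Set G)
  set T0 := (T : Subgroup G) ⊓ C
  have hY := redIn_largest (p := p) L
  have hYT : Y ≤ (T : Subgroup G) := hY.le_pCoreOf.trans (pCoreOf_le_sylow T hTL)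
  have hYT0 : Y ≤ T0 := le_inf hYT (elemAb_le_centralizer hY.elem)
  have hKC : K ≤ normalizer (C : Set G) := hKY.trans (normalizer_le_normalizer_centralizer Y)
  have hTK : (T : Subgroup G) ≤ K := hTX.trans hXK
  -- `Y` is reduced in `X`
  have hLC : L ≤ normalizer (C : Set G) := hLK.trans hKC
  -- the group `R` and its subgroup centralizing `Y`
  set R := K ⊓ normalizer (T0 : Set G)
  set D := R ⊓ C
  set W := Cfsg.omegaOne p (T0 ⊓ centralizer (T0 : Set G))
  have hWT0 : W ≤ T0 := (omegaOne_le _).trans inf_le_left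
  have hWab : W ≤ centralizer (W : Set G) :=
    (elemAb_le_centralizer (omegaOne_elemAb (p := p) (centre_abelian T0)))
  have hWT : T0 ≤ centralizer (W : Set G) :=
    le_centralizer_iff.mp ((omegaOne_le _).trans inf_le_right)
  have hRW : R ≤ normalizer (W : Set G) := by
    intro r hr
    refine H70.cj_eq_self_iff.mp ?_
    have e := H74.omegaZ_map (p := p) T0 (MulAut.conj r).toMonoidHom (MulAut.conj r).injective
    rw [show T0.map (MulAut.conj r).toMonoidHom = T0 from
      H70.cj_eq_self_iff.mpr (mem_inf.mp hr).2] at e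
    exact e.symm
  have hTR : (T : Subgroup G) ≤ R := le_inf hTK
    ((le_inf le_normalizer (hTK.trans hKC)).trans (normalizer_inf_le_normalizer_inf _ _))
  have hRD : R ≤ normalizer (D : Set G) :=
    (le_inf le_normalizer (inf_le_left.trans hKC)).trans (normalizer_inf_le_normalizer_inf _ _)
  have hDW : D ≤ centralizer (W : Set G) := by
    rw [← commutator_eq_bot_iff_le_centralizer, commutator_comm]
    by_contra hne
    have hTn : (T : Subgroup G) ≤ normalizer ((⁅W, D⁆ : Subgroup G) : Set G) :=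
      (le_inf (hTR.trans hRW) (hTR.trans hRD)).trans (normalizer_inf_le_normalizer_commutator W D)
    have hWp : IsPGroup p W := T.isPGroup'.to_le (hWT0.trans inf_le_left)
    have hEW : ⁅W, D⁆ ≤ W :=
      le_normalizer_iff_commutator_le_left.mp (inf_le_left.trans hRW)
    obtain ⟨z, hz, hz1⟩ := (bot_or_exists_ne_one _).resolve_left
      (exists_fixed T.isPGroup' (hWp.to_le hEW) hTn hne)
    obtain ⟨hzE, hzT⟩ := mem_inf.mp hz
    have hzY : z ∈ Y := omegaZ_le_largest T hTL hL (subset_closure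
      ⟨mem_inf.mpr ⟨(hWT0.trans inf_le_left) (hEW hzE), hzT⟩,
        (omegaOne_elemAb (p := p) (centre_abelian T0)).2 z (hEW hzE)⟩)
    refine hz1 (eq_one_of_fixed_of_mem_commutator hWab hWp (inf_le_left.trans hRW) ?_ hzE
      (centralizer_le (SetLike.coe_subset_coe.mpr (inf_le_right : D ≤ C))
        (le_centralizer_iff.mp le_rfl hzY)))
    obtain ⟨P, hP⟩ := exists_sylow_inf_of_normalized T hTR (inf_le_left : D ≤ R) hRD
    intro hd
    refine P.not_dvd_index (hd.trans (index_dvd_of_le ?_))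
    rw [hP]
    exact comap_mono ((inf_le_inf_left _ inf_le_right).trans hWT)
  -- `V = Y_X`
  set V := Cfsg.largestPReducedOf p X
  have hV := redIn_largest (p := p) X
  have hYX : RedIn p Y X :=
    hY.transfer (hYT.trans hTX) (hXK.trans hKY)
      (le_antisymm (sup_le (hXK.trans hfac0) le_sup_right) (sup_le (hLK.trans hfac) le_sup_right))
  have hXcore : Cfsg.pCoreOf p X = T0 :=
    le_antisymm (le_inf (pCoreOf_le_sylow T hTX) hYX.pCoreOf_le)
      (le_pCoreOf (inf_le_left.trans hTX) hXN (IsPGroup.to_inf_left (K := C) T.isPGroup'))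
  have hVW : V ≤ W := by
    have := largest_le_omega (p := p) X
    rwa [hXcore] at this
  refine le_antisymm ?_ hYX.le_largest
  -- `L₀`, a supplement inside `L`
  set L0 := L ⊓ normalizer (T0 : Set G)
  have hL0R : L0 ≤ R := inf_le_inf_right _ hLK
  have hXR : X ≤ R := le_inf hXK hXN
  have hTL0 : (T : Subgroup G) ≤ L0 := le_inf hTL (hTR.trans inf_le_right)
  have hL0 : L ≤ L0 ⊔ C := by
    intro l hl
    have hT : (T : Subgroup G) ⊓ (L ⊓ C) = T0 := by
      rw [← inf_assoc, inf_eq_left.mpr hTL]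
    obtain ⟨c, hc, hcl⟩ := frattini_inf T hTL (inf_le_left : L ⊓ C ≤ L)
      ((le_inf le_normalizer hLC).trans (normalizer_inf_le_normalizer_inf _ _)) hl
    rw [hT] at hcl
    have := mul_mem (mem_sup_right (S := L0) (inv_mem (mem_inf.mp hc).2)) (mem_sup_left (T := C) hcl)
    simpa using this
  have hRXD : ∀ A : Subgroup G, A ≤ R → K ≤ A ⊔ C → R ≤ A ⊔ D := by
    intro A hAR hA r hr
    obtain ⟨c, hc, a, ha, e⟩ := sup_eq_mul_of_le_normalizer
      ((hAR.trans inf_le_left).trans hKC) (show r ∈ C ⊔ A by rw [sup_comm]; exact hA (mem_inf.mp hr).1)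
    have hcR : c ∈ R := by
      rw [show c = r * a⁻¹ by rw [← e]; group]
      exact mul_mem hr (inv_mem (hAR ha))
    rw [← e]
    exact mul_mem (mem_sup_right (mem_inf.mpr ⟨hcR, hc⟩)) (mem_sup_left ha)
  have hK0 : K ≤ L0 ⊔ C := hfac0.trans (sup_le hL0 le_sup_right)
  have hCV : D ≤ centralizer (V : Set G) := hDW.trans (centralizer_le hVW)
  have e1 : R ≤ L0 ⊔ centralizer (V : Set G) := (hRXD L0 hL0R hK0).trans (sup_le_sup_left hCV _)
  have e2 : R ≤ X ⊔ centralizer (V : Set G) := (hRXD X hXR hfac).trans (sup_le_sup_left hCV _)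
  have hVn : L0 ≤ normalizer (V : Set G) :=
    (hL0R.trans e2).trans (sup_le hV.norm (centralizer_le_normalizer _))
  have h1 : RedIn p V L0 := hV.transfer
    ((hVW.trans (hWT0.trans inf_le_left)).trans hTL0) hVn
    (le_antisymm (sup_le (hL0R.trans e2) le_sup_right) (sup_le (hXR.trans e1) le_sup_right))
  exact h1.le_largest.trans (largest_mono T hTL0 inf_le_left hL)

end H75
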