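import Cfsg.Agent.H75.FrakM

/-!
Existence of members with the basic property.
-/

set_option autoImplicit false

namespace H75

open Subgroup
open scoped commutatorElement
open H70 (cj)

variable {G : Type*} [Group G] {p : ℕ}

theorem exists_min_supplement [Finite G] [Fact p.Prime] (T : Sylow p G) {X C : Subgroup G}
    (hTX : (T : Subgroup G) ≤ X) :
    ∃ M : Subgroup G, (T : Subgroup G) ≤ M ∧ M ≤ X ∧ X ≤ M ⊔ C ∧
      ∀ U : Subgroup G, (T : Subgroup G) ≤ U → U ≤ M → X ≤ U ⊔ C → U = M := by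
  obtain ⟨M, ⟨h1, h2, h3⟩, hmin⟩ := exists_min_card
    (P := fun M : Subgroup G => (T : Subgroup G) ≤ M ∧ M ≤ X ∧ X ≤ M ⊔ C)
    ⟨X, hTX, le_rfl, le_sup_left⟩
  exact ⟨M, h1, h2, h3, fun U hU hUM hX =>
    Subgroup.eq_of_le_of_card_ge hUM (hmin U ⟨hU, hUM.trans h2, hX⟩)⟩

/-- The properties of a minimal supplement. -/
theorem min_supplement_props [Finite G] [Fact p.Prime] (T : Sylow p G) {M C : Subgroup G}
    (hTM : (T : Subgroup G) ≤ M) (hMC : M ≤ normalizer (C : Set G))
    (hmin : ∀ U : Subgroup G, (T : Subgroup G) ≤ U → U ≤ M → M ≤ U ⊔ C → U = M) :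
    Cfsg.IsPClosed p ↥(M ⊓ C) ∧
      ((M ⊓ C).subgroupOf M).map (QuotientGroup.mk' (Cfsg.pCore p ↥M)) ≤
        frattini (↥M ⧸ Cfsg.pCore p ↥M) := by
  set D := M ⊓ C
  have hDn : M ≤ normalizer (D : Set G) :=
    (le_inf le_normalizer hMC).trans (normalizer_inf_le_normalizer_inf _ _)
  set T0 := (T : Subgroup G) ⊓ D
  have hTn : (T : Subgroup G) ≤ normalizer (T0 : Set G) :=
    (le_inf le_normalizer (hTM.trans hDn)).trans (normalizer_inf_le_normalizer_inf _ _)
  have hMn : M ≤ normalizer (T0 : Set G) := by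
    refine inf_eq_left.mp (hmin _ (le_inf hTM hTn) inf_le_left fun m hm => ?_)
    obtain ⟨c, hc, hcm⟩ := frattini_inf T hTM (inf_le_left : D ≤ M) hDn hm
    have := mul_mem (mem_sup_right (S := M ⊓ normalizer (T0 : Set G)) (inv_mem (mem_inf.mp hc).2))
      (mem_sup_left (T := C) hcm)
    simpa using this
  obtain ⟨P, hP⟩ := exists_sylow_inf_of_normalized T hTM (inf_le_left : D ≤ M) hDn
  have hPn : (P : Subgroup D).Normal := by
    rw [hP]; exact normal_subgroupOf_of_le_normalizer ((inf_le_left : D ≤ M).trans hMn)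
  refine ⟨isPClosed_of_normal P hPn, ?_⟩
  unfold frattini
  rw [Order.radical]
  refine le_iInf₂ fun Ub hUb => ?_
  set q := QuotientGroup.mk' (Cfsg.pCore p ↥M)
  have hUb' : IsCoatom (Ub.comap q) := isCoatom_comap_of_surjective (QuotientGroup.mk'_surjective _) hUb
  rw [map_le_iff_le_comap]
  set U := Ub.comap q
  by_contra hDU
  set D' := D.subgroupOf M
  have hDn' : D'.Normal := normal_subgroupOf_of_le_normalizer hDn
  have hsup : U ⊔ D' = ⊤ := hUb'.2 _ (lt_of_le_of_ne le_sup_left fun e => hDU (e ▸ le_sup_right))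
  have hcore : Cfsg.pCore p ↥M ≤ U := fun x hx => by
    rw [mem_comap, show q x = 1 from (QuotientGroup.eq_one_iff x).mpr hx]; exact one_mem _
  -- `U` contains a Sylow subgroup of `M`
  obtain ⟨S⟩ := (inferInstance : Nonempty (Sylow p U))
  obtain ⟨S', hS'⟩ := (S.isPGroup'.map U.subtype).exists_le_sylow
  have hT0core : T0.subgroupOf M ≤ Cfsg.pCore p ↥M := by
    have := normal_subgroupOf_of_le_normalizer hMn
    exact H1.le_pCore ((IsPGroup.to_inf_left (K := D) T.isPGroup').comap_subtype)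
  have hidx : ¬ p ∣ U.index := by
    intro hd
    have h1 : U.index ∣ (T0.subgroupOf D).index := by
      rw [← relIndex_top_right, ← hsup, relIndex_sup_normal U D']
      refine dvd_trans (relIndex_dvd_of_le_left D' (hT0core.trans hcore)) ?_
      rw [show T0.subgroupOf M = (T0.subgroupOf M) from rfl, ← relIndex_top_right,
        show (⊤ : Subgroup D) = D.subgroupOf D from (subgroupOf_self D).symm]
      rw [relIndex_subgroupOf le_rfl, show D' = D.subgroupOf M from rfl,
        relIndex_subgroupOf (inf_le_left : D ≤ M)]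
    rw [← hP] at h1
    exact P.not_dvd_index (hd.trans h1)
  have hSS' : (S' : Subgroup M) ≤ U := by
    have h1 := Sylow.card_eq_multiplicity S'
    have h2 := Sylow.card_eq_multiplicity S
    have h3 : (Nat.card M).factorization p = (Nat.card U).factorization p := by
      rw [← Subgroup.card_mul_index U, Nat.factorization_mul Nat.card_pos.ne' index_ne_zero_of_finite,
        Finsupp.add_apply, Nat.factorization_eq_zero_of_not_dvd hidx, add_zero]
    have h4 : (S : Subgroup U).map U.subtype = (S' : Subgroup M) :=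
      Subgroup.eq_of_le_of_card_ge hS' (by
        rw [h1, h3, ← h2, card_map_of_injective U.subtype_injective])
    rw [← h4]
    exact map_subtype_le _
  obtain ⟨m, hm⟩ := MulAction.exists_smul_eq M S' (T.subtype hTM)
  set U1 := cj m U
  have hTU1 : (T : Subgroup G) ≤ U1.map M.subtype := by
    intro t ht
    refine ⟨⟨t, hTM ht⟩, ?_, rfl⟩
    have : (⟨t, hTM ht⟩ : M) ∈ ((T.subtype hTM : Sylow p M) : Subgroup M) := ht
    rw [← hm, Sylow.coe_subgroup_smul] at this
    exact H70.cj_mono m hSS' this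
  have hU1top : U1 ⊔ D' = ⊤ := by
    have h := congrArg (Subgroup.map (MulAut.conj m).toMonoidHom) hsup
    rwa [Subgroup.map_sup, show D'.map (MulAut.conj m).toMonoidHom = D' from
      Normal.map_conj_eq D' m, map_top_of_surjective _ (MulAut.conj m).surjective] at h
  have h5 := hmin (U1.map M.subtype) hTU1 (map_subtype_le _) (by
    have h := congrArg (Subgroup.map M.subtype) hU1top
    rw [Subgroup.map_sup, map_subgroupOf_eq_of_le (inf_le_left : D ≤ M), ← MonoidHom.range_eq_map,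
      range_subtype] at h
    exact h.ge.trans (sup_le_sup_left inf_le_right _))
  refine hUb'.1 ?_
  have h6 : U1 = ⊤ := by
    apply Subgroup.map_injective M.subtype_injective
    rw [h5, ← MonoidHom.range_eq_map, range_subtype]
  apply Subgroup.map_injective (f := (MulAut.conj m).toMonoidHom) (MulAut.conj m).injective
  rw [map_top_of_surjective _ (MulAut.conj m).surjective]
  exact h6

/-- `N(Y)` for `Y = Y_X` of a parabolic `X` lies in `𝓛`. -/
theorem normalizer_largest_mem [Finite G] [Fact p.Prime]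
    (hG : Cfsg.IsOfParabolicCharacteristic p G) (T : Sylow p G) {X : Subgroup G}
    (hTX : (T : Subgroup G) ≤ X) (hX : X ∈ Cfsg.charPSubgroups p G) :
    normalizer (Cfsg.largestPReducedOf p X : Set G) ∈ Cfsg.charPSubgroups p G := by
  obtain ⟨hne, hc⟩ := mem_charPSubgroups_iff.mp hX
  have hY := redIn_largest (p := p) X
  refine mem_charP_of_parabolic hG T (hTX.trans hY.norm) fun h => largest_ne_bot T hTX hne hc ?_
  exact le_bot_iff.mp (h ▸ le_pCoreOf le_normalizer le_rfl (elemAb_isPGroup hY.elem))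

theorem exists_frakM [Finite G] [Fact p.Prime] (hG : Cfsg.IsOfParabolicCharacteristic p G)
    (T : Sylow p G) {L : Subgroup G} (hTL : (T : Subgroup G) ≤ L)
    (hL : L ∈ Cfsg.charPSubgroups p G) :
    ∃ M Ls : Subgroup G, (T : Subgroup G) ≤ M ∧ Cfsg.IsInFrakM p M ∧ (T : Subgroup G) ≤ Ls ∧
      Ls ≤ M ∧ Ls ∈ Cfsg.charPSubgroups p G ∧
      Cfsg.largestPReducedOf p L = Cfsg.largestPReducedOf p Ls ∧
      Cfsg.largestPReducedOf p L ≤ Cfsg.largestPReducedOf p M ∧
      L ⊔ centralizer (Cfsg.largestPReducedOf p L : Set G) =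
        Ls ⊔ centralizer (Cfsg.largestPReducedOf p L : Set G) := by
  set YL := Cfsg.largestPReducedOf p L with hYLdef
  let Cand : Subgroup G → Prop := fun Y => ∃ X : Subgroup G, (T : Subgroup G) ≤ X ∧
    X ∈ Cfsg.charPSubgroups p G ∧ Y = Cfsg.largestPReducedOf p X ∧ YL ≤ Y ∧
    L ≤ (X ⊓ normalizer (YL : Set G)) ⊔ centralizer (YL : Set G)
  obtain ⟨Y, ⟨X, hTX, hX, hYX, hLY, hLX⟩, hmax⟩ := exists_max_card (P := Cand)
    ⟨YL, L, hTL, hL, rfl, le_rfl, le_sup_of_le_left (le_inf le_rfl (redIn_largest L).norm)⟩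
  set X0 := normalizer (Y : Set G) with hX0
  have hX0L : X0 ∈ Cfsg.charPSubgroups p G := hX0 ▸ hYX ▸ normalizer_largest_mem hG T hTX hX
  have hXX0 : X ≤ X0 := hX0 ▸ hYX ▸ (redIn_largest X).norm
  have hCL : centralizer (Y : Set G) ≤ centralizer (YL : Set G) :=
    centralizer_le (SetLike.coe_subset_coe.mpr hLY)
  have eqY : ∀ Z : Subgroup G, (T : Subgroup G) ≤ Z → Z ∈ Cfsg.charPSubgroups p G →
      Y ≤ Cfsg.largestPReducedOf p Z → L ≤ (Z ⊓ normalizer (YL : Set G)) ⊔ centralizer (YL : Set G) →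
      Cfsg.largestPReducedOf p Z = Y := fun Z h1 h2 h3 h4 =>
    (Subgroup.eq_of_le_of_card_ge h3 (hmax _ ⟨Z, h1, h2, rfl, hLY.trans h3, h4⟩)).symm
  have hX0c := (mem_charPSubgroups_iff.mp hX0L).2
  have hYX0 : Cfsg.largestPReducedOf p X0 = Y := eqY X0 (hTX.trans hXX0) hX0L
    (hYX ▸ largest_mono T hTX hXX0 hX0c) (hLX.trans (sup_le_sup_right (inf_le_inf_right _ hXX0) _))
  have hmaxX0 : X0 ∈ Cfsg.maxCharPSubgroups p G := by
    refine ⟨hX0L, fun Z hZ hle => le_antisymm ?_ hle⟩
    have hTZ := (hTX.trans hXX0).trans hle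
    have e := eqY Z hTZ hZ (hYX0 ▸ largest_mono T (hTX.trans hXX0) hle (mem_charPSubgroups_iff.mp hZ).2)
      (hLX.trans (sup_le_sup_right (inf_le_inf_right _ (hXX0.trans hle)) _))
    exact hX0 ▸ e ▸ (redIn_largest Z).norm
  obtain ⟨M, hTM, hMX0, hX0M, hmin⟩ := exists_min_supplement T (C := centralizer (Y : Set G))
    (hTX.trans hXX0)
  have hY0 := redIn_largest (p := p) X0
  rw [hYX0] at hY0
  have hYT : Y ≤ (T : Subgroup G) := hY0.le_pCoreOf.trans (pCoreOf_le_sylow T (hTX.trans hXX0))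
  have hMC : M ⊔ centralizer (Y : Set G) = X0 :=
    le_antisymm (sup_le hMX0 (centralizer_le_normalizer _)) hX0M
  have hYM : RedIn p Y M := hY0.transfer (hYT.trans hTM) hMX0
    (le_antisymm (sup_le_sup_right hMX0 _) (sup_le hX0M le_sup_right))
  have hMcore : Cfsg.pCoreOf p M ≠ ⊥ := fun h => by
    refine largest_ne_bot T hTX (mem_charPSubgroups_iff.mp hX).1 (mem_charPSubgroups_iff.mp hX).2 ?_
    rw [← hYX]
    exact le_bot_iff.mp (h ▸ hYM.le_pCoreOf)
  have hM : M ∈ Cfsg.charPSubgroups p G := mem_charP_of_parabolic hG T hTM hMcore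
  have hMCn : M ≤ normalizer (centralizer (Y : Set G) : Set G) :=
    hMX0.trans (normalizer_le_normalizer_centralizer Y)
  have hLM : L ≤ (M ⊓ normalizer (YL : Set G)) ⊔ centralizer (YL : Set G) := by
    refine hLX.trans (sup_le (fun x hx => ?_) le_sup_right)
    obtain ⟨hxX, hxN⟩ := mem_inf.mp hx
    obtain ⟨c, hc, m, hm, e⟩ := sup_eq_mul_of_le_normalizer hMCn
      (show x ∈ centralizer (Y : Set G) ⊔ M by rw [sup_comm]; exact hX0M (hXX0 hxX))
    have hmN : m ∈ normalizer (YL : Set G) := by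
      rw [show m = c⁻¹ * x by rw [← e]; group]
      exact mul_mem (inv_mem (centralizer_le_normalizer _ (hCL hc))) hxN
    rw [← e]
    exact mul_mem (mem_sup_right (hCL hc)) (mem_sup_left (mem_inf.mpr ⟨hm, hmN⟩))
  have hYMeq : Cfsg.largestPReducedOf p M = Y := eqY M hTM hM hYM.le_largest hLM
  have hM' : M ⊔ centralizer (Cfsg.largestPReducedOf p M : Set G) = X0 := by rw [hYMeq, hMC]
  have hprops := min_supplement_props T hTM (C := centralizer (Y : Set G))
    (hMX0.trans (normalizer_le_normalizer_centralizer Y)) fun U hU hUM hMU =>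
      hmin U hU hUM (hX0M.trans (sup_le hMU le_sup_right))
  have hfrak : Cfsg.IsInFrakM p M := by
    refine ⟨hM, hM' ▸ hmaxX0, fun Z hZ hMZ => ?_, ?_, hYMeq ▸ hprops.1, hYMeq ▸ hprops.2⟩
    · rw [hM']
      have e := eqY Z (hTM.trans hMZ) hZ.1
        (hYMeq ▸ largest_mono T hTM hMZ (mem_charPSubgroups_iff.mp hZ.1).2)
        (hLM.trans (sup_le_sup_right (inf_le_inf_right _ hMZ) _))
      exact (hZ.2 X0 hX0L (hX0 ▸ e ▸ (redIn_largest Z).norm)).symm
    · rw [hM', hYX0, hYMeq]
  -- the subgroup `L*`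
  set C := centralizer (YL : Set G)
  set K := L ⊔ C
  have hYL := redIn_largest (p := p) L
  rw [← hYLdef] at hYL
  have hKY : K ≤ normalizer (YL : Set G) := sup_le hYL.norm (centralizer_le_normalizer _)
  have hTK : (T : Subgroup G) ≤ K := hTL.trans le_sup_left
  set J := (M ⊓ normalizer (YL : Set G)) ⊓ K
  set T0 := (T : Subgroup G) ⊓ C
  set Ls := J ⊓ normalizer (T0 : Set G)
  have hTJ : (T : Subgroup G) ≤ J := le_inf (le_inf hTM (hTK.trans hKY)) hTK
  have hKC : K ≤ normalizer (C : Set G) := hKY.trans (normalizer_le_normalizer_centralizer YL)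
  have hJC : J ≤ normalizer (C : Set G) := inf_le_right.trans hKC
  have hTLs : (T : Subgroup G) ≤ Ls :=
    le_inf hTJ ((le_inf le_normalizer (hTJ.trans hJC)).trans (normalizer_inf_le_normalizer_inf _ _))
  have hLJ : L ≤ J ⊔ C := by
    intro l hl
    obtain ⟨c, hc, m, hm, e⟩ := sup_eq_mul_of_le_normalizer
      ((inf_le_right : M ⊓ normalizer (YL : Set G) ≤ _).trans (normalizer_le_normalizer_centralizer YL))
      (show l ∈ C ⊔ (M ⊓ normalizer (YL : Set G)) by rw [sup_comm]; exact hLM hl)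
    have hmK : m ∈ K := by
      rw [show m = c⁻¹ * l by rw [← e]; group]
      exact mul_mem (mem_sup_right (inv_mem hc)) (mem_sup_left hl)
    rw [← e]
    exact mul_mem (mem_sup_right hc) (mem_sup_left (mem_inf.mpr ⟨hm, hmK⟩))
  have hJLs : J ≤ Ls ⊔ C := by
    intro j hj
    have hT : (T : Subgroup G) ⊓ (J ⊓ C) = T0 := by rw [← inf_assoc, inf_eq_left.mpr hTJ]
    obtain ⟨c, hc, hcj⟩ := frattini_inf T hTJ (inf_le_left : J ⊓ C ≤ J)
      ((le_inf le_normalizer hJC).trans (normalizer_inf_le_normalizer_inf _ _)) hj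
    rw [hT] at hcj
    have := mul_mem (mem_sup_right (S := Ls) (inv_mem (mem_inf.mp hc).2)) (mem_sup_left (T := C) hcj)
    simpa using this
  have hKLs : K ≤ Ls ⊔ C := sup_le (hLJ.trans (sup_le hJLs le_sup_right)) le_sup_right
  have hLsM : Ls ≤ M := inf_le_left.trans (inf_le_left.trans inf_le_left)
  have hLsK : Ls ≤ K := inf_le_left.trans inf_le_right
  have hLsne : Cfsg.pCoreOf p Ls ≠ ⊥ := fun h => hMcore
    (le_bot_iff.mp (h ▸ pCoreOf_le_pCoreOf T hTLs hLsM))
  refine ⟨M, Ls, hTM, hfrak, hTLs, hLsM, mem_charP_of_parabolic hG T hTLs hLsne,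
    (largest_eq_of_same_action T hTL le_sup_left (mem_charPSubgroups_iff.mp hL).2 hKY le_rfl hTLs
      hLsK inf_le_right hKLs).symm,
    hLY.trans hYMeq.ge, le_antisymm hKLs (sup_le hLsK le_sup_right)⟩

end H75
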