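import Cfsg.Agent.H75.SubResidual
import Cfsg.Agent.H86.WeaklyNormalResidual
import Cfsg.Agent.H87.PowerIndex
import Cfsg.Prelude.Def_FusionReduction

/-!
The residual limit of a saturated system is weakly normal in it, and it contains every weakly normal
subsystem that is its own `p`-residual and its own `p'`-residual.
-/

set_option autoImplicit false
set_option linter.unusedSectionVars false

open Cfsg Cfsg.FusionSystem

namespace H75.Res

variable {Ω : Type*} [Group Ω] {p : ℕ}

/-- The system is its own `p`-residual and its own `p'`-residual. -/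
def Stable {U : Subgroup Ω} (p : ℕ) (X : FusionSystem U) : Prop :=
  X.hyperfocalSubgroup p = U ∧ X.IsPPrimeResidual p X

theorem limit_stable {U S : Subgroup Ω} {X : FusionSystem U} {F : FusionSystem S}
    (h : X.IsResidualLimitOf F p) : Stable p X := by
  induction h with
  | stable F p h₁ h₂ => exact ⟨h₁, h₂⟩
  | step _ _ _ _ _ _ _ ih => exact ih

theorem limit_weaklyNormal {U V : Subgroup Ω} {X : FusionSystem U} {G : FusionSystem V}
    (h : X.IsResidualLimitOf G p) : ∀ {S : Subgroup Ω} [Finite S] [Fact p.Prime],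
      IsPGroup p S → ∀ {F : FusionSystem S}, G.IsWeaklyNormalIn F p →
        X.IsWeaklyNormalIn F p := by
  induction h with
  | stable _ _ _ _ => intro S _ _ _ F hG; exact hG
  | step G p D D' hD hD' _ ih =>
    intro S _ _ hS F hG
    haveI : Finite (G.hyperfocalSubgroup p) :=
      H85.finite_of_le ((H87.hyperfocal_le G p).trans hG.2.2.2.1.1)
    have hWS : G.hyperfocalSubgroup p ≤ S := (H87.hyperfocal_le G p).trans hG.2.2.2.1.1
    have h₀ := weaklyNormal_powerIndex hS hG hD
    have h₁ := (H86.residual_normal hS h₀).1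
    rw [← H86.eq_minSysCl (hS.to_le hWS) hD.1 hD'] at h₁
    exact ih hS h₁

theorem stable_le_limit {U V W : Subgroup Ω} {X : FusionSystem U} {G : FusionSystem V}
    (h : X.IsResidualLimitOf G p) {Y : FusionSystem W} :
    ∀ [Finite V] [Fact p.Prime], IsPGroup p V → Y.IsWeaklyNormalIn G p → Stable p Y →
      Y.IsSubsystemOf X := by
  induction h with
  | stable _ _ _ _ => intro _ _ _ hY _; exact hY.2.2.1
  | step G p D D' hD hD' _ ih =>
    intro _ _ hV hY hs
    have hle : G.hyperfocalSubgroup p ≤ _ := H87.hyperfocal_le G p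
    haveI := H85.finite_of_le hle
    have hHp := hV.to_le hle
    have hYG := hY.2.2.1
    have hWH : W ≤ G.hyperfocalSubgroup p := hs.1.ge.trans (hyperfocal_mono hYG)
    haveI : Finite W := H85.finite_of_le (hWH.trans hle)
    have hYD : Y.IsSubsystemOf D :=
      H87.subsystem_of_pResidual hV hY.1 hYG D hWH fun P hP => hD.2.2.2 P (hP.trans hWH)
    have hwD : Y.IsWeaklyNormalIn D p := weaklyNormal_of_le hV hY hD.1 hD.2.1 hYD
    have hYD' : (H86.minSysCl p Y).IsSubsystemOf D' :=
      minSysCl_le_of_pElements hHp hD.1 hD'.1 hD'.2.1.1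
        (fun P hP a ha hk => H86.opAut_le_iff.1 (hD'.2.1.2 P hP) a ha hk) hwD
    rw [← H86.eq_minSysCl (hHp.to_le hWH) hY.1 hs.2] at hYD'
    exact ih hHp (weaklyNormal_of_le hHp hwD hD'.1 hD'.2.1.1 hYD') hs

/-- A weakly normal subsystem containing the residual limit has the same residual limit. -/
theorem limit_eq_of_le {S T U V : Subgroup Ω} [Finite S] [Fact p.Prime] (hS : IsPGroup p S)
    {F : FusionSystem S} (hF : F.IsSaturated p) {G : FusionSystem T}
    (hG : G.IsWeaklyNormalIn F p) {X : FusionSystem U} (hX : X.IsResidualLimitOf F p)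
    (hXG : X.IsSubsystemOf G) {Y : FusionSystem V} (hY : Y.IsResidualLimitOf G p) :
    Y.Hom = X.Hom := by
  haveI : Finite T := H85.finite_of_le hG.2.2.2.1.1
  have hXF := limit_weaklyNormal hX hS (weaklyNormal_self hF)
  refine H87.hom_eq_of_subsystem (stable_le_limit hX hS (limit_weaklyNormal hY hS hG)
    (limit_stable hY)) ?_
  exact stable_le_limit hY (hS.to_le hG.2.2.2.1.1)
    (weaklyNormal_of_le hS hXF hG.1 hG.2.2.1 hXG) (limit_stable hX)

end H75.Res
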