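import Cfsg.Agent.H75.PResidualNormal
import Cfsg.Agent.H85.Focal

/-!
A saturated subsystem `D` with hyperfocal subgroup inside `H` that contains a weakly normal subsystem
`E` over `H` contains every automorphism of order prime to `p` which is trivial modulo `H` and induces
an automorphism in `E` on a part inside `H` that is centric in `E`.
-/

set_option autoImplicit false
set_option linter.unusedSectionVars false
set_option linter.style.haveILetI false

open Cfsg Cfsg.FusionSystem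
open scoped Pointwise

namespace H75.Uniq

variable {Ω : Type*} [Group Ω] {S H : Subgroup Ω} {p : ℕ} [Finite S] [Fact p.Prime]
  {F D : FusionSystem S} {E : FusionSystem H}

/-- In `O^p(Aut_D(P))` conjugations come from `H`. -/
theorem kernel_hyperfocal (hS : IsPGroup p S) (hD : D.IsSaturated p)
    (hhyp : D.hyperfocalSubgroup p ≤ H) {P : Subgroup Ω} (hP : D.IsFullyNormalized P)
    {δ : D.autGroup P} (hδ : δ ∈ pResidual p (D.autGroup P))
    (hδS : (δ : MulAut P) ∈ autInducedBy S P) :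
    ∃ h ∈ H, ∀ x : P, (((δ : MulAut P) x : P) : Ω) = h * (x : Ω) * h⁻¹ := by
  have hPS := hP.1
  haveI : Finite P := H85.finite_of_le hPS
  let M := D.autGroup P
  haveI : Finite M := H85.finite_autGroup D hPS
  obtain ⟨-, R, hR⟩ := H85.fullyAutomized_of_fullyNormalized hS hD hP
  let K : Subgroup M := (autInducedBy H P).subgroupOf M
  suffices h : δ ∈ K from H85.mem_autInducedBy.1 h
  have hδ' : δ ∈ (groupFusionSystem (R : Subgroup M)).hyperfocalSubgroup p := by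
    rw [H85.hyperfocal_groupFusionSystem R]
    refine ⟨?_, hδ⟩
    show δ ∈ (R : Subgroup M)
    rw [hR]
    exact hδS
  refine (?_ : (groupFusionSystem (R : Subgroup M)).hyperfocalSubgroup p ≤ K) hδ'
  rw [hyperfocalSubgroup, Subgroup.closure_le]
  rintro _ ⟨Q, α, x, hQ, hα, rfl⟩
  -- automorphisms of order prime to `p` normalizing `Q`
  have key : ∀ g : M, Nat.Coprime (orderOf g) p → (∀ y : Q, g * (y : M) * g⁻¹ ∈ Q) →
      ∀ y : Q, (y : M)⁻¹ * (g * (y : M) * g⁻¹) ∈ K := by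
    intro g hg hgQ y
    let Qh : Subgroup Ω :=
      ((Q.map M.subtype).comap (H85.conjAut S P)).map (normalizerIn S P).subtype
    have hQhN : Qh ≤ normalizerIn S P := Subgroup.map_subtype_le _
    let Y := P ⊔ Qh
    have hYN : Y ≤ normalizerIn S P := sup_le (H85.le_normalizerIn hPS) hQhN
    have hYS : Y ≤ S := hYN.trans (H85.normalizerIn_le P)
    haveI : Finite Y := H85.finite_of_le hYS
    have hgF : H85.IsFIso D (g : MulAut P) := (H85.mem_autGroup hPS).1 g.2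
    obtain ⟨ψ, hψ, hψe⟩ := H85.receptive_extend
      (H85.receptive_of_fullyNormalized hS hD hP) hgF
    have hQR : ∀ q : M, q ∈ Q → ∃ s ∈ S, ∀ z : P, (((q : MulAut P) z : P) : Ω) =
        s * (z : Ω) * s⁻¹ := fun q hq => by
      have h1 : q ∈ (R : Subgroup M) := hQ hq
      rw [hR] at h1
      exact H85.mem_autInducedBy.1 h1
    have hYX : Y ≤ extender S P (P.subtype.comp (g : MulAut P).toMonoidHom) := by
      refine sup_le (H85.le_extender hPS fun z => H85.map_mem hgF z) ?_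
      rintro _ ⟨⟨s, hs⟩, hsQ, rfl⟩
      obtain ⟨q, hq, hqs⟩ := hsQ
      obtain ⟨t, ht, hte⟩ := hQR _ (hgQ ⟨q, hq⟩)
      refine H85.mem_extender.2 ⟨hs.1, hs.2, t, ht, fun z hz => ?_⟩
      refine Eq.trans ?_ (hte ((g : MulAut P) z))
      show (((g : MulAut P) ⟨s * z * s⁻¹, hz⟩ : P) : Ω) =
        ((g : MulAut P) ((q : MulAut P) ((g : MulAut P)⁻¹ ((g : MulAut P) z))) : P)
      rw [MulAut.inv_apply_self]
      refine congrArg (fun w : P => (((g : MulAut P) w : P) : Ω)) (Subtype.ext ?_)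
      exact (congrArg (fun a : MulAut P => ((a z : P) : Ω)) hqs).symm
    have hψY := H85.restrict hψ hYX
    let ψ' := ψ.comp (Subgroup.inclusion hYX)
    have hψP : ∀ z : P, ψ' ⟨(z : Ω), le_sup_left (b := Qh) z.2⟩ = (((g : MulAut P) z : P) : Ω) :=
      fun z => hψe z z.2 _
    have hact : ∀ (w : Y) (z : P), ψ' w * (((g : MulAut P) z : P) : Ω) * (ψ' w)⁻¹ =
        (((g : MulAut P) ((H85.conjAut S P ⟨w, hYN w.2⟩) z) : P) : Ω) := by
      intro w z
      rw [← hψP z, ← map_inv, ← map_mul, ← map_mul]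
      refine Eq.trans ?_ (hψP _)
      exact congrArg ψ' (Subtype.ext rfl)
    have hmapQh : ∀ w : Y, (w : Ω) ∈ Qh → ψ' w ∈ Qh := by
      intro w hw
      obtain ⟨⟨s, hs⟩, hsQ, hsw⟩ := hw
      obtain ⟨q, hq, hqs⟩ := hsQ
      have hn : ψ' w ∈ normalizerIn S P := ⟨H85.map_mem hψY w,
        H85.mem_normalizer_of_conj fun z hz => by
          obtain ⟨u, hu⟩ := (g : MulAut P).surjective ⟨z, hz⟩
          rw [show z = (((g : MulAut P) u : P) : Ω) from (congrArg Subtype.val hu).symm, hact]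
          exact SetLike.coe_mem _⟩
      refine ⟨⟨ψ' w, hn⟩, ⟨_, hgQ ⟨q, hq⟩, ?_⟩, rfl⟩
      refine MulEquiv.ext fun z => Subtype.ext ?_
      obtain ⟨u, rfl⟩ := (g : MulAut P).surjective z
      show (((g : MulAut P) ((q : MulAut P) ((g : MulAut P)⁻¹ ((g : MulAut P) u))) : P) : Ω) =
        ψ' w * (((g : MulAut P) u : P) : Ω) * (ψ' w)⁻¹
      rw [MulAut.inv_apply_self, hact]
      refine congrArg (fun a : P => (((g : MulAut P) a : P) : Ω)) (Subtype.ext ?_)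
      rw [show (q : MulAut P) = H85.conjAut S P ⟨s, hs⟩ from hqs]
      show s * (u : Ω) * s⁻¹ = (w : Ω) * u * (w : Ω)⁻¹
      rw [show (w : Ω) = s from hsw.symm]
    have hr : ψ'.range = Y := by
      refine H86.range_eq_self_of_le D hψY ?_
      rintro _ ⟨w, rfl⟩
      obtain ⟨z, hz, q, hq, hzq⟩ : ∃ z ∈ P, ∃ q ∈ Qh, z * q = (w : Ω) := by
        have h : (w : Ω) ∈ ((P : Set Ω) * (Qh : Set Ω) : Set Ω) := by
          rw [← Subgroup.coe_mul_of_right_le_normalizer_left P Qh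
            (hQhN.trans inf_le_right)]
          exact w.2
        exact h
      rw [show w = ⟨z, le_sup_left (b := Qh) hz⟩ * ⟨q, le_sup_right (a := P) hq⟩ from
        Subtype.ext hzq.symm, map_mul]
      exact mul_mem (le_sup_left (b := Qh) ((hψP ⟨z, hz⟩) ▸ SetLike.coe_mem _))
        (le_sup_right (a := P) (hmapQh _ hq))
    let β := H86.autOfHom ψ' (D.injective_of_mem hψY) hr
    have hβ : β ∈ D.autGroup Y := H86.autOfHom_mem D hψY hr
    have hpow : ∀ (n : ℕ) (z : P),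
        (((β ^ n) ⟨(z : Ω), le_sup_left (b := Qh) z.2⟩ : Y) : Ω) =
          ((((g : MulAut P) ^ n) z : P) : Ω) := by
      intro n
      induction n with
      | zero => intro z; rfl
      | succ n ih =>
        intro z
        rw [pow_succ', pow_succ', MulAut.mul_apply, MulAut.mul_apply,
          show (β ^ n) ⟨(z : Ω), le_sup_left (b := Qh) z.2⟩ =
            ⟨((((g : MulAut P) ^ n) z : P) : Ω), le_sup_left (b := Qh) (SetLike.coe_mem _)⟩ from
          Subtype.ext (ih z)]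
        exact hψP _
    obtain ⟨i, hi⟩ := PRes.exists_coprime_pow (p := p) β (orderOf_pos _)
    obtain ⟨j, hj⟩ := exists_pow_eq_self_of_coprime (n := p ^ i) (x := (g : MulAut P))
      (Nat.Coprime.pow_left i (Nat.Coprime.symm (by rwa [Subgroup.orderOf_coe])))
    set β' := (β ^ p ^ i) ^ j with hβ'
    have hβ'c : Nat.Coprime (orderOf β') p :=
      Nat.Coprime.coprime_dvd_left (orderOf_pow_dvd j) hi
    have hres : ∀ z : P, ((β' ⟨(z : Ω), le_sup_left (b := Qh) z.2⟩ : Y) : Ω) =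
        (((g : MulAut P) z : P) : Ω) := by
      intro z
      rw [hβ', ← pow_mul, hpow, pow_mul, hj]
    obtain ⟨s, hs, hsy⟩ := hQR _ y.2
    have hsN : s ∈ normalizerIn S P := ⟨hs, H85.mem_normalizer_of_induced hsy⟩
    have hsQ : s ∈ Qh := ⟨⟨s, hsN⟩, ⟨(y : M), y.2,
      MulEquiv.ext fun z => Subtype.ext (hsy z)⟩, rfl⟩
    let w : Y := ⟨s, le_sup_right (a := P) hsQ⟩
    have hd := hhyp (PRes.disp_hyperfocal (E := D) hYS (pow_mem (pow_mem hβ _) j) hβ'c w)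
    refine H85.mem_autInducedBy.2 ⟨_, hd, fun z => ?_⟩
    show ((((y : M) : MulAut P)⁻¹ ((g : MulAut P) (((y : M) : MulAut P)
      ((g : MulAut P)⁻¹ z))) : P) : Ω) = (s⁻¹ * ((β' w : Y) : Ω)) * z * (s⁻¹ * ((β' w : Y) : Ω))⁻¹
    obtain ⟨u, rfl⟩ := (g : MulAut P).surjective z
    rw [MulAut.inv_apply_self]
    have hyi : ∀ v : P, ((((y : M) : MulAut P)⁻¹ v : P) : Ω) = s⁻¹ * (v : Ω) * s := by
      intro v
      obtain ⟨v', rfl⟩ := ((y : M) : MulAut P).surjective v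
      rw [MulAut.inv_apply_self, hsy]
      group
    rw [hyi]
    have h2 : (((g : MulAut P) (((y : M) : MulAut P) u) : P) : Ω) =
        ((β' w : Y) : Ω) * (((g : MulAut P) u : P) : Ω) * ((β' w : Y) : Ω)⁻¹ := by
      rw [← hres, ← hres, ← Subgroup.coe_inv, ← Subgroup.coe_mul, ← Subgroup.coe_mul, ← map_inv,
        ← map_mul, ← map_mul]
      exact congrArg (fun v => ((β' v : Y) : Ω)) (Subtype.ext (hsy u))
    rw [h2]
    group
  -- reduce to them
  let L : Subgroup ((groupFusionSystem (R : Subgroup M)).autGroup Q) :=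
    { carrier := {β | ∀ y : Q, (y : M)⁻¹ * (((β : MulAut Q) y : Q) : M) ∈ K}
      one_mem' := fun y => by simp
      mul_mem' := fun {β γ} hβ hγ y => by
        have h2 := K.mul_mem (hγ y) (hβ ((γ : MulAut Q) y))
        simpa [mul_assoc] using h2
      inv_mem' := fun {β} hβ y => by
        have h2 := K.inv_mem (hβ ((β : MulAut Q)⁻¹ y))
        simpa [MulAut.apply_inv_self] using h2 }
  suffices hL : pResidual p ((groupFusionSystem (R : Subgroup M)).autGroup Q) ≤ L from hL hα x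
  rw [Cfsg.pResidual, Subgroup.closure_le]
  intro β hβ
  obtain ⟨-, -, g, hg⟩ := (H85.mem_autGroup hQ).1 β.2
  obtain ⟨i, hi⟩ := PRes.exists_coprime_pow (p := p) g (orderOf_pos _)
  obtain ⟨j, hj⟩ := exists_pow_eq_self_of_coprime (n := p ^ i) (x := β)
    (Nat.Coprime.pow_left i (Nat.Coprime.symm hβ))
  have hpow : ∀ (n : ℕ) (y : Q),
      ((((β : MulAut Q) ^ n) y : Q) : M) = g ^ n * (y : M) * (g ^ n)⁻¹ := by
    intro n
    induction n with
    | zero => intro y; simp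
    | succ n ih =>
      intro y
      rw [pow_succ', MulAut.mul_apply, show (((β : MulAut Q) (((β : MulAut Q) ^ n) y) : Q) : M) =
        g * ((((β : MulAut Q) ^ n) y : Q) : M) * g⁻¹ from hg _, ih, pow_succ']
      group
  have h1 : β ^ p ^ i ∈ L := fun y => by
    rw [Subgroup.coe_pow, hpow]
    exact key _ hi (fun z => hpow (p ^ i) z ▸ SetLike.coe_mem _) y
  exact hj ▸ pow_mem h1 j

/-- The hypotheses on the automorphism. -/
structure Naive (p : ℕ) (F : FusionSystem S) (E : FusionSystem H) (P : Subgroup Ω) (a : MulAut P) :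
    Prop where
  mem : a ∈ F.autGroup P
  cop : Nat.Coprime (orderOf a) p
  triv : a ∈ H86.trivMod H P
  inE : ∃ b ∈ E.autGroup (P ⊓ H),
    ∀ x : ↥(P ⊓ H), ((a ⟨x, x.2.1⟩ : P) : Ω) = ((b x : ↥(P ⊓ H)) : Ω)

/-- A lift in `D` of the automorphism induced on the part inside `H`. -/
theorem exists_lift_in (hS : IsPGroup p S) (hD : D.IsSaturated p)
    (hDF : D.IsSubsystemOf F) (hhyp : D.hyperfocalSubgroup p ≤ H) (hED : E.IsSubsystemOf D)
    (hHn : ∀ s ∈ S, ∀ t ∈ H, s * t * s⁻¹ ∈ H) {P : Subgroup Ω} (hPS : P ≤ S)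
    (hc : E.IsCentric (P ⊓ H)) (hU : D.IsFullyNormalized (P ⊓ H)) {a : MulAut P}
    (ha : Naive p F E P a) :
    ∃ g ∈ D.autGroup P, Naive p F E P g ∧
      ∀ x : ↥(P ⊓ H), ((g ⟨x, x.2.1⟩ : P) : Ω) = ((a ⟨x, x.2.1⟩ : P) : Ω) := by
  set U := P ⊓ H with hUdef
  haveI : Finite P := H85.finite_of_le hPS
  obtain ⟨b, hb, hab⟩ := ha.inE
  have hbD : H85.IsFIso D b := hED U ((H85.mem_autGroup hc.1).1 hb)
  obtain ⟨ψ, hψ, hψe⟩ :=
    H85.receptive_extend (H85.receptive_of_fullyNormalized hS hD hU) hbD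
  let C := centralizerIn S U
  let X := P ⊔ C
  have hPN : P ≤ normalizerIn S U := fun g hg => ⟨hPS hg, by
    haveI : Finite U := H85.finite_of_le (inf_le_left.trans hPS)
    exact H85.mem_normalizer_of_conj fun z hz =>
      ⟨P.mul_mem (P.mul_mem hg hz.1) (P.inv_mem hg), hHn g (hPS hg) z hz.2⟩⟩
  have hXN : X ≤ normalizerIn S U := sup_le hPN (H85.centralizerIn_le_normalizerIn U)
  have hXS : X ≤ S := hXN.trans (H85.normalizerIn_le U)
  haveI : Finite X := H85.finite_of_le hXS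
  have hconja : ∀ (g : P) (z : U),
      ((a ⟨(g : Ω) * z * (g : Ω)⁻¹, P.mul_mem (P.mul_mem g.2 z.2.1) (P.inv_mem g.2)⟩ : P) : Ω) =
        (a g : Ω) * (a ⟨z, z.2.1⟩ : P) * ((a g : P) : Ω)⁻¹ := by
    intro g z
    refine Eq.trans (congrArg (fun w : P => ((a w : P) : Ω))
      (show _ = g * ⟨(z : Ω), z.2.1⟩ * g⁻¹ from Subtype.ext rfl)) ?_
    rw [map_mul, map_mul, map_inv]
    rfl
  have hXX : X ≤ extender S U (U.subtype.comp b.toMonoidHom) := by
    refine sup_le (fun g hg => ?_) (H85.centralizerIn_le_extender _ _)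
    refine H85.mem_extender.2 ⟨hPS hg, (hPN hg).2, (a ⟨g, hg⟩ : P), hPS (SetLike.coe_mem _),
      fun z hz => ?_⟩
    show ((b ⟨g * z * g⁻¹, hz⟩ : U) : Ω) = (a ⟨g, hg⟩ : P) * ((b z : U) : Ω) * _
    rw [← hab, ← hab, ← hconja]
  have hψX := H85.restrict hψ hXX
  let ψ' := ψ.comp (Subgroup.inclusion hXX)
  have hUX : U ≤ X := le_trans inf_le_left le_sup_left
  have hψU : ∀ z : U, ψ' ⟨(z : Ω), hUX z.2⟩ = ((b z : U) : Ω) := fun z => hψe z z.2 _
  have hψC : ∀ c : X, (c : Ω) ∈ C → ψ' c ∈ C := by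
    intro c hc'
    refine H85.mem_centralizerIn.2 ⟨H85.map_mem hψX c, fun z hz => ?_⟩
    obtain ⟨u, hu⟩ := b.surjective ⟨z, hz⟩
    rw [show z = ψ' ⟨(u : Ω), hUX u.2⟩ from
      (congrArg Subtype.val hu).symm.trans (hψU u).symm, ← map_mul, ← map_mul]
    exact congrArg ψ' (Subtype.ext ((H85.mem_centralizerIn.1 hc').2 u u.2))
  have hψP : ∀ g : P, ((a g : P) : Ω)⁻¹ * ψ' ⟨(g : Ω), le_sup_left (b := C) g.2⟩ ∈ C := by
    intro g
    set g' : X := ⟨(g : Ω), le_sup_left (b := C) g.2⟩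
    refine H85.mem_centralizerIn.2
      ⟨S.mul_mem (S.inv_mem (hPS (a g).2)) (H85.map_mem hψX g'), fun z hz => ?_⟩
    obtain ⟨u, hu⟩ := b.surjective ⟨z, hz⟩
    have hz' : z = ((b u : U) : Ω) := (congrArg Subtype.val hu).symm
    have h1 : ψ' g' * ((b u : U) : Ω) * (ψ' g')⁻¹ = (a g : Ω) * ((b u : U) : Ω) * (a g : Ω)⁻¹ := by
      rw [← hψU u, ← map_inv, ← map_mul, ← map_mul]
      have hm : (g : Ω) * (u : Ω) * (g : Ω)⁻¹ ∈ U :=
        H85.conj_mem_of_mem_normalizer (hPN g.2).2 u.2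
      refine Eq.trans (congrArg ψ' (show _ = (⟨(g : Ω) * u * (g : Ω)⁻¹, hUX hm⟩ : X) from
        Subtype.ext rfl)) ((hψU ⟨_, hm⟩).trans ?_)
      rw [hψU u, ← hab, ← hab, ← hconja]
    rw [hz']
    calc ((b u : U) : Ω) * ((a g : Ω)⁻¹ * ψ' g')
        = (a g : Ω)⁻¹ * ((a g : Ω) * ((b u : U) : Ω) * (a g : Ω)⁻¹) * ψ' g' := by group
      _ = (a g : Ω)⁻¹ * (ψ' g' * ((b u : U) : Ω) * (ψ' g')⁻¹) * ψ' g' := by rw [h1]
      _ = (a g : Ω)⁻¹ * ψ' g' * ((b u : U) : Ω) := by group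
  have hr : ψ'.range = X := by
    refine H86.range_eq_self_of_le D hψX ?_
    rintro _ ⟨w, rfl⟩
    obtain ⟨g, hg, c, hc', hgc⟩ : ∃ g ∈ P, ∃ c ∈ C, g * c = (w : Ω) := by
      have h : (w : Ω) ∈ ((P : Set Ω) * (C : Set Ω) : Set Ω) := by
        rw [← Subgroup.coe_mul_of_left_le_normalizer_right P C (fun g hg => by
          haveI : Finite C := H85.finite_of_le (H85.centralizerIn_le U)
          refine H85.mem_normalizer_of_conj fun c hc' => ?_
          refine H85.mem_centralizerIn.2 ⟨S.mul_mem (S.mul_mem (hPS hg) hc'.1)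
            (S.inv_mem (hPS hg)), fun z hz => ?_⟩
          have h1 : g⁻¹ * z * g ∈ U := H85.conj_mem_of_mem_normalizer' (hPN hg).2 hz
          have h2 := (H85.mem_centralizerIn.1 hc').2 _ h1
          calc z * (g * c * g⁻¹) = g * ((g⁻¹ * z * g) * c) * g⁻¹ := by group
            _ = g * (c * (g⁻¹ * z * g)) * g⁻¹ := by rw [h2]
            _ = g * c * g⁻¹ * z := by group)]
        exact w.2
      exact h
    rw [show w = ⟨g, le_sup_left (b := C) hg⟩ * ⟨c, le_sup_right (a := P) hc'⟩ from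
      Subtype.ext hgc.symm, map_mul]
    refine mul_mem ?_ (le_sup_right (a := P) (hψC _ hc'))
    rw [← mul_inv_cancel_left ((a ⟨g, hg⟩ : P) : Ω) (ψ' _)]
    exact Subgroup.mul_mem_sup (SetLike.coe_mem _) (hψP ⟨g, hg⟩)
  let β := H86.autOfHom ψ' (D.injective_of_mem hψX) hr
  have hβ : β ∈ D.autGroup X := H86.autOfHom_mem D hψX hr
  have hpowU : ∀ (n : ℕ) (z : U),
      (((β ^ n) ⟨(z : Ω), hUX z.2⟩ : X) : Ω) = (((a ^ n) ⟨z, z.2.1⟩ : P) : Ω) ∧
        (((a ^ n) ⟨z, z.2.1⟩ : P) : Ω) ∈ U := by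
    intro n
    induction n with
    | zero => intro z; exact ⟨rfl, z.2⟩
    | succ n ih =>
      intro z
      obtain ⟨h1, h2⟩ := ih z
      have h3 : ((a ((a ^ n) ⟨(z : Ω), z.2.1⟩) : P) : Ω) = ((b ⟨_, h2⟩ : U) : Ω) :=
        (congrArg (fun w : P => ((a w : P) : Ω)) (Subtype.ext rfl)).trans (hab ⟨_, h2⟩)
      rw [pow_succ', pow_succ', MulAut.mul_apply, MulAut.mul_apply]
      refine ⟨?_, h3.symm ▸ SetLike.coe_mem _⟩
      refine Eq.trans ?_ h3.symm
      exact (congrArg ψ' (Subtype.ext h1)).trans (hψU ⟨_, h2⟩)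
  obtain ⟨i, hi⟩ := PRes.exists_coprime_pow (p := p) β (orderOf_pos _)
  obtain ⟨j, hj⟩ := exists_pow_eq_self_of_coprime (n := p ^ i) (x := a)
    (Nat.Coprime.pow_left i (Nat.Coprime.symm ha.cop))
  set β' := (β ^ p ^ i) ^ j with hβ'
  have hβ'D : β' ∈ D.autGroup X := pow_mem (pow_mem hβ _) j
  have hβ'c : Nat.Coprime (orderOf β') p := Nat.Coprime.coprime_dvd_left (orderOf_pow_dvd j) hi
  have hresU : ∀ z : U,
      ((β' ⟨(z : Ω), hUX z.2⟩ : X) : Ω) = ((a ⟨z, z.2.1⟩ : P) : Ω) := fun z => by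
    rw [hβ', ← pow_mul, (hpowU _ z).1, pow_mul, hj]
  have hdisp : ∀ w : X, (w : Ω)⁻¹ * ((β' w : X) : Ω) ∈ H := fun w =>
    hhyp (PRes.disp_hyperfocal (E := D) hXS hβ'D hβ'c w)
  have hβP : ∀ g : P, ((β' ⟨(g : Ω), le_sup_left (b := C) g.2⟩ : X) : Ω) ∈ P := by
    intro g
    set g' : X := ⟨(g : Ω), le_sup_left (b := C) g.2⟩
    rw [← mul_inv_cancel_left ((a g : P) : Ω) ((β' g' : X) : Ω)]
    refine P.mul_mem (a g).2 ?_
    set q := ((a g : P) : Ω)⁻¹ * ((β' g' : X) : Ω) with hq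
    have hqH : q ∈ H := by
      have h := H.mul_mem (H.inv_mem (ha.triv g)) (hdisp g')
      rwa [mul_inv_rev, inv_inv, mul_assoc, mul_inv_cancel_left] at h
    refine (H85.centric_self hc (H85.mem_centralizerIn.2 ⟨hqH, fun z hz => ?_⟩)).1
    obtain ⟨u, hu⟩ := b.surjective ⟨z, hz⟩
    have hz' : z = ((a ⟨u, u.2.1⟩ : P) : Ω) := by
      rw [hab]; exact (congrArg Subtype.val hu).symm
    have hm : (g : Ω) * (u : Ω) * (g : Ω)⁻¹ ∈ U :=
      H85.conj_mem_of_mem_normalizer (hPN g.2).2 u.2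
    have h1 : ((β' g' : X) : Ω) * ((a ⟨u, u.2.1⟩ : P) : Ω) * ((β' g' : X) : Ω)⁻¹ =
        (a g : Ω) * (a ⟨u, u.2.1⟩ : P) * ((a g : P) : Ω)⁻¹ := by
      rw [← hconja, ← hresU, ← hresU ⟨_, hm⟩, ← Subgroup.coe_inv, ← Subgroup.coe_mul,
        ← Subgroup.coe_mul, ← map_inv, ← map_mul, ← map_mul]
      exact congrArg (fun w : X => ((β' w : X) : Ω)) (Subtype.ext rfl)
    rw [hz', hq]
    calc ((a ⟨u, u.2.1⟩ : P) : Ω) * (((a g : P) : Ω)⁻¹ * ((β' g' : X) : Ω))
        = (a g : Ω)⁻¹ * ((a g : Ω) * (a ⟨u, u.2.1⟩ : P) * ((a g : P) : Ω)⁻¹) *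
            ((β' g' : X) : Ω) := by group
      _ = (a g : Ω)⁻¹ * (((β' g' : X) : Ω) * ((a ⟨u, u.2.1⟩ : P) : Ω) *
            ((β' g' : X) : Ω)⁻¹) * ((β' g' : X) : Ω) := by rw [h1]
      _ = (a g : Ω)⁻¹ * ((β' g' : X) : Ω) * (a ⟨u, u.2.1⟩ : P) := by group
  have hPX : P ≤ X := le_sup_left
  have hgD := H85.restrict ((H85.mem_autGroup hXS).1 hβ'D) hPX
  have hgr : ((H86.dmap β').comp (Subgroup.inclusion hPX)).range = P :=
    H86.range_eq_self_of_le D hgD (by rintro _ ⟨z, rfl⟩; exact hβP z)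
  let g := H86.autOfHom _ (D.injective_of_mem hgD) hgr
  have hg : g ∈ D.autGroup P := H86.autOfHom_mem D hgD hgr
  refine ⟨g, hg, ⟨H87.subsystem_autGroup_le hDF P hg, ?_, fun z => hdisp (Subgroup.inclusion hPX z),
    b, hb, fun z => (hresU z).trans (hab z)⟩, hresU⟩
  refine Nat.Coprime.coprime_dvd_left (orderOf_dvd_of_pow_eq_one ?_) hβ'c
  have hpg : ∀ (n : ℕ) (z : P),
      (((g ^ n) z : P) : Ω) = (((β' ^ n) (Subgroup.inclusion hPX z) : X) : Ω) := by
    intro n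
    induction n with
    | zero => intro z; rfl
    | succ n ih =>
      intro z
      rw [pow_succ', pow_succ', MulAut.mul_apply, MulAut.mul_apply,
        show (β' ^ n) (Subgroup.inclusion hPX z) = Subgroup.inclusion hPX ((g ^ n) z) from
          Subtype.ext (ih z).symm]
      rfl
  refine MulEquiv.ext fun z => Subtype.ext ?_
  rw [hpg, pow_orderOf_eq_one]
  rfl

/-- A map of `F` carries the part inside `H` onto the part inside `H`. -/
theorem map_part (hHc : F.StronglyClosed H) {P P' : Subgroup Ω} {e : P ≃* P'}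
    (he : H85.IsFIso F e) (x : P) : ((e x : P') : Ω) ∈ H ↔ (x : Ω) ∈ H :=
  H88.sc_map_mem_iff hHc he x

theorem isConj_part (hHc : F.StronglyClosed H) {P P' : Subgroup Ω} {e : P ≃* P'}
    (he : H85.IsFIso F e) : F.IsConj (P ⊓ H) (P' ⊓ H) := by
  refine ⟨_, H85.restrict he (inf_le_left : P ⊓ H ≤ P), ?_⟩
  ext y
  constructor
  · rintro ⟨x, rfl⟩
    exact ⟨SetLike.coe_mem _, (map_part hHc he ⟨x, x.2.1⟩).2 x.2.2⟩
  · rintro ⟨hy, hyH⟩
    obtain ⟨x, hx⟩ := e.surjective ⟨y, hy⟩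
    have hxH : (x : Ω) ∈ H := (map_part hHc he x).1 (by rw [hx]; exact hyH)
    exact ⟨⟨x, x.2, hxH⟩, congrArg Subtype.val hx⟩

/-- Transport of the hypotheses along a map of `F`. -/
theorem naive_congr (hE : E.IsWeaklyNormalIn F p) {P P' : Subgroup Ω} {e : P ≃* P'}
    (he : H85.IsFIso F e) {a : MulAut P} (ha : Naive p F E P a) :
    Naive p F E P' (MulAut.congr e a) := by
  have hHc := hE.2.2.2.1
  have hPS : P ≤ S := H85.source_le he
  have hP'S : P' ≤ S := he.right_le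
  haveI : Finite P' := H85.finite_of_le hP'S
  refine ⟨(H85.mem_autGroup hP'S).2
      (((he.symm.trans ((H85.mem_autGroup hPS).1 ha.mem)).trans he).congr fun _ => rfl), ?_,
    fun y => ?_, ?_⟩
  · rw [show orderOf (MulAut.congr e a) = orderOf a from MulEquiv.orderOf_eq (MulAut.congr e) a]
    exact ha.cop
  · obtain ⟨x, rfl⟩ := e.surjective y
    show ((e x : P') : Ω)⁻¹ * ((e (a (e.symm (e x))) : P') : Ω) ∈ H
    rw [MulEquiv.symm_apply_apply, ← Subgroup.coe_inv, ← Subgroup.coe_mul, ← map_inv, ← map_mul]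
    exact (map_part hHc he _).2 (ha.triv x)
  · obtain ⟨φ, hφ, hr⟩ := isConj_part hHc he
    obtain ⟨b, hb, hab⟩ := ha.inE
    have hr' : ((P'.subtype.comp e.toMonoidHom).comp
        (Subgroup.inclusion (inf_le_left : P ⊓ H ≤ P))).range = P' ⊓ H := by
      ext y
      constructor
      · rintro ⟨x, rfl⟩
        exact ⟨SetLike.coe_mem _, (map_part hHc he ⟨x, x.2.1⟩).2 x.2.2⟩
      · rintro ⟨hy, hyH⟩
        obtain ⟨x, hx⟩ := e.surjective ⟨y, hy⟩
        have hxH : (x : Ω) ∈ H := (map_part hHc he x).1 (by rw [hx]; exact hyH)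
        exact ⟨⟨x, x.2, hxH⟩, congrArg Subtype.val hx⟩
    let eU := H85.isoOf _ (H85.restrict he (inf_le_left : P ⊓ H ≤ P)) hr'
    have heU : H85.IsFIso F eU := H85.isFIso_isoOf _ _ hr'
    refine ⟨MulAut.congr eU b, H86.autGroup_transport hE inf_le_right inf_le_right heU hb,
      fun y => ?_⟩
    obtain ⟨x, rfl⟩ := eU.surjective y
    show _ = ((eU (b (eU.symm (eU x))) : ↥(P' ⊓ H)) : Ω)
    rw [MulEquiv.symm_apply_apply]
    show ((e (a (e.symm ⟨((eU x : ↥(P' ⊓ H)) : Ω), _⟩)) : P') : Ω) =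
      (e (Subgroup.inclusion inf_le_left (b x)) : Ω)
    rw [show e.symm ⟨((eU x : ↥(P' ⊓ H)) : Ω), (eU x).2.1⟩ = Subgroup.inclusion inf_le_left x from
      (MulEquiv.symm_apply_eq _).2 (Subtype.ext rfl)]
    exact congrArg (fun z : P => ((e z : P') : Ω)) (Subtype.ext (hab x))

variable (hS : IsPGroup p S) (hE : E.IsWeaklyNormalIn F p) (hD : D.IsSaturated p)
  (hDF : D.IsSubsystemOf F) (hhyp : D.hyperfocalSubgroup p ≤ H) (hED : E.IsSubsystemOf D)

include hS hE hD hDF hhyp hED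

/-- At a fully normalized subgroup over a fully normalized part: everything lies in `D`, and two
automorphisms with the same part in `E` differ by an inner one. -/
theorem mem_of_top {P : Subgroup Ω} (hP : F.IsFullyNormalized P)
    (hU : F.IsFullyNormalized (P ⊓ H)) (hc : E.IsCentric (P ⊓ H)) :
    (∀ a : MulAut P, Naive p F E P a → a ∈ D.autGroup P) ∧
      ∀ a g : MulAut P, Naive p F E P a → Naive p F E P g →
        (∀ x : ↥(P ⊓ H), a ⟨x, x.2.1⟩ = g ⟨x, x.2.1⟩) → a * g⁻¹ ∈ Cfsg.Inn P := by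
  have hHc := hE.2.2.2.1
  have hF := hE.2.1
  have hHS := hHc.1
  have hPS := hP.1
  haveI : Finite P := H85.finite_of_le hPS
  haveI : Finite (F.autGroup P) := H85.finite_autGroup F hPS
  have hHn : ∀ s ∈ S, ∀ t ∈ H, s * t * s⁻¹ ∈ H := fun s hs t ht =>
    H86.normal_of_stronglyClosed F hHc hs ht
  have hconj : ∀ {Q R : Subgroup Ω}, D.IsConj Q R → F.IsConj Q R :=
    fun h => H87.subsystem_isConj hDF h
  have hPD : D.IsFullyNormalized P := ⟨hPS, fun Q hQ => hP.2 Q (hconj hQ)⟩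
  have hUD : D.IsFullyNormalized (P ⊓ H) := ⟨hU.1, fun Q hQ => hU.2 Q (hconj hQ)⟩
  let Δ : Subgroup (F.autGroup P) :=
    { carrier := {g | (∀ x : P, (x : Ω) ∈ H → (g : MulAut P) x = x) ∧
        (g : MulAut P) ∈ H86.trivMod H P}
      one_mem' := ⟨fun _ _ => rfl, one_mem _⟩
      mul_mem' := fun {g k} hg hk => ⟨fun x hx => by
        show (g : MulAut P) ((k : MulAut P) x) = x
        rw [hk.1 x hx, hg.1 x hx], mul_mem hg.2 hk.2⟩
      inv_mem' := fun {g} hg => ⟨fun x hx => by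
        show (g : MulAut P)⁻¹ x = x
        conv_lhs => rw [← hg.1 x hx, MulAut.inv_apply_self], inv_mem hg.2⟩ }
  have hgH : ∀ (g : F.autGroup P) (x : P), (x : Ω) ∈ H → (((g : MulAut P) x : P) : Ω) ∈ H :=
    fun g x hx => H88.sc_map_mem hHc ((H85.mem_autGroup hPS).1 g.2) hx
  haveI : Δ.Normal := by
    refine ⟨fun k hk g => ⟨fun x hx => ?_, fun x => ?_⟩⟩
    · show (g : MulAut P) ((k : MulAut P) ((g : MulAut P)⁻¹ x)) = x
      have h' : ((((g : MulAut P)⁻¹) x : P) : Ω) ∈ H := hgH g⁻¹ x hx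
      rw [hk.1 _ h', MulAut.apply_inv_self]
    · have h1 := hk.2 ((g : MulAut P)⁻¹ x)
      have h2 := hgH g (((g : MulAut P)⁻¹ x)⁻¹ * (k : MulAut P) ((g : MulAut P)⁻¹ x)) h1
      rw [map_mul, map_inv, MulAut.apply_inv_self] at h2
      exact h2
  have hΔp : IsPGroup p Δ := by
    intro g
    obtain ⟨i, hi⟩ := PRes.exists_coprime_pow (p := p) (g : MulAut P) (orderOf_pos _)
    refine ⟨i, Subtype.ext (Subtype.ext ?_)⟩
    have hg := pow_mem g.2 (p ^ i)
    set k : MulAut P := ((((g : F.autGroup P) ^ p ^ i : F.autGroup P)) : MulAut P) with hk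
    show k = 1
    refine MulEquiv.ext fun x => ?_
    have h := PRes.disp_step (hS.to_le hPS) k (by rwa [hk, Subgroup.coe_pow])
      (B := {d : P | (d : Ω) ∈ H}) (A := (⊥ : Subgroup P)) (fun y => hg.2 y) (fun d hd => by
        rw [Subgroup.mem_bot, hg.1 d hd, inv_mul_cancel]) x
    rw [Subgroup.mem_bot, inv_mul_eq_one] at h
    exact h.symm
  obtain ⟨-, R, hR⟩ := H85.fullyAutomized_of_fullyNormalized hS hF hP
  have hΔR : ∀ k : F.autGroup P, k ∈ Δ → (k : MulAut P) ∈ autInducedBy S P := by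
    intro k hk
    have h := (le_sup_left.trans (R.3 (hΔp.to_sup_of_normal_left R.2) le_sup_right).le) hk
    rwa [hR] at h
  have hdiff : ∀ a g : MulAut P, Naive p F E P a → Naive p F E P g →
      (∀ x : ↥(P ⊓ H), a ⟨x, x.2.1⟩ = g ⟨x, x.2.1⟩) → a * g⁻¹ ∈ autInducedBy S P := by
    intro a g ha hg h
    refine hΔR ⟨_, mul_mem ha.mem (inv_mem hg.mem)⟩ ⟨fun x hx => ?_, mul_mem ha.triv (inv_mem hg.triv)⟩
    show a (g⁻¹ x) = x
    have hx' : ((g⁻¹ x : P) : Ω) ∈ H := hgH ⟨g⁻¹, inv_mem hg.mem⟩ x hx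
    exact (h ⟨((g⁻¹ x : P) : Ω), (g⁻¹ x).2, hx'⟩).trans (MulAut.apply_inv_self _ g x)
  have hmem : ∀ a : MulAut P, Naive p F E P a → a ∈ D.autGroup P := by
    intro a ha
    obtain ⟨g, hgD, hg, hag⟩ := exists_lift_in hS hD hDF hhyp hED hHn hPS hc hUD ha
    have h := H85.autInducedBy_le_autGroup D hPS
      (hdiff a g ha hg fun x => Subtype.ext (hag x).symm)
    simpa using mul_mem h hgD
  refine ⟨hmem, fun a g ha hg h => ?_⟩
  have hmr : ∀ (b : MulAut P) (hb : Naive p F E P b),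
      (⟨b, hmem b hb⟩ : D.autGroup P) ∈ pResidual p (D.autGroup P) := fun b hb =>
    H87.mem_pResidual_of_coprime (by rw [Subgroup.orderOf_mk]; exact hb.cop)
  have hres : (⟨a, hmem a ha⟩ * ⟨g, hmem g hg⟩⁻¹ : D.autGroup P) ∈ pResidual p (D.autGroup P) :=
    mul_mem (hmr a ha) (inv_mem (hmr g hg))
  obtain ⟨t, ht, hte⟩ := kernel_hyperfocal hS hD hhyp hPD hres (hdiff a g ha hg h)
  have htU : t ∈ P ⊓ H := H85.centric_self hc (H85.mem_centralizerIn.2 ⟨ht, fun z hz => by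
    have h1 : ((((a * g⁻¹ : MulAut P)) ⟨z, hz.1⟩ : P) : Ω) = z := by
      obtain ⟨u, hu⟩ : ∃ u : P, g u = ⟨z, hz.1⟩ := g.surjective _
      have huH : (u : Ω) ∈ H := by
        have := hgH ⟨g⁻¹, inv_mem hg.mem⟩ ⟨z, hz.1⟩ hz.2
        rwa [show g⁻¹ (⟨z, hz.1⟩ : P) = u by rw [← hu, MulAut.inv_apply_self]] at this
      rw [MulAut.mul_apply, ← hu, MulAut.inv_apply_self]
      exact congrArg Subtype.val ((h ⟨u, u.2, huH⟩).trans hu)
    have h2 := (hte ⟨z, hz.1⟩).symm.trans h1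
    exact (mul_inv_eq_iff_eq_mul.1 h2).symm⟩)
  exact ⟨⟨t, htU.1⟩, MulEquiv.ext fun x => Subtype.ext (hte x).symm⟩

/-- **Theorem.** The automorphisms trivial modulo `H` with part in `E` lie in `D`. -/
theorem mem_of_naive {P : Subgroup Ω} (hPS : P ≤ S) (hc : E.IsCentric (P ⊓ H)) {a : MulAut P}
    (ha : Naive p F E P a) : a ∈ D.autGroup P := by
  have hHc := hE.2.2.2.1
  have hF := hE.2.1
  have hHn : ∀ s ∈ S, ∀ t ∈ H, s * t * s⁻¹ ∈ H := fun s hs t ht =>
    H86.normal_of_stronglyClosed F hHc hs ht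
  have hnorm : ∀ {Q : Subgroup Ω}, Q ≤ S → normalizerIn S Q ≤ normalizerIn S (Q ⊓ H) := by
    intro Q hQ g hg
    haveI : Finite ↥(Q ⊓ H) := H85.finite_of_le (inf_le_left.trans hQ)
    exact ⟨hg.1, H85.mem_normalizer_of_conj fun x hx =>
      ⟨H85.conj_mem_of_mem_normalizer hg.2 hx.1, hHn g hg.1 x hx.2⟩⟩
  -- move to a fully normalized part in `D`
  obtain ⟨U₁, hUU₁, hU₁⟩ := H85.exists_fullyNormalized D
    (inf_le_left.trans hPS : P ⊓ H ≤ S)
  obtain ⟨χ, hχ, -, hχimg⟩ := H85.exists_map_to_fullyNormalized hS hD hU₁ hUU₁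
  have hPX : P ≤ normalizerIn S (P ⊓ H) := (H85.le_normalizerIn hPS).trans (hnorm hPS)
  have hχP := H85.restrict hχ hPX
  let P₁ := (χ.comp (Subgroup.inclusion hPX)).range
  let e : P ≃* P₁ := H85.isoOf _ hχP rfl
  have heD : H85.IsFIso D e := H85.isFIso_isoOf _ hχP rfl
  have he : H85.IsFIso F e := hDF P heD
  have hP₁S : P₁ ≤ S := he.right_le
  have hP₁U : P₁ ⊓ H = U₁ := by
    rw [← hχimg]
    ext y
    constructor
    · rintro ⟨⟨x, rfl⟩, hy⟩
      exact H85.mem_img.2 ⟨⟨(x : Ω), hPX x.2⟩, ⟨x.2, (map_part hHc he x).1 hy⟩, rfl⟩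
    · intro hy
      obtain ⟨z, hz, rfl⟩ := H85.mem_img.1 hy
      exact ⟨⟨⟨z, hz.1⟩, rfl⟩, (map_part hHc he ⟨z, hz.1⟩).2 hz.2⟩
  have hc₁ : E.IsCentric (P₁ ⊓ H) := H86.centric_of_conj hE hc (isConj_part hHc he)
  have ha₁ := naive_congr hE he ha
  suffices h₁ : MulAut.congr e a ∈ D.autGroup P₁ by
    refine (H85.mem_autGroup hPS).2 (((heD.trans ((H85.mem_autGroup hP₁S).1 h₁)).trans
      heD.symm).congr fun x => ?_)
    show (e.symm (MulAut.congr e a (e x)) : Ω) = (a x : Ω)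
    simp
  obtain ⟨g, hgD, hg, hag⟩ :=
    exists_lift_in hS hD hDF hhyp hED hHn hP₁S hc₁ (hP₁U ▸ hU₁) ha₁
  -- move to a fully normalized subgroup in `F` over a fully normalized part
  obtain ⟨P₂, hPP₂, hP₂⟩ := H85.exists_fullyNormalized F hP₁S
  obtain ⟨U₃, hUU₃, hU₃⟩ := H85.exists_fullyNormalized F (inf_le_left.trans hP₂.1 : P₂ ⊓ H ≤ S)
  obtain ⟨θ, hθ, -, hθimg⟩ := H85.exists_map_to_fullyNormalized hS hF hU₃ hUU₃
  have hX₂ : normalizerIn S P₂ ≤ normalizerIn S (P₂ ⊓ H) := hnorm hP₂.1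
  have hP₂X : P₂ ≤ normalizerIn S (P₂ ⊓ H) := (H85.le_normalizerIn hP₂.1).trans hX₂
  have hθP := H85.restrict hθ hP₂X
  let P₃ := (θ.comp (Subgroup.inclusion hP₂X)).range
  let e₂ : P₂ ≃* P₃ := H85.isoOf _ hθP rfl
  have he₂ : H85.IsFIso F e₂ := H85.isFIso_isoOf _ hθP rfl
  have hP₃U : P₃ ⊓ H = U₃ := by
    rw [← hθimg]
    ext y
    constructor
    · rintro ⟨⟨x, rfl⟩, hy⟩
      exact H85.mem_img.2 ⟨⟨(x : Ω), hP₂X x.2⟩, ⟨x.2, (map_part hHc he₂ x).1 hy⟩, rfl⟩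
    · intro hy
      obtain ⟨z, hz, rfl⟩ := H85.mem_img.1 hy
      exact ⟨⟨⟨z, hz.1⟩, rfl⟩, (map_part hHc he₂ ⟨z, hz.1⟩).2 hz.2⟩
  have hP₃n : F.IsFullyNormalized P₃ := by
    refine ⟨he₂.right_le, fun Q hQ => (hP₂.2 Q ?_).trans ?_⟩
    · exact H85.isConj_trans ⟨_, he₂, H85.IsFIso.range_eq e₂⟩ hQ
    · haveI : Finite P₃ := H85.finite_of_le he₂.right_le
      have hle : H85.img θ (normalizerIn S P₂) ≤ normalizerIn S P₃ := by
        intro y hy
        obtain ⟨x, hx, rfl⟩ := H85.mem_img.1 hy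
        refine ⟨H85.map_mem hθ x, H85.mem_normalizer_of_conj fun z hz => ?_⟩
        obtain ⟨w, rfl⟩ := hz
        refine ⟨⟨(x : Ω) * w * (x : Ω)⁻¹, H85.conj_mem_of_mem_normalizer hx.2 w.2⟩, ?_⟩
        show θ _ = θ x * θ (Subgroup.inclusion hP₂X w) * (θ x)⁻¹
        rw [← map_inv, ← map_mul, ← map_mul]
        exact congrArg θ (Subtype.ext rfl)
      haveI : Finite (normalizerIn S P₃) := H85.finite_of_le (H85.normalizerIn_le P₃)
      rw [H85.isConj_card (H85.isConj_img hθ hX₂)]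
      exact Subgroup.card_le_of_le hle
  obtain ⟨φ, hφ, hφr⟩ := hPP₂
  let e₁ : P₁ ≃* P₂ := H85.isoOf φ hφ hφr
  let f : P₁ ≃* P₃ := e₁.trans e₂
  have hf : H85.IsFIso F f := (H85.isFIso_isoOf φ hφ hφr).trans he₂
  have hinn := (mem_of_top hS hE hD hDF hhyp hED hP₃n (hP₃U ▸ hU₃)
    (H86.centric_of_conj hE hc₁ (isConj_part hHc hf))).2 _ _ (naive_congr hE hf ha₁)
    (naive_congr hE hf hg) fun x => by
      have hxH : ((f.symm ⟨(x : Ω), x.2.1⟩ : P₁) : Ω) ∈ H :=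
        (map_part hHc hf.symm ⟨(x : Ω), x.2.1⟩).2 x.2.2
      show f (MulAut.congr e a (f.symm _)) = f (g (f.symm _))
      exact congrArg f (Subtype.ext
        (hag ⟨_, (f.symm ⟨(x : Ω), x.2.1⟩).2, hxH⟩).symm)
  obtain ⟨t, ht⟩ := hinn
  have h : MulAut.congr e a * g⁻¹ ∈ D.autGroup P₁ := by
    refine H85.inn_le_autGroup D hP₁S ⟨f.symm t, ?_⟩
    apply (MulAut.congr f).injective
    rw [map_mul, map_inv, ← ht]
    refine MulEquiv.ext fun x => ?_
    show f (f.symm t * f.symm x * (f.symm t)⁻¹) = t * x * t⁻¹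
    simp
  simpa using mul_mem h hgD

end H75.Uniq
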