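import Cfsg.Agent.H75.PReduced
import Cfsg.Agent.H74.SylIn

/-!
Z_L, the factorisation Z_L = Ω₁Z(L)[Z_L, O^p(L)], and Y_L for subnormal subgroups.
-/

set_option autoImplicit false

namespace H75

open Subgroup
open scoped commutatorElement
open H70 (cj)

variable {G : Type*} [Group G] {p : ℕ}

theorem omegaOne_mono {A B : Subgroup G} (h : A ≤ B) :
    Cfsg.omegaOne p A ≤ Cfsg.omegaOne p B :=
  closure_mono fun _ hx => ⟨h hx.1, hx.2⟩

theorem omegaOne_le (A : Subgroup G) : Cfsg.omegaOne p A ≤ A :=
  (closure_le A).mpr fun _ hx => hx.1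

theorem omegaOne_elemAb {A : Subgroup G} (hA : A ≤ centralizer (A : Set G)) :
    Cfsg.IsElementaryAbelian p (Cfsg.omegaOne p A) := by
  refine ⟨le_centralizer_iff_isMulCommutative.mp
    ((omegaOne_le A).trans (hA.trans (centralizer_le (omegaOne_le A)))), fun a ha => ?_⟩
  rw [Cfsg.omegaOne] at ha
  induction ha using closure_induction with
  | mem x hx => exact hx.2
  | one => exact one_pow p
  | mul x y hx hy ihx ihy =>
    have hxA : x ∈ A := omegaOne_le A hx
    have hc : Commute x y := (mem_centralizer_iff.mp (hA (omegaOne_le A hy))) x hxA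
    rw [hc.mul_pow, ihx, ihy, one_mul]
  | inv x _ ih => rw [inv_pow, ih, inv_one]

theorem centre_abelian (A : Subgroup G) :
    A ⊓ centralizer (A : Set G) ≤ centralizer ((A ⊓ centralizer (A : Set G) : Subgroup G) : Set G) :=
  inf_le_right.trans (centralizer_le inf_le_left)

theorem le_omegaOne {A V : Subgroup G} (hV : ∀ v ∈ V, v ^ p = 1) (hVA : V ≤ A) :
    V ≤ Cfsg.omegaOne p A := fun v hv => subset_closure ⟨hVA hv, hV v hv⟩

theorem elemAb_le_omega_centre {V P : Subgroup G} (hV : Cfsg.IsElementaryAbelian p V) (hVP : V ≤ P)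
    (hc : P ≤ centralizer (V : Set G)) :
    V ≤ Cfsg.omegaOne p (P ⊓ centralizer (P : Set G)) :=
  le_omegaOne hV.2 (le_inf hVP (le_centralizer_iff.mp hc))

theorem largest_le_omega [Finite G] [Fact p.Prime] (L : Subgroup G) :
    Cfsg.largestPReducedOf p L ≤
      Cfsg.omegaOne p (Cfsg.pCoreOf p L ⊓ centralizer (Cfsg.pCoreOf p L : Set G)) :=
  elemAb_le_omega_centre (redIn_largest L).elem (redIn_largest L).le_pCoreOf
    (redIn_largest L).pCoreOf_le

theorem pCoreOf_le_sylow {L : Subgroup G} (T : Sylow p G) (hTL : (T : Subgroup G) ≤ L) :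
    Cfsg.pCoreOf p L ≤ (T : Subgroup G) := by
  refine (Subgroup.map_mono (H1.pCore_le_sylow (T.subtype hTL))).trans ?_
  rw [Sylow.coe_subtype, map_subgroupOf_eq_of_le hTL]

/-- The centre of a Sylow subgroup lies in the centre of `O_p(L)`. -/
theorem sylow_centre_le [Finite G] {L : Subgroup G} (hL : CharPSub p L)
    (S : Sylow p L) :
    ((S : Subgroup L).map L.subtype) ⊓
        centralizer (((S : Subgroup L).map L.subtype : Subgroup G) : Set G) ≤
      Cfsg.pCoreOf p L ⊓ centralizer (Cfsg.pCoreOf p L : Set G) := by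
  have h1 : Cfsg.pCoreOf p L ≤ (S : Subgroup L).map L.subtype :=
    Subgroup.map_mono (H1.pCore_le_sylow S)
  have h2 := centralizer_le (SetLike.coe_subset_coe.mpr h1)
  exact le_inf ((inf_le_inf (map_subtype_le _) h2).trans hL) (inf_le_right.trans h2)

theorem sylowCenterClosure_le_omega [Finite G] {L : Subgroup G} (hL : CharPSub p L) :
    Cfsg.sylowCenterClosure p L ≤
      Cfsg.omegaOne p (Cfsg.pCoreOf p L ⊓ centralizer (Cfsg.pCoreOf p L : Set G)) :=
  iSup_le fun S => omegaOne_mono (sylow_centre_le hL S)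

theorem redIn_sylowCenterClosure [Finite G] [Fact p.Prime] {L : Subgroup G} (hL : CharPSub p L) :
    RedIn p (Cfsg.sylowCenterClosure p L) L := by
  set Z := Cfsg.sylowCenterClosure p L
  have hZ := sylowCenterClosure_le_omega hL
  refine ⟨hZ.trans ((omegaOne_le _).trans (inf_le_left.trans (pCoreOf_le L))),
    H74.le_normalizer_sylowCenterClosure L,
    elemAb_mono (omegaOne_elemAb (centre_abelian _)) hZ, fun N hNL hLN hp => ?_⟩
  set C := centralizer (Z : Set G)
  have hN' := normal_subgroupOf_of_le_normalizer hLN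
  refine le_centralizer_iff.mp (iSup_le fun S => le_centralizer_iff.mp ?_)
  set S' := (S : Subgroup L).map L.subtype
  set U := Cfsg.omegaOne p (S' ⊓ centralizer (S' : Set G))
  have hp' : PowInto p (N.subgroupOf L) ((centralizer (U : Set G)).subgroupOf L) := fun x hx => by
    obtain ⟨k, hk⟩ := hp _ hx
    refine ⟨k, ?_⟩
    have : (x : G) ^ p ^ k ∈ centralizer (U : Set G) :=
      centralizer_le (SetLike.coe_subset_coe.mpr (le_iSup (fun S : Sylow p L => Cfsg.omegaOne p
        (((S : Subgroup L).map L.subtype) ⊓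
          centralizer (((S : Subgroup L).map L.subtype : Subgroup G) : Set G))) S)) hk
    simpa [mem_subgroupOf] using this
  have h := le_of_powInto S hp' fun x hx => by
    rw [mem_subgroupOf]
    have h1 : (x : G) ∈ S' := mem_map_of_mem _ (mem_inf.mp hx).1
    exact centralizer_le (SetLike.coe_subset_coe.mpr (omegaOne_le _))
      (le_centralizer_iff.mp inf_le_right h1)
  intro x hx
  exact h (show (⟨x, hNL hx⟩ : L) ∈ N.subgroupOf L from hx)

theorem omega_centre_le_closure [Finite G] (T : Sylow p G) {L : Subgroup G}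
    (hTL : (T : Subgroup G) ≤ L) :
    Cfsg.omegaOne p ((T : Subgroup G) ⊓ centralizer ((T : Subgroup G) : Set G)) ≤
      Cfsg.sylowCenterClosure p L := by
  refine le_trans ?_ (le_iSup _ (T.subtype hTL))
  rw [Sylow.coe_subtype, map_subgroupOf_eq_of_le hTL]

/-! ### averaging over an orbit -/

/-- An element of an abelian normal subgroup with centralizer of index prime to `p` is, modulo
commutators, a fixed point. -/
theorem exists_fixed_congr [Finite G] [Fact p.Prime] {Z W L : Subgroup G}
    (hZ : Cfsg.IsElementaryAbelian p Z) (hLZ : L ≤ normalizer (Z : Set G))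
    (hW : ⁅Z, L⁆ ≤ W) {z : G} (hz : z ∈ Z)
    (hidx : ¬ p ∣ ((centralizer ({z} : Set G)).subgroupOf L).index) :
    z ∈ (Z ⊓ centralizer (L : Set G)) ⊔ W := by
  classical
  set S := (centralizer ({z} : Set G)).subgroupOf L
  have := hZ.1
  let f : L ⧸ S → Z := Quotient.lift
    (fun l : L => (⟨(l : G) * z * (l : G)⁻¹, conj_mem_of_mem_normalizer (hLZ l.2) hz⟩ : Z)) (by
      intro a b hab
      have hab' : a⁻¹ * b ∈ S := QuotientGroup.leftRel_apply.mp hab
      have h := (mem_centralizer_iff.mp hab') z rfl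
      apply Subtype.ext
      simp only [coe_mul, coe_inv, coe_subtype] at h ⊢
      calc (a : G) * z * (a : G)⁻¹
          = a * (z * ((a : G)⁻¹ * b)) * (b : G)⁻¹ := by group
        _ = a * ((a : G)⁻¹ * b * z) * (b : G)⁻¹ := by rw [h]
        _ = b * z * (b : G)⁻¹ := by group)
  have hfint : Fintype (L ⧸ S) := Fintype.ofFinite _
  let _ : CommGroup Z := { (inferInstance : Group Z) with
    mul_comm := fun a b => mul_comm' a b }
  set t : Z := ∏ q, f q
  have htfix : (t : G) ∈ centralizer (L : Set G) := by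
    rw [mem_centralizer_iff]
    intro l hl
    let e : Z →* Z :=
      { toFun := fun a => ⟨l * a * l⁻¹, conj_mem_of_mem_normalizer (hLZ hl) a.2⟩
        map_one' := Subtype.ext (by simp)
        map_mul' := fun a b => Subtype.ext (by simp [mul_assoc]) }
    have h1 : ∀ q : L ⧸ S, e (f q) = f ((⟨l, hl⟩ : L) • q) := by
      intro q
      induction q using QuotientGroup.induction_on with
      | _ a =>
        apply Subtype.ext
        show l * ((a : G) * z * (a : G)⁻¹) * l⁻¹ = (l * (a : G)) * z * (l * (a : G))⁻¹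
        group
    have h2 : e t = t := by
      rw [map_prod]
      simp_rw [h1]
      exact Fintype.prod_equiv (MulAction.toPerm (⟨l, hl⟩ : L)) _ _ (fun _ => rfl)
    have h3 : l * (t : G) * l⁻¹ = t := congrArg Subtype.val h2
    exact mul_inv_eq_iff_eq_mul.mp h3
  let W' : Subgroup Z := W.subgroupOf Z
  have hW'n : W'.Normal := ⟨fun a ha b => by rwa [mul_comm b a, mul_inv_cancel_right]⟩
  have hcong : QuotientGroup.mk' W' t = QuotientGroup.mk' W' ⟨z, hz⟩ ^ S.index := by
    rw [map_prod, Subgroup.index, Nat.card_eq_fintype_card, ← Finset.card_univ, ← Finset.prod_const]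
    refine Finset.prod_congr rfl fun q _ => ?_
    induction q using QuotientGroup.induction_on with
    | _ a =>
      refine (QuotientGroup.eq.mpr ?_)
      rw [mem_subgroupOf]
      have h1 : ⁅(a : G), z⁆ ∈ W := hW (by rw [commutator_comm]; exact commutator_mem_commutator a.2 hz)
      show ((⟨_, _⟩ : Z)⁻¹ * (⟨z, hz⟩ : Z) : G) ∈ W
      have : ((a : G) * z * (a : G)⁻¹)⁻¹ * z ∈ W := by
        have hcz : (a : G) * z * (a : G)⁻¹ * z⁻¹ = z⁻¹ * ((a : G) * z * (a : G)⁻¹) := by
          exact congrArg Subtype.val (mul_comm'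
            (⟨_, conj_mem_of_mem_normalizer (hLZ a.2) hz⟩ : Z) (⟨z⁻¹, inv_mem hz⟩ : Z))
        rw [commutatorElement_def, hcz] at h1
        simpa using inv_mem h1
      exact this
  have hmem : z ^ S.index ∈ (Z ⊓ centralizer (L : Set G)) ⊔ W := by
    rw [← map_pow] at hcong
    have h1 : (t : G)⁻¹ * z ^ S.index ∈ W := by
      have := QuotientGroup.eq.mp hcong
      simpa [W', mem_subgroupOf] using this
    have := mul_mem (mem_sup_left (T := W) (mem_inf.mpr ⟨t.2, htfix⟩))
      (mem_sup_right (S := Z ⊓ centralizer (L : Set G)) h1)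
    simpa using this
  have hord : (orderOf z).Coprime S.index := by
    refine Nat.Coprime.coprime_dvd_left (orderOf_dvd_of_pow_eq_one (hZ.2 z hz)) ?_
    exact (Fact.out : p.Prime).coprime_iff_not_dvd.mpr hidx
  obtain ⟨m, hm⟩ := exists_pow_eq_self_of_coprime hord.symm
  rw [← hm]
  exact pow_mem hmem m

/-- `Z_L` is `Ω₁Z(L)[Z_L, O^p(L)]`. -/
theorem closure_factor [Finite G] [Fact p.Prime] (T : Sylow p G) {L : Subgroup G}
    (hTL : (T : Subgroup G) ≤ L) (hL : CharPSub p L) :
    Cfsg.sylowCenterClosure p L =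
        Cfsg.omegaOne p (L ⊓ centralizer (L : Set G)) ⊔ ⁅Cfsg.sylowCenterClosure p L, resOf p L⁆ ∧
      ⁅Cfsg.sylowCenterClosure p L, L⁆ = ⁅Cfsg.sylowCenterClosure p L, resOf p L⁆ ∧
      Cfsg.omegaOne p (L ⊓ centralizer (L : Set G)) ≤
        Cfsg.omegaOne p ((T : Subgroup G) ⊓ centralizer ((T : Subgroup G) : Set G)) := by
  set Z := Cfsg.sylowCenterClosure p L
  set U := Cfsg.omegaOne p ((T : Subgroup G) ⊓ centralizer ((T : Subgroup G) : Set G))
  set Om := Cfsg.omegaOne p (L ⊓ centralizer (L : Set G))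
  set R := resOf p L
  set W := ⁅Z, R⁆
  have hred := redIn_sylowCenterClosure hL
  have hUZ : U ≤ Z := omega_centre_le_closure T hTL
  have hRn : L ≤ normalizer (R : Set G) := le_normalizer.trans (normalizer_le_normalizer_resOf L)
  have hLW : L ≤ normalizer (W : Set G) :=
    (le_inf hred.norm hRn).trans (normalizer_inf_le_normalizer_commutator Z R)
  have hWZ : W ≤ Z := le_normalizer_iff_commutator_le_left.mp ((resOf_le L).trans hred.norm)
  have hZc : Z ≤ centralizer (Z : Set G) := elemAb_le_centralizer hred.elem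
  -- `L = O^p(L) T`
  have hLRT : ∀ l ∈ L, ∃ r ∈ R, ∃ t ∈ (T : Subgroup G), r * t = l := by
    intro l hl
    refine sup_eq_mul_of_le_normalizer (hTL.trans hRn) ?_
    have h := congrArg (Subgroup.map L.subtype) (pResidual_sup_sylow (p := p) (T.subtype hTL))
    rw [Subgroup.map_sup, map_pResidual_eq_resOf, Sylow.coe_subtype, map_subgroupOf_eq_of_le hTL,
      ← MonoidHom.range_eq_map, range_subtype] at h
    exact h.ge hl
  have hconj : ∀ l ∈ L, ∀ u ∈ U, ⁅l, u⁆ ∈ W := by
    intro l hl u hu
    obtain ⟨r, hr, t, ht, rfl⟩ := hLRT l hl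
    have htu : t * u * t⁻¹ = u := by
      rw [((mem_centralizer_iff.mp (mem_inf.mp (omegaOne_le _ hu)).2) t ht)]
      group
    have : ⁅r * t, u⁆ = ⁅r, u⁆ := by
      rw [commutatorElement_def, commutatorElement_def]
      calc r * t * u * (r * t)⁻¹ * u⁻¹ = r * (t * u * t⁻¹) * r⁻¹ * u⁻¹ := by group
        _ = _ := by rw [htu]
    rw [this]
    show ⁅r, u⁆ ∈ ⁅Z, R⁆
    rw [commutator_comm]
    exact commutator_mem_commutator hr (hUZ hu)
  -- every generator of `Z` lies in `U ⊔ W`
  have hgen : Z ≤ U ⊔ W := by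
    refine iSup_le fun S => ?_
    obtain ⟨l, hl⟩ := MulAction.exists_smul_eq L (T.subtype hTL) S
    have hS : (S : Subgroup L).map L.subtype = cj (l : G) (T : Subgroup G) := by
      rw [← hl, Sylow.coe_subgroup_smul]
      show (cj l ((T.subtype hTL : Sylow p L) : Subgroup L)).map L.subtype = _
      rw [Sylow.coe_subtype]
      simp only [cj, Subgroup.map_map]
      conv_rhs => rw [← map_subgroupOf_eq_of_le hTL, Subgroup.map_map]
      congr 1
    rw [hS, show Cfsg.omegaOne p (cj (l : G) (T : Subgroup G) ⊓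
        centralizer ((cj (l : G) (T : Subgroup G) : Subgroup G) : Set G)) =
          U.map (MulAut.conj (l : G)).toMonoidHom from
      H74.omegaZ_map _ _ (MulAut.conj (l : G)).injective]
    rintro _ ⟨u, hu, rfl⟩
    have e : (MulAut.conj (l : G)).toMonoidHom u = ⁅(l : G), u⁆ * u := by
      simp [commutatorElement_def]
    rw [e]
    exact mul_mem (mem_sup_right (hconj l l.2 u hu)) (mem_sup_left hu)
  have hZL : ⁅Z, L⁆ ≤ W := by
    rw [commutator_comm, commutator_le]
    intro l hl z hz
    obtain ⟨u, hu, w, hw, rfl⟩ := sup_eq_mul_of_le_normalizer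
      ((hWZ.trans hZc).trans ((centralizer_le hUZ).trans (centralizer_le_normalizer _))) (hgen hz)
    rw [commutatorElement_mul_right_eq_mul_conj, mul_assoc, mul_assoc, ← mul_assoc u]
    refine mul_mem (hconj l hl u hu) ?_
    have hlw : ⁅l, w⁆ ∈ W := by
      rw [commutatorElement_def]
      exact mul_mem (conj_mem_of_mem_normalizer (hLW hl) hw) (inv_mem hw)
    exact conj_mem_of_mem_normalizer (hLW (hTL ((omegaOne_le _ hu).1))) hlw
  have hOmU : Om ≤ U := by
    · refine (closure_le _).mpr ?_
      rintro x ⟨hx, hxp⟩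
      obtain ⟨hxL, hxc⟩ := mem_inf.mp hx
      refine subset_closure ⟨mem_inf.mpr ⟨?_, centralizer_le hTL hxc⟩, hxp⟩
      have hz : IsPGroup p (zpowers x) := by
        rintro ⟨y, hy⟩
        obtain ⟨i, rfl⟩ := mem_zpowers_iff.mp hy
        refine ⟨1, Subtype.ext ?_⟩
        simp only [pow_one, coe_pow, coe_one]
        rw [← zpow_natCast, ← zpow_mul, mul_comm, zpow_mul, zpow_natCast, hxp, one_zpow]
      have hn : (T : Subgroup G) ≤ normalizer (zpowers x : Set G) := by
        refine le_trans ?_ (centralizer_le_normalizer _)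
        rw [zpowers_eq_closure, centralizer_closure]
        intro t ht
        rw [mem_centralizer_iff]
        intro y hy
        rw [Set.mem_singleton_iff.mp hy]
        exact ((mem_centralizer_iff.mp hxc) t (hTL ht)).symm
      have := T.is_maximal' (T.isPGroup'.to_sup_of_normal_right' hz hn) le_sup_left
      exact this.le (mem_sup_right (mem_zpowers x))
  refine ⟨le_antisymm ?_ (sup_le (hOmU.trans hUZ) hWZ), le_antisymm hZL
    (commutator_mono le_rfl (resOf_le L)), hOmU⟩
  refine hgen.trans (sup_le ?_ le_sup_right)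
  intro u hu
  have hidx : ¬ p ∣ ((centralizer ({u} : Set G)).subgroupOf L).index := by
    intro h
    refine (T.subtype hTL).not_dvd_index (h.trans (index_dvd_of_le ?_))
    rw [Sylow.coe_subtype]
    refine comap_mono fun t ht => ?_
    rw [mem_centralizer_iff]
    intro y hy
    rw [Set.mem_singleton_iff.mp hy]
    exact ((mem_centralizer_iff.mp (mem_inf.mp (omegaOne_le _ hu)).2) t ht).symm
  refine (sup_le_sup_right ?_ W) (exists_fixed_congr hred.elem hred.norm hZL (hUZ hu) hidx)
  intro x hx
  obtain ⟨hxZ, hxc⟩ := mem_inf.mp hx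
  exact subset_closure ⟨mem_inf.mpr ⟨hred.le hxZ, hxc⟩, hred.elem.2 x hxZ⟩

/-! ### subnormal subgroups -/

/-- Thompson's `A × B` lemma, with the commuting only required on the module. -/
theorem axb_mod [Finite G] [Fact p.Prime] {P B : Subgroup G} (hP : IsPGroup p P) (hB : IsPGroup p B)
    (hBP : B ≤ normalizer (P : Set G)) {x : G} (hx : (orderOf x).Coprime p)
    (hxP : x ∈ normalizer (P : Set G))
    (hxB : ∀ b ∈ B, ∀ a ∈ P, b * x * a * (b * x)⁻¹ = x * b * a * (x * b)⁻¹)
    (hxC : ∀ a ∈ P, a ∈ centralizer (B : Set G) → Commute x a) : ∀ a ∈ P, Commute x a := by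
  suffices ∀ m, ∀ D : Subgroup G, Nat.card D ≤ m → D ≤ P → B ≤ normalizer (D : Set G) →
      ∀ a ∈ D, Commute x a from this _ P le_rfl le_rfl hBP
  intro m
  induction m with
  | zero => intro D h; exact absurd h (by simp [Nat.card_pos.ne'])
  | succ m ih =>
    intro D hcard hDP hBD a ha
    by_cases hne : D = ⊥
    · subst hne
      rw [mem_bot.mp ha]
      exact Commute.one_right x
    have hlt := commutator_lt hB (hP.to_le hDP) hBD hne
    have hc := ih ⁅D, B⁆ (by have := card_lt_of_lt hlt; omega) (hlt.le.trans hDP)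
      (normalizer_commutator_ge_right D B)
    have hxa : ⁅x, a⁆ ∈ P := by
      rw [commutatorElement_def]
      exact mul_mem (conj_mem_of_mem_normalizer hxP (hDP ha)) (inv_mem (hDP ha))
    refine commute_of_coprime_step hP hx hxa (hxC _ hxa (mem_centralizer_iff.mpr fun b hb => ?_))
    have hv : Commute x ⁅a⁻¹, b⁆ := hc _ (commutator_mem_commutator (inv_mem ha) hb)
    have e1 : b * a * b⁻¹ = a * ⁅a⁻¹, b⁆ := by rw [commutatorElement_def]; group
    have e2 : b * (x * a * x⁻¹) * b⁻¹ = x * (b * a * b⁻¹) * x⁻¹ := by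
      calc b * (x * a * x⁻¹) * b⁻¹ = b * x * a * (b * x)⁻¹ := by group
        _ = x * b * a * (x * b)⁻¹ := hxB b hb a (hDP ha)
        _ = _ := by group
    have e4 : b * ⁅x, a⁆ * b⁻¹ = ⁅x, a⁆ := by
      calc b * ⁅x, a⁆ * b⁻¹ = (b * (x * a * x⁻¹) * b⁻¹) * (b * a * b⁻¹)⁻¹ := by
            rw [commutatorElement_def]; group
        _ = x * a * (⁅a⁻¹, b⁆ * x⁻¹) * ⁅a⁻¹, b⁆⁻¹ * a⁻¹ := by rw [e2, e1]; group
        _ = x * a * (x⁻¹ * ⁅a⁻¹, b⁆) * ⁅a⁻¹, b⁆⁻¹ * a⁻¹ := by rw [hv.inv_left.symm.eq]
        _ = ⁅x, a⁆ := by rw [commutatorElement_def x]; group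
    exact mul_inv_eq_iff_eq_mul.mp e4

/-- A subgroup of `L ⊴ W` centralizing `Y_W` centralizes every module of `W` reduced for `L`. -/
theorem centralizer_le_of_reduced [Finite G] [Fact p.Prime] {L W : Subgroup G} (hLW : L ≤ W)
    (hWL : W ≤ normalizer (L : Set G)) :
    ∀ (m : ℕ) (V : Subgroup G), Nat.card V ≤ m → V ≤ W → W ≤ normalizer (V : Set G) →
      Cfsg.IsElementaryAbelian p V →
      (∀ N : Subgroup G, N ≤ L → L ≤ normalizer (N : Set G) →
        PowInto p N (centralizer (V : Set G)) → N ≤ centralizer (V : Set G)) →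
      L ⊓ centralizer (Cfsg.largestPReducedOf p W : Set G) ≤ centralizer (V : Set G) := by
  intro m
  induction m with
  | zero => intro V h; exact absurd h (by simp [Nat.card_pos.ne'])
  | succ m ih =>
    intro V hcard hVW hWV hV hLV
    by_cases hall : ∀ N : Subgroup G, N ≤ W → W ≤ normalizer (N : Set G) →
        PowInto p N (centralizer (V : Set G)) → N ≤ centralizer (V : Set G)
    · exact inf_le_right.trans (centralizer_le (RedIn.le_largest ⟨hVW, hWV, hV, hall⟩))
    push Not at hall
    obtain ⟨N, hNW, hWN, hNp, hNnot⟩ := hall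
    set C := centralizer (V : Set G)
    set U := V ⊓ centralizer (N : Set G) with hU
    have hUV : U < V := inf_le_left.lt_of_ne fun e => hNnot
      (le_centralizer_iff.mp (inf_eq_left.mp e))
    -- a Sylow subgroup of `N`
    obtain ⟨P⟩ := (inferInstance : Nonempty (Sylow p N))
    set B := (P : Subgroup N).map N.subtype
    have hBN : B ≤ N := map_subtype_le _
    have hBV : B ≤ normalizer (V : Set G) := (hBN.trans hNW).trans hWV
    have hfix : ∀ a ∈ V, a ∈ centralizer (B : Set G) → a ∈ centralizer (N : Set G) := by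
      intro a ha hac
      have h1 : N ≤ centralizer ({a} : Set G) := by
        have h2 : (Cfsg.pResidual p N ⊔ (P : Subgroup N)).map N.subtype = N := by
          rw [pResidual_sup_sylow, ← MonoidHom.range_eq_map, range_subtype]
        rw [Subgroup.map_sup, map_pResidual_eq_resOf] at h2
        rw [← h2]
        refine sup_le ((resOf_le_of_powInto hNp).trans (centralizer_le (by simpa using ha))) ?_
        intro b hb
        rw [mem_centralizer_iff]
        intro y hy
        rw [Set.mem_singleton_iff.mp hy]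
        exact ((mem_centralizer_iff.mp hac) b hb).symm
      rw [mem_centralizer_iff]
      intro n hn
      exact ((mem_centralizer_iff.mp (h1 hn)) a rfl).symm
    have hNL : N ⊓ L ≤ C := hLV _ inf_le_right
      ((le_inf (hLW.trans hWN) le_normalizer).trans (normalizer_inf_le_normalizer_inf N L))
      (powInto_mono hNp inf_le_left le_rfl)
    -- `p'`-elements of `L` centralizing `U` centralize `V`
    have key : ∀ x ∈ L, (orderOf x).Coprime p → x ∈ centralizer (U : Set G) → x ∈ C := by
      intro x hxL hxc hxU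
      rw [mem_centralizer_iff]
      refine fun a ha => (axb_mod (elemAb_isPGroup hV) (P.isPGroup'.map N.subtype) hBV hxc
        (hWV (hLW hxL)) ?_ ?_ a ha).symm.eq
      · intro b hb a ha
        have hxbN : ⁅x, b⁆ ∈ N ⊓ L := by
          refine mem_inf.mpr ⟨?_, ?_⟩
          · rw [commutatorElement_def]
            exact mul_mem (conj_mem_of_mem_normalizer (hWN (hLW hxL)) (hBN hb)) (inv_mem (hBN hb))
          · rw [commutatorElement_def, mul_assoc, mul_assoc, ← mul_assoc b]
            exact mul_mem hxL (conj_mem_of_mem_normalizer (hWL (hNW (hBN hb))) (inv_mem hxL))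
        have h2 : (b * x * a * (b * x)⁻¹) ∈ V :=
          conj_mem_of_mem_normalizer (mul_mem (hBV hb) (hWV (hLW hxL))) ha
        have h3 := (mem_centralizer_iff.mp (hNL hxbN)) _ h2
        calc b * x * a * (b * x)⁻¹ = ((b * x * a * (b * x)⁻¹) * ⁅x, b⁆) * ⁅x, b⁆⁻¹ := by group
          _ = (⁅x, b⁆ * (b * x * a * (b * x)⁻¹)) * ⁅x, b⁆⁻¹ := by rw [h3]
          _ = x * b * a * (x * b)⁻¹ := by rw [commutatorElement_def]; group
      · intro a ha hac
        exact ((mem_centralizer_iff.mp hxU) a (mem_inf.mpr ⟨ha, hfix a ha hac⟩)).symm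
    -- hence `C_L(U) = C_L(V)`
    have hWU : W ≤ normalizer (U : Set G) :=
      (le_inf hWV (hWN.trans (normalizer_le_normalizer_centralizer N))).trans
        (normalizer_inf_le_normalizer_inf _ _)
    have hLU : L ⊓ centralizer (U : Set G) ≤ C := by
      refine hLV _ inf_le_left ((le_inf le_normalizer ((hLW.trans hWU).trans
        (normalizer_le_normalizer_centralizer U))).trans (normalizer_inf_le_normalizer_inf _ _)) ?_
      intro x hx
      obtain ⟨k, hk⟩ := exists_pow_coprime (p := p) x
      exact ⟨k, key _ (pow_mem (mem_inf.mp hx).1 _) hk (pow_mem (mem_inf.mp hx).2 _)⟩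
    have h1 := ih U (by have := card_lt_of_lt hUV; omega) (inf_le_left.trans hVW) hWU
      (elemAb_mono hV inf_le_left) (fun M hML hLM hMp => by
        refine (hLV M hML hLM ?_).trans (centralizer_le inf_le_left)
        intro x hx
        obtain ⟨k, hk⟩ := hMp x hx
        exact ⟨k, hLU (mem_inf.mpr ⟨pow_mem (hML hx) _, hk⟩)⟩)
    exact (le_inf inf_le_left h1).trans hLU

/-- A subnormal subgroup which is a `p`-group modulo `C_G(Y_G)` lies in `C_G(Y_G)`. -/
theorem subnormal_powInto_le [Finite G] [Fact p.Prime] {K : Subgroup G} (hK : K.IsSubnormal)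
    (h : PowInto p K (centralizer (Cfsg.largestPReduced p G : Set G))) :
    K ≤ centralizer (Cfsg.largestPReduced p G : Set G) := by
  obtain ⟨hn, -, hC, hbot⟩ := redIn_top_iff.mp (largestPReduced_redIn (p := p) (G := G))
  have h1 : K.map (QuotientGroup.mk' (centralizer (Cfsg.largestPReduced p G : Set G))) ≤ ⊥ := by
    rw [← hbot]
    refine le_pCore_of_subnormal (hK.map (QuotientGroup.mk'_surjective _)) ?_
    rintro ⟨_, x, hx, rfl⟩
    obtain ⟨k, hk⟩ := h x hx
    exact ⟨k, Subtype.ext ((QuotientGroup.eq_one_iff _).mpr hk)⟩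
  intro x hx
  exact (QuotientGroup.eq_one_iff x).mp (mem_bot.mp (h1 (mem_map_of_mem _ hx)))

/-- `C_L(Y_G ∩ L) = C_L(Y_G)`. -/
theorem centralizer_inf_eq [Finite G] [Fact p.Prime] {L : Subgroup G} (hL : L.IsSubnormal) :
    L ⊓ centralizer ((Cfsg.largestPReduced p G ⊓ L : Subgroup G) : Set G) ≤
      centralizer (Cfsg.largestPReduced p G : Set G) := by
  set Y := Cfsg.largestPReduced p G
  have hY := largestPReduced_redIn (p := p) (G := G)
  set D := L ⊓ centralizer ((Y ⊓ L : Subgroup G) : Set G) with hD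
  have hDn : L ≤ normalizer (D : Set G) :=
    (le_inf le_normalizer ((normalizer_le_normalizer_centralizer _).trans' ((le_inf
      (le_top.trans hY.norm) le_normalizer).trans (normalizer_inf_le_normalizer_inf Y L)))).trans
      (normalizer_inf_le_normalizer_inf _ _)
  have hDs : D.IsSubnormal :=
    Subgroup.IsSubnormal.step D L inf_le_left hL (normal_subgroupOf_of_le_normalizer hDn)
  refine subnormal_powInto_le hDs fun x hx => ?_
  obtain ⟨k, hk⟩ := exists_pow_coprime (p := p) x
  refine ⟨k, ?_⟩
  set y := x ^ p ^ k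
  have hy : y ∈ D := pow_mem hx _
  have key : ∀ K : Subgroup G, K.IsSubnormal → L ≤ K →
      (∀ a ∈ Y ⊓ K, Commute y a) → ∀ a ∈ Y, Commute y a := by
    intro K hK
    induction hK with
    | top => intro _ h a ha; exact h a (mem_inf.mpr ⟨ha, mem_top a⟩)
    | step A B hAB _ hA ih =>
      intro hLA h
      have hBA := (normal_subgroupOf_iff_le_normalizer hAB).mp hA
      refine ih (hLA.trans hAB) (commute_of_stabilize
        ((elemAb_isPGroup hY.elem).to_inf_left : IsPGroup p ↥(Y ⊓ A)) hk (fun a ha => ?_) h)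
      obtain ⟨haY, haB⟩ := mem_inf.mp ha
      have hyA : y ∈ A := hLA (mem_inf.mp hy).1
      refine mem_inf.mpr ⟨?_, ?_⟩
      · rw [commutatorElement_def]
        exact mul_mem (conj_mem_of_mem_normalizer (hY.norm (mem_top y)) haY) (inv_mem haY)
      · rw [commutatorElement_def, mul_assoc, mul_assoc, ← mul_assoc a]
        exact mul_mem hyA (conj_mem_of_mem_normalizer (hBA haB) (inv_mem hyA))
  exact mem_centralizer_iff.mpr fun a ha =>
    ((key L hL le_rfl fun b hb => ((mem_centralizer_iff.mp (mem_inf.mp hy).2) b hb).symm) a ha).symm.eq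

theorem inf_redIn [Finite G] [Fact p.Prime] {L : Subgroup G} (hL : L.IsSubnormal) :
    RedIn p (Cfsg.largestPReduced p G ⊓ L) L := by
  have hY := largestPReduced_redIn (p := p) (G := G)
  refine ⟨inf_le_right, (le_inf (le_top.trans hY.norm) le_normalizer).trans
    (normalizer_inf_le_normalizer_inf _ _), elemAb_mono hY.elem inf_le_left, fun N hN hLN hp => ?_⟩
  refine le_trans ?_ (centralizer_le inf_le_left)
  refine subnormal_powInto_le
    (Subgroup.IsSubnormal.step N L hN hL (normal_subgroupOf_of_le_normalizer hLN)) fun x hx => ?_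
  obtain ⟨k, hk⟩ := hp x hx
  exact ⟨k, centralizer_inf_eq hL (mem_inf.mpr ⟨pow_mem (hN hx) _, hk⟩)⟩

theorem centralizer_largest_subnormal [Finite G] [Fact p.Prime] {L : Subgroup G}
    (hL : L.IsSubnormal) :
    L ⊓ centralizer (Cfsg.largestPReducedOf p L : Set G) =
      L ⊓ centralizer (Cfsg.largestPReduced p G : Set G) := by
  refine le_antisymm (le_inf inf_le_left ?_) ?_
  · exact (inf_le_inf_left L (centralizer_le (inf_redIn hL).le_largest)).trans (centralizer_inf_eq hL)
  · induction hL with
    | top => rw [largestPReducedOf_top]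
    | step A B hAB _ hA ih =>
      refine le_inf inf_le_left ?_
      have h1 : A ⊓ centralizer (Cfsg.largestPReduced p G : Set G) ≤
          A ⊓ centralizer (Cfsg.largestPReducedOf p B : Set G) :=
        le_inf inf_le_left (((inf_le_inf_right _ hAB).trans ih).trans inf_le_right)
      refine h1.trans ?_
      have hBA := (normal_subgroupOf_iff_le_normalizer hAB).mp hA
      have hr := redIn_largest (p := p) A
      exact centralizer_le_of_reduced hAB hBA _ _ le_rfl (hr.le.trans hAB)
        (hBA.trans (normalizer_le_normalizer_largest A)) hr.elem hr.red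

end H75
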