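import Cfsg.Agent.H75.EnvelopeBase
import Cfsg.Agent.H86.ExtAll

/-!
The `p`-residual subsystem of a normal subsystem is normal.
-/

set_option autoImplicit false
set_option linter.unusedSectionVars false
set_option linter.style.haveILetI false

open Cfsg Cfsg.FusionSystem

namespace H75.PRes

variable {Ω : Type*} [Group Ω] {S T : Subgroup Ω} {p : ℕ}

/-- An automorphism of order prime to `p` trivial on two successive factors is trivial on both. -/
theorem disp_step [Fact p.Prime] {W : Subgroup Ω} (hW : IsPGroup p W) (β : MulAut W)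
    (hcop : Nat.Coprime (orderOf β) p) {B : Set W} (A : Subgroup W) [A.Normal]
    (hB : ∀ x, x⁻¹ * β x ∈ B) (hA : ∀ d ∈ B, d⁻¹ * β d ∈ A) (x : W) : x⁻¹ * β x ∈ A := by
  let π := QuotientGroup.mk' A
  have hker : ∀ y : W, π y = 1 ↔ y ∈ A := fun y => QuotientGroup.eq_one_iff y
  set d := x⁻¹ * β x with hd
  have hfix : π (β d) = π d := by
    have h := (hker _).2 (hA d (hB x))
    rw [map_mul, map_inv, inv_mul_eq_one] at h
    exact h.symm
  have hAinv : ∀ a ∈ A, a ∈ B → β a ∈ A := fun a ha hb => by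
    simpa using A.mul_mem ha (hA a hb)
  have hstep : ∀ n : ℕ, π ((β ^ n) x) = π x * π d ^ n := by
    intro n
    induction n with
    | zero => simp
    | succ n ih =>
      have hβn : ∀ m : ℕ, π ((β ^ m) d) = π d := by
        intro m
        induction m with
        | zero => simp
        | succ m ihm =>
          rw [pow_succ', MulAut.mul_apply]
          have h1 := (hker _).2 (hA ((β ^ m) d) (by
            have h2 := hB ((β ^ m) x)
            rw [show (β ^ m) d = ((β ^ m) x)⁻¹ * β ((β ^ m) x) by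
              rw [hd, map_mul, map_inv, ← MulAut.mul_apply, ← MulAut.mul_apply, ← pow_succ,
                ← pow_succ']]
            exact h2))
          rw [map_mul, map_inv, inv_mul_eq_one] at h1
          exact h1.symm.trans ihm
      rw [pow_succ, MulAut.mul_apply, show β x = x * d by rw [hd, mul_inv_cancel_left], map_mul,
        map_mul, ih, hβn, pow_succ, mul_assoc]
  have h2 := hstep (orderOf β)
  rw [pow_orderOf_eq_one, MulAut.one_apply, left_eq_mul] at h2
  obtain ⟨k, hk⟩ := hW d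
  obtain ⟨j, hj⟩ := exists_pow_eq_self_of_coprime (x := d) (n := orderOf β)
    ((Nat.Coprime.pow_right k hcop).coprime_dvd_right (orderOf_dvd_of_pow_eq_one hk))
  rw [← hker, ← hj, map_pow, map_pow, h2, one_pow]

variable [Finite S] [Fact p.Prime] {F : FusionSystem S} {E : FusionSystem T}

theorem disp_hyperfocal {P : Subgroup Ω} (hP : P ≤ T) {b : MulAut P} (hb : b ∈ E.autGroup P)
    (hc : Nat.Coprime (orderOf b) p) (x : P) :
    (x : Ω)⁻¹ * ((b x : P) : Ω) ∈ E.hyperfocalSubgroup p :=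
  Subgroup.subset_closure ⟨P, ⟨b, hb⟩, x, hP,
    H87.mem_pResidual_of_coprime (by rwa [Subgroup.orderOf_mk]), rfl⟩

theorem exists_coprime_pow {G : Type*} [Group G] (g : G) (hg : 0 < orderOf g) :
    ∃ i : ℕ, Nat.Coprime (orderOf (g ^ p ^ i)) p := by
  obtain ⟨i, r, hr, hir⟩ := Nat.exists_eq_pow_mul_and_not_dvd hg.ne' p
    (Nat.Prime.ne_one Fact.out)
  refine ⟨i, ?_⟩
  have : orderOf (g ^ p ^ i) = r := by
    rw [orderOf_pow' g (pow_ne_zero _ (Nat.Prime.ne_zero Fact.out)), hir, Nat.gcd_mul_right_left,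
      Nat.mul_div_cancel_left _ (pow_pos (Nat.Prime.pos Fact.out) i)]
  rw [this]
  exact Nat.Coprime.symm ((Nat.Prime.coprime_iff_not_dvd Fact.out).2 hr)

/-- The `p`-residual subsystem of a normal subsystem is normal. -/
theorem normal_powerIndex (hS : IsPGroup p S) (hE : E.IsNormalIn F p)
    {E₀ : FusionSystem (E.hyperfocalSubgroup p)} (h₀ : E.IsPResidual p E₀) :
    E₀.IsNormalIn F p := by
  have hwn := Res.weaklyNormal_powerIndex hS hE.1 h₀
  refine ⟨hwn, ?_⟩
  let H := E.hyperfocalSubgroup p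
  have hT := hE.1.2.2.2.1
  have hHc : F.StronglyClosed H := hwn.2.2.2.1
  have hF := hE.1.2.1
  have hTS := hT.1
  have hHT : H ≤ T := H87.hyperfocal_le E p
  have hHS : H ≤ S := hHc.1
  haveI : Finite T := H85.finite_of_le hTS
  haveI : Finite H := H85.finite_of_le hHS
  have hTp : IsPGroup p T := hS.to_le hTS
  have hHE : E.StronglyClosed H :=
    ⟨hHT, fun R hR φ hφ x => hHc.2 R hR φ (hE.1.2.2.1 R hφ) x⟩
  let P := H86.pc T H
  let V := H86.pc S P
  let W := H ⊔ centralizerIn S H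
  have hHP : H ≤ P := le_sup_left
  have hPT : P ≤ T := H86.pc_le hHT
  have hPV : P ≤ V := le_sup_left
  have hVS : V ≤ S := H86.pc_le (hPT.trans hTS)
  have hWS : W ≤ S := sup_le hHS (H85.centralizerIn_le H)
  haveI : Finite P := H85.finite_of_le (hPT.trans hTS)
  haveI : Finite V := H85.finite_of_le hVS
  haveI : Finite W := H85.finite_of_le hWS
  have hPW : P ≤ W := sup_le le_sup_left
    ((show centralizerIn T H ≤ centralizerIn S H from fun c hc => ⟨hTS hc.1, hc.2⟩).trans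
      le_sup_right)
  have hVW : V ≤ W := sup_le hPW
    ((H86.centralizerIn_antitone hHP).trans le_sup_right)
  have hPc : E.IsCentric P := H86.centric_pc (H85.fullyCentralized_of_fullyNormalized hTp hE.1.1
    (H86.fullyNormalized_stronglyClosed hHE))
  -- everything in sight is normalized by `S`
  have hnT : ∀ s ∈ S, ∀ t ∈ T, s * t * s⁻¹ ∈ T := fun s hs t ht =>
    H86.normal_of_stronglyClosed F hT hs ht
  have hnH : ∀ s ∈ S, ∀ t ∈ H, s * t * s⁻¹ ∈ H := fun s hs t ht =>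
    H86.normal_of_stronglyClosed F hHc hs ht
  have hnC : ∀ {A B : Subgroup Ω}, (∀ s ∈ S, ∀ t ∈ A, s * t * s⁻¹ ∈ A) →
      (∀ s ∈ S, ∀ t ∈ B, s * t * s⁻¹ ∈ B) →
      ∀ s ∈ S, ∀ t ∈ B ⊓ Subgroup.centralizer (A : Set Ω),
        s * t * s⁻¹ ∈ B ⊓ Subgroup.centralizer (A : Set Ω) := by
    intro A B hA hB s hs t ht
    refine ⟨hB s hs t ht.1, Subgroup.mem_centralizer_iff.2 fun a ha => ?_⟩
    have h1 : s⁻¹ * a * s ∈ A := by simpa using hA s⁻¹ (S.inv_mem hs) a ha
    have h2 := Subgroup.mem_centralizer_iff.1 ht.2 _ h1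
    calc a * (s * t * s⁻¹) = s * ((s⁻¹ * a * s) * t) * s⁻¹ := by group
      _ = s * (t * (s⁻¹ * a * s)) * s⁻¹ := by rw [h2]
      _ = s * t * s⁻¹ * a := by group
  have hnSup : ∀ {A B : Subgroup Ω}, (∀ s ∈ S, ∀ t ∈ A, s * t * s⁻¹ ∈ A) →
      (∀ s ∈ S, ∀ t ∈ B, s * t * s⁻¹ ∈ B) → ∀ s ∈ S, ∀ t ∈ A ⊔ B, s * t * s⁻¹ ∈ A ⊔ B := by
    intro A B hA hB s hs t ht
    have hle : A ⊔ B ≤ (A ⊔ B).comap (MulAut.conj s).toMonoidHom :=
      sup_le (fun a ha => le_sup_left (b := B) (hA s hs a ha))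
        (fun b hb => le_sup_right (a := A) (hB s hs b hb))
    exact hle ht
  have hnS : ∀ s ∈ S, ∀ t ∈ S, s * t * s⁻¹ ∈ S := fun s hs t ht =>
    S.mul_mem (S.mul_mem hs ht) (S.inv_mem hs)
  have hnP : ∀ s ∈ S, ∀ t ∈ P, s * t * s⁻¹ ∈ P := hnSup hnH (hnC hnH hnT)
  have hnV : ∀ s ∈ S, ∀ t ∈ V, s * t * s⁻¹ ∈ V := hnSup hnP (hnC hnP hnS)
  have hnorm : ∀ {A : Subgroup Ω}, (∀ s ∈ S, ∀ t ∈ A, s * t * s⁻¹ ∈ A) → A ≤ S →
      ∀ s ∈ S, s ∈ Subgroup.normalizer (A : Set Ω) := by
    intro A hA hAS s hs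
    haveI : Finite A := H85.finite_of_le hAS
    exact H85.mem_normalizer_of_conj fun t ht => hA s hs t ht
  have hVn : F.IsFullyNormalized V := ⟨hVS, fun Q _ => by
    rw [show normalizerIn S V = S from le_antisymm (H85.normalizerIn_le V)
      fun s hs => ⟨hs, hnorm hnV hVS s hs⟩]
    exact Subgroup.card_le_of_le (H85.normalizerIn_le Q)⟩
  have hPn : E.IsFullyNormalized P := ⟨hPT, fun Q _ => by
    rw [show normalizerIn T P = T from le_antisymm (H85.normalizerIn_le P)
      fun s hs => ⟨hs, hnorm hnP (hPT.trans hTS) s (hTS hs)⟩]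
    exact Subgroup.card_le_of_le (H85.normalizerIn_le Q)⟩
  -- automorphisms of `P` in `E` of order prime to `p` fixing `H` are trivial
  have hfixP : ∀ b ∈ E.autGroup P, Nat.Coprime (orderOf b) p →
      (∀ x : P, (x : Ω) ∈ H → b x = x) → b = 1 := by
    intro b hb hc hfix
    refine MulEquiv.ext fun x => ?_
    have h := disp_step (hTp.to_le hPT) b hc (B := {d : P | (d : Ω) ∈ H}) (A := (⊥ : Subgroup P))
      (fun y => disp_hyperfocal hPT hb hc y) (fun d hd => by
        rw [Subgroup.mem_bot, hfix d hd, inv_mul_cancel]) x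
    rw [Subgroup.mem_bot, inv_mul_eq_one] at h
    exact h.symm
  -- the automorphisms of `V` fixing `H`, trivial modulo `P` and in `E` on `P`
  let X : Subgroup (F.autGroup V) :=
    { carrier := {g | (∀ x : V, (x : Ω) ∈ H → (g : MulAut V) x = x) ∧
        ∃ h : (g : MulAut V) ∈ H86.trivMod P V, H86.resTriv hPV ⟨_, h⟩ ∈ E.autGroup P}
      one_mem' := ⟨fun _ _ => rfl, one_mem _, by
        show H86.resTriv hPV (1 : H86.trivMod P V) ∈ _
        rw [map_one]
        exact one_mem _⟩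
      mul_mem' := by
        rintro g k ⟨hg, hg', hge⟩ ⟨hk, hk', hke⟩
        refine ⟨fun x hx => ?_, mul_mem hg' hk', ?_⟩
        · show (g : MulAut V) ((k : MulAut V) x) = x
          rw [hk x hx, hg x hx]
        · rw [show (⟨((g * k : F.autGroup V) : MulAut V), mul_mem hg' hk'⟩ : H86.trivMod P V) =
            ⟨_, hg'⟩ * ⟨_, hk'⟩ from rfl, map_mul]
          exact mul_mem hge hke
      inv_mem' := by
        rintro g ⟨hg, hg', hge⟩
        refine ⟨fun x hx => ?_, inv_mem hg', ?_⟩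
        · show (g : MulAut V)⁻¹ x = x
          conv_lhs => rw [← hg x hx, MulAut.inv_apply_self]
        · rw [show (⟨((g⁻¹ : F.autGroup V) : MulAut V), inv_mem hg'⟩ : H86.trivMod P V) =
            ⟨_, hg'⟩⁻¹ from rfl, map_inv]
          exact inv_mem hge }
  have hVT : ∀ x : V, (x : Ω) ∈ T → (x : Ω) ∈ P := fun x hx => H86.inf_pc_le hPc hx x.2
  have hFV : ∀ g : F.autGroup V, H86.dmap (g : MulAut V) ∈ F.Hom V := fun g =>
    (H85.mem_autGroup hVS).1 g.2
  have hgH : ∀ (g : F.autGroup V) (x : V), (x : Ω) ∈ H → (((g : MulAut V) x : V) : Ω) ∈ H :=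
    fun g x hx => H88.sc_map_mem hHc (hFV g) hx
  have hgP : ∀ (g : F.autGroup V) (x : V), (x : Ω) ∈ P → (((g : MulAut V) x : V) : Ω) ∈ P :=
    fun g x hx => hVT _ (H88.sc_map_mem hT (hFV g) (hPT hx))
  haveI hXn : X.Normal := by
    refine ⟨fun k hk g => ?_⟩
    obtain ⟨hk₁, hk₂, hk₃⟩ := hk
    have hc : ((g * k * g⁻¹ : F.autGroup V) : MulAut V) ∈ H86.trivMod P V := by
      intro x
      have h1 := hk₂ ((g : MulAut V)⁻¹ x)
      have h2 := hgP g ⟨_, hPV h1⟩ h1
      rw [show (⟨_, hPV h1⟩ : V) = ((g : MulAut V)⁻¹ x)⁻¹ *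
          (k : MulAut V) ((g : MulAut V)⁻¹ x) from Subtype.ext rfl, map_mul, map_inv,
        MulAut.apply_inv_self] at h2
      exact h2
    refine ⟨fun x hx => ?_, hc, ?_⟩
    · show (g : MulAut V) ((k : MulAut V) ((g : MulAut V)⁻¹ x)) = x
      have h' : ((((g : MulAut V)⁻¹ x) : V) : Ω) ∈ H := hgH g⁻¹ x hx
      rw [hk₁ _ h', MulAut.apply_inv_self]
    · have hr : ((H86.dmap (g : MulAut V)).comp (Subgroup.inclusion hPV)).range = P :=
        H86.range_eq_self_of_le F (H85.restrict (hFV g) hPV) (by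
          rintro _ ⟨x, rfl⟩; exact hgP g _ x.2)
      let e : P ≃* P := H85.isoOf _ (H85.restrict (hFV g) hPV) hr
      have he : H85.IsFIso F e := H85.isFIso_isoOf _ _ hr
      suffices heq : H86.resTriv hPV ⟨_, hc⟩ = MulAut.congr e (H86.resTriv hPV ⟨_, hk₂⟩) by
        rw [heq]
        exact H86.autGroup_transport hE.1 hPT hPT he hk₃
      refine MulEquiv.ext fun y => Subtype.ext ?_
      obtain ⟨x, rfl⟩ := e.surjective y
      show (((g : MulAut V) ((k : MulAut V) ((g : MulAut V)⁻¹ ⟨(e x : Ω), hPV (e x).2⟩)) : V) : Ω) =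
        (e (H86.resTriv hPV ⟨_, hk₂⟩ (e.symm (e x))) : Ω)
      rw [MulEquiv.symm_apply_apply,
        show (⟨(e x : Ω), hPV (e x).2⟩ : V) = (g : MulAut V) (Subgroup.inclusion hPV x) from
          Subtype.ext rfl, MulAut.inv_apply_self]
      show _ = (((g : MulAut V) (Subgroup.inclusion hPV _) : V) : Ω)
      exact congrArg (fun z : V => (((g : MulAut V) z : V) : Ω))
        (Subtype.ext (H86.resTriv_apply hPV ⟨_, hk₂⟩ x).symm)
  haveI : Finite (F.autGroup V) := H85.finite_autGroup F hVS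
  have hXp : IsPGroup p X := by
    intro g
    obtain ⟨i, hi⟩ := exists_coprime_pow (p := p) (g : MulAut V) (orderOf_pos _)
    refine ⟨i, Subtype.ext (Subtype.ext ?_)⟩
    obtain ⟨h1, h2, h3⟩ := pow_mem g.2 (p ^ i)
    set k : MulAut V := ((((g : F.autGroup V) ^ p ^ i : F.autGroup V)) : MulAut V) with hk
    have hkc : Nat.Coprime (orderOf k) p := by rwa [hk, Subgroup.coe_pow]
    have hres : H86.resTriv hPV ⟨k, h2⟩ = 1 := by
      refine hfixP _ h3 ?_ fun x hx => Subtype.ext ?_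
      · refine Nat.Coprime.coprime_dvd_left ((orderOf_map_dvd _ _).trans ?_) hkc
        rw [← Subgroup.orderOf_coe]
      · rw [H86.resTriv_apply]
        exact congrArg Subtype.val (h1 ⟨(x : Ω), hPV x.2⟩ hx)
    show k = 1
    refine MulEquiv.ext fun x => ?_
    have h := disp_step (hS.to_le hVS) k hkc (B := {d : V | (d : Ω) ∈ P})
      (A := (⊥ : Subgroup V)) (fun y => h2 y) (fun d hd => by
        rw [Subgroup.mem_bot, inv_mul_eq_one]
        refine Subtype.ext ?_
        have h4 := congrArg (fun a : MulAut P => ((a ⟨(d : Ω), hd⟩ : P) : Ω)) hres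
        simp only [H86.resTriv_apply, MulAut.one_apply] at h4
        exact h4.symm) x
    rw [Subgroup.mem_bot, inv_mul_eq_one] at h
    exact h.symm
  obtain ⟨-, R, hR⟩ := H85.fullyAutomized_of_fullyNormalized hS hF hVn
  have hXR : X ≤ (R : Subgroup (F.autGroup V)) := by
    have h := R.3 (hXp.to_sup_of_normal_left R.2) le_sup_right
    exact le_sup_left.trans h.le
  -- the extension of a power
  have main : ∀ a ∈ E.autGroup H, Nat.Coprime (orderOf a) p → ∃ i : ℕ,
      ∃ β ∈ F.autGroup W, Envl.IsExt (U := S) (a ^ p ^ i) β := by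
    intro a ha hac
    have haE : H85.IsFIso E a := (H85.mem_autGroup hHT).1 ha
    obtain ⟨ψ, hψ, hψe⟩ := H85.receptive_extend
      (H85.receptive_of_fullyNormalized hTp hE.1.1 (H86.fullyNormalized_stronglyClosed hHE)) haE
    have hPX : P ≤ extender T H (H.subtype.comp a.toMonoidHom) :=
      sup_le (H85.le_extender hHT fun x => H85.map_mem haE x) (H85.centralizerIn_le_extender _ _)
    have hψP := H85.restrict hψ hPX
    have hψH : ∀ x : P, (x : Ω) ∈ H →
        (ψ.comp (Subgroup.inclusion hPX)) x ∈ H := fun x hx => H88.sc_map_mem hHE hψP hx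
    have hψr : (ψ.comp (Subgroup.inclusion hPX)).range = P := by
      refine H86.range_eq_self_of_le E hψP ?_
      rintro _ ⟨x, rfl⟩
      obtain ⟨h, hh, c, hc, hx⟩ := H86.mem_pc (S := T) (P := H) x.2
      have hx' : x = ⟨h, hHP hh⟩ * ⟨c, le_sup_right (a := H) hc⟩ := Subtype.ext hx.symm
      rw [hx', map_mul]
      refine mul_mem (hHP (hψH _ hh)) (le_sup_right (a := H)
        (H85.mem_centralizerIn.2 ⟨H85.map_mem hψP _, fun y hy => ?_⟩))
      obtain ⟨u, hu⟩ := a.surjective ⟨y, hy⟩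
      have hy' : y = (ψ.comp (Subgroup.inclusion hPX)) ⟨(u : Ω), hHP u.2⟩ :=
        (congrArg Subtype.val hu).symm.trans (hψe u u.2 _).symm
      rw [hy', ← map_mul, ← map_mul]
      exact congrArg _ (Subtype.ext ((H85.mem_centralizerIn.1 hc).2 u u.2))
    let b := H86.autOfHom _ (E.injective_of_mem hψP) hψr
    have hb : b ∈ E.autGroup P := H86.autOfHom_mem E hψP hψr
    have hba : ∀ u : H, ((b ⟨(u : Ω), hHP u.2⟩ : P) : Ω) = ((a u : H) : Ω) := fun u =>
      hψe u u.2 _
    obtain ⟨f, hf, hft, hfb⟩ := H86.extAt_normal hS hE hPc b hb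
    have hfH : ∀ x : V, (x : Ω) ∈ H → ((f x : V) : Ω) ∈ H := fun x hx =>
      hgH ⟨f, hf⟩ x hx
    -- the extension to `W`
    have hcommX : ∀ c : Ω, (hc : c ∈ centralizerIn S H) →
        (⟨f, hf⟩ * ⟨H85.conjAut S V ⟨c, hc.1, hnorm hnV hVS c hc.1⟩,
            H85.autInducedBy_le_autGroup F hVS (H85.conjAut_range S V ▸ ⟨_, rfl⟩)⟩ * ⟨f, hf⟩⁻¹ *
          ⟨H85.conjAut S V ⟨c, hc.1, hnorm hnV hVS c hc.1⟩,
            H85.autInducedBy_le_autGroup F hVS (H85.conjAut_range S V ▸ ⟨_, rfl⟩)⟩⁻¹ :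
          F.autGroup V) ∈ X := by
      intro c hc
      set γ : F.autGroup V := ⟨H85.conjAut S V ⟨c, hc.1, hnorm hnV hVS c hc.1⟩,
        H85.autInducedBy_le_autGroup F hVS (H85.conjAut_range S V ▸ ⟨_, rfl⟩)⟩ with hγ
      have hγfix : ∀ x : V, (x : Ω) ∈ H → (γ : MulAut V) x = x := fun x hx => Subtype.ext (by
        show c * (x : Ω) * c⁻¹ = x
        rw [← (H85.mem_centralizerIn.1 hc).2 x hx, mul_inv_cancel_right])
      -- `γ f⁻¹ γ⁻¹` is in `X` up to fixing `H`
      have hfm : (⟨f, hf⟩ : F.autGroup V).val ∈ H86.trivMod P V := hft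
      have hconjt : ((γ * ⟨f, hf⟩⁻¹ * γ⁻¹ : F.autGroup V) : MulAut V) ∈ H86.trivMod P V := by
        intro x
        have h1 := (inv_mem hft : f⁻¹ ∈ H86.trivMod P V) ((γ : MulAut V)⁻¹ x)
        have h2 := hgP γ ⟨_, hPV h1⟩ h1
        rw [show (⟨_, hPV h1⟩ : V) = ((γ : MulAut V)⁻¹ x)⁻¹ * f⁻¹ ((γ : MulAut V)⁻¹ x) from
          Subtype.ext rfl, map_mul, map_inv, MulAut.apply_inv_self] at h2
        exact h2
      rw [show (⟨f, hf⟩ * γ * ⟨f, hf⟩⁻¹ * γ⁻¹ : F.autGroup V) =
        ⟨f, hf⟩ * (γ * ⟨f, hf⟩⁻¹ * γ⁻¹) by group]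
      refine ⟨fun x hx => ?_, mul_mem hfm hconjt, ?_⟩
      · show f ((γ : MulAut V) (f⁻¹ ((γ : MulAut V)⁻¹ x))) = x
        have h1 : (γ : MulAut V)⁻¹ x = x := by
          conv_lhs => rw [← hγfix x hx, MulAut.inv_apply_self]
        have h' : ((f⁻¹ x : V) : Ω) ∈ H := hgH (⟨f, hf⟩⁻¹) x hx
        rw [h1, hγfix _ h', MulAut.apply_inv_self]
      · show H86.resTriv hPV (⟨_, hfm⟩ * ⟨_, hconjt⟩) ∈ _
        rw [map_mul]
        have hfb' : H86.resTriv hPV ⟨_, hfm⟩ = b := MulEquiv.ext fun x => Subtype.ext (hfb x)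
        rw [hfb']
        refine mul_mem hb ?_
        have hcP : c ∈ normalizerIn S P := ⟨hc.1, hnorm hnP (hPT.trans hTS) c hc.1⟩
        have he : H85.IsFIso F (H85.conjAut S P ⟨c, hcP⟩) :=
          (H85.mem_autGroup (hPT.trans hTS)).1
            (H85.autInducedBy_le_autGroup F (hPT.trans hTS) (H85.conjAut_range S P ▸ ⟨_, rfl⟩))
        suffices heq : H86.resTriv hPV ⟨_, hconjt⟩ =
            MulAut.congr (H85.conjAut S P ⟨c, hcP⟩) b⁻¹ by
          rw [heq]
          exact H86.autGroup_transport hE.1 hPT hPT he (inv_mem hb)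
        refine MulEquiv.ext fun y => Subtype.ext ?_
        obtain ⟨x, rfl⟩ := (H85.conjAut S P ⟨c, hcP⟩).surjective y
        show (((γ : MulAut V) (f⁻¹ ((γ : MulAut V)⁻¹
            ⟨((H85.conjAut S P ⟨c, hcP⟩ x : P) : Ω), hPV (SetLike.coe_mem _)⟩)) : V) : Ω) =
          ((H85.conjAut S P ⟨c, hcP⟩)
            (b⁻¹ ((H85.conjAut S P ⟨c, hcP⟩).symm (H85.conjAut S P ⟨c, hcP⟩ x))) : Ω)
        rw [MulEquiv.symm_apply_apply,
          show (⟨((H85.conjAut S P ⟨c, hcP⟩ x : P) : Ω), hPV (SetLike.coe_mem _)⟩ : V) =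
            (γ : MulAut V) (Subgroup.inclusion hPV x) from Subtype.ext rfl, MulAut.inv_apply_self,
          show f⁻¹ (Subgroup.inclusion hPV x) = Subgroup.inclusion hPV (b⁻¹ x) from by
            apply f.injective
            rw [MulAut.apply_inv_self]
            exact Subtype.ext (((hfb (b⁻¹ x)).trans (by rw [MulAut.apply_inv_self]; rfl)).symm)]
        rfl
    have hWX : W ≤ extender S V (H86.dmap f) := by
      refine sup_le ((hHP.trans hPV).trans (H85.le_extender hVS fun x => hVS (f x).2)) fun c hc => ?_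
      have h1 := hXR (hcommX c hc)
      rw [hR] at h1
      obtain ⟨s, hs, hse⟩ := H85.mem_autInducedBy.1 h1
      refine H85.mem_extender.2 ⟨hc.1, hnorm hnV hVS c hc.1, s * c, S.mul_mem hs hc.1,
        fun x hx => ?_⟩
      have h2 := hse ⟨c * (f x : Ω) * c⁻¹, hnV c hc.1 _ (f x).2⟩
      refine Eq.trans ?_ (h2.trans (by
        show _ = s * c * (f x : Ω) * (s * c)⁻¹
        group))
      show ((f ⟨c * (x : Ω) * c⁻¹, hx⟩ : V) : Ω) =
        ((f ((H85.conjAut S V ⟨c, hc.1, hnorm hnV hVS c hc.1⟩) (f⁻¹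
          ((H85.conjAut S V ⟨c, hc.1, hnorm hnV hVS c hc.1⟩)⁻¹
            ⟨c * (f x : Ω) * c⁻¹, hnV c hc.1 _ (f x).2⟩)))) : Ω)
      rw [show (⟨c * (f x : Ω) * c⁻¹, hnV c hc.1 _ (f x).2⟩ : V) =
        (H85.conjAut S V ⟨c, hc.1, hnorm hnV hVS c hc.1⟩) (f x) from Subtype.ext rfl,
        MulAut.inv_apply_self, MulAut.inv_apply_self]
      rfl
    obtain ⟨θ, hθ, hθe⟩ := H85.receptive_extend (H85.receptive_of_fullyNormalized hS hF hVn)
      (e := f) ((H85.mem_autGroup hVS).1 hf)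
    have hθW := H85.restrict hθ hWX
    have hθV : ∀ x : V, (θ.comp (Subgroup.inclusion hWX)) ⟨(x : Ω), hVW x.2⟩ = ((f x : V) : Ω) :=
      fun x => hθe x x.2 _
    have hθr : (θ.comp (Subgroup.inclusion hWX)).range = W := by
      refine H86.range_eq_self_of_le F hθW ?_
      rintro _ ⟨x, rfl⟩
      obtain ⟨h, hh, c, hc, hx⟩ := H86.mem_pc (S := S) (P := H) x.2
      have hx' : x = ⟨h, le_sup_left (b := centralizerIn S H) hh⟩ *
          ⟨c, le_sup_right (a := H) hc⟩ := Subtype.ext hx.symm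
      rw [hx', map_mul]
      refine mul_mem (le_sup_left (b := centralizerIn S H) (H88.sc_map_mem hHc hθW hh))
        (le_sup_right (a := H) (H85.mem_centralizerIn.2 ⟨H85.map_mem hθW _, fun y hy => ?_⟩))
      let u : V := ⟨y, hPV (hHP hy)⟩
      have hu : ((f⁻¹ u : V) : Ω) ∈ H := hgH ⟨f, hf⟩⁻¹ u hy
      have hy' : y = (θ.comp (Subgroup.inclusion hWX))
          ⟨((f⁻¹ u : V) : Ω), hVW (SetLike.coe_mem _)⟩ := by
        rw [hθV, MulAut.apply_inv_self]
      rw [hy', ← map_mul, ← map_mul]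
      exact congrArg _ (Subtype.ext ((H85.mem_centralizerIn.1 hc).2 _ hu))
    let β := H86.autOfHom _ (F.injective_of_mem hθW) hθr
    have hβ : β ∈ F.autGroup W := H86.autOfHom_mem F hθW hθr
    obtain ⟨i, hi⟩ := exists_coprime_pow (p := p) β (orderOf_pos _)
    set β' := β ^ p ^ i with hβ'
    have hβ'F : β' ∈ F.autGroup W := pow_mem hβ _
    -- the restrictions of the power
    have hpowV : ∀ (n : ℕ) (x : V),
        (((β ^ n) ⟨(x : Ω), hVW x.2⟩ : W) : Ω) = (((f ^ n) x : V) : Ω) := by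
      intro n
      induction n with
      | zero => intro x; rfl
      | succ n ih =>
        intro x
        rw [pow_succ', pow_succ', MulAut.mul_apply, MulAut.mul_apply]
        rw [show (β ^ n) ⟨(x : Ω), hVW x.2⟩ = ⟨(((f ^ n) x : V) : Ω), hVW (SetLike.coe_mem _)⟩ from
          Subtype.ext (ih x)]
        exact hθV _
    have hft' : f ^ p ^ i ∈ H86.trivMod P V := pow_mem hft _
    have hpowP : ∀ (n : ℕ) (x : P),
        (((b ^ n) x : P) : Ω) = (((f ^ n) (Subgroup.inclusion hPV x) : V) : Ω) := by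
      intro n
      induction n with
      | zero => intro x; rfl
      | succ n ih =>
        intro x
        rw [pow_succ', pow_succ', MulAut.mul_apply, MulAut.mul_apply]
        rw [show (f ^ n) (Subgroup.inclusion hPV x) = Subgroup.inclusion hPV ((b ^ n) x) from
          Subtype.ext (ih x).symm]
        exact (hfb _).symm
    have hbc : Nat.Coprime (orderOf (b ^ p ^ i)) p := by
      refine Nat.Coprime.coprime_dvd_left (orderOf_dvd_of_pow_eq_one ?_) hi
      refine MulEquiv.ext fun x => Subtype.ext ?_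
      rw [← pow_mul, hpowP, ← hpowV, pow_mul, ← hβ', pow_orderOf_eq_one]
      rfl
    have hcoset : ∀ x : W, (x : Ω)⁻¹ * ((β' x : W) : Ω) ∈ V := by
      refine H86.mem_trivMod.1 (H86.trivMod_of_sup (A := H) (B := centralizerIn S H)
        (fun w hw => hnorm hnV hVS w (hWS hw)) le_rfl le_sup_left le_sup_right
        (fun x hx => ?_) fun x hx => ?_)
      · refine V.mul_mem (V.inv_mem (hPV (hHP hx))) ?_
        rw [show β' x = β' ⟨(x : Ω), hVW (hPV (hHP hx))⟩ from rfl]
        exact (hpowV _ ⟨(x : Ω), hPV (hHP hx)⟩) ▸ SetLike.coe_mem _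
      · -- the displacement of an element centralizing `H`
        set c : Ω := (x : Ω)
        set d : Ω := ((β' x : W) : Ω) with hd
        have hdC : d ∈ centralizerIn S H := by
          refine H85.mem_centralizerIn.2 ⟨hWS (SetLike.coe_mem _), fun y hy => ?_⟩
          let u : W := ⟨y, le_sup_left (b := centralizerIn S H) hy⟩
          have hu : ((β'⁻¹ u : W) : Ω) ∈ H :=
            H88.sc_map_mem hHc ((H85.mem_autGroup hWS).1 (inv_mem hβ'F)) (x := u) hy
          have h1 : β'⁻¹ u * x = x * β'⁻¹ u :=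
            Subtype.ext ((H85.mem_centralizerIn.1 hx).2 _ hu)
          have h2 := congrArg (fun z => ((β' z : W) : Ω)) h1
          simp only [map_mul, MulAut.apply_inv_self, Subgroup.coe_mul] at h2
          exact h2
        have hsC : c⁻¹ * d ∈ centralizerIn S H := mul_mem (inv_mem hx) hdC
        have hsS := (H85.mem_centralizerIn.1 hsC).1
        have hsP : c⁻¹ * d ∈ normalizerIn S P := ⟨hsS, hnorm hnP (hPT.trans hTS) _ hsS⟩
        -- the conjugation by the displacement lies in `E`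
        have hbb : b ^ p ^ i ∈ E.autGroup P := pow_mem hb _
        have hcP : c ∈ normalizerIn S P := ⟨hx.1, hnorm hnP (hPT.trans hTS) c hx.1⟩
        have hkey : H85.conjAut S P ⟨_, hsP⟩ =
            (H85.conjAut S P ⟨c, hcP⟩)⁻¹ * (b ^ p ^ i) * H85.conjAut S P ⟨c, hcP⟩ *
              (b ^ p ^ i)⁻¹ := by
          refine MulEquiv.ext fun y => Subtype.ext ?_
          obtain ⟨z, rfl⟩ := (b ^ p ^ i).surjective y
          rw [MulAut.mul_apply, MulAut.mul_apply, MulAut.mul_apply, MulAut.inv_apply_self]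
          obtain ⟨w, hw⟩ : ∃ w : P, w =
              (b ^ p ^ i) (H85.conjAut S P ⟨c, hcP⟩ z) := ⟨_, rfl⟩
          have h1 : ((w : P) : Ω) = d * (((b ^ p ^ i) z : P) : Ω) * d⁻¹ := by
            rw [hw, hpowP, ← hpowV, hpowP, ← hpowV, hd, ← Subgroup.coe_inv, ← Subgroup.coe_mul,
              ← Subgroup.coe_mul, ← map_inv, ← map_mul, ← map_mul]
            rfl
          show c⁻¹ * d * (((b ^ p ^ i) z : P) : Ω) * (c⁻¹ * d)⁻¹ = _
          rw [← hw]
          obtain ⟨v, hv⟩ := (H85.conjAut S P ⟨c, hcP⟩).surjective w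
          rw [← hv, MulAut.inv_apply_self]
          have h3 : c * (v : Ω) * c⁻¹ = (w : Ω) := congrArg Subtype.val hv
          rw [h1] at h3
          calc c⁻¹ * d * (((b ^ p ^ i) z : P) : Ω) * (c⁻¹ * d)⁻¹
              = c⁻¹ * (d * (((b ^ p ^ i) z : P) : Ω) * d⁻¹) * c := by group
            _ = c⁻¹ * (c * (v : Ω) * c⁻¹) * c := by rw [h3]
            _ = v := by group
        have hcF : H85.IsFIso F (H85.conjAut S P ⟨c, hcP⟩) :=
          (H85.mem_autGroup (hPT.trans hTS)).1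
            (H85.autInducedBy_le_autGroup F (hPT.trans hTS) (H85.conjAut_range S P ▸ ⟨_, rfl⟩))
        have hsE : H85.conjAut S P ⟨_, hsP⟩ ∈ E.autGroup P := by
          rw [hkey]
          refine mul_mem ?_ (inv_mem hbb)
          rw [show (H85.conjAut S P ⟨c, hcP⟩)⁻¹ * (b ^ p ^ i) * H85.conjAut S P ⟨c, hcP⟩ =
            MulAut.congr (H85.conjAut S P ⟨c, hcP⟩).symm (b ^ p ^ i) from
            MulEquiv.ext fun y => rfl]
          exact H86.autGroup_transport hE.1 hPT hPT hcF.symm hbb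
        obtain ⟨-, R', hR'⟩ := H85.fullyAutomized_of_fullyNormalized hTp hE.1.1 hPn
        have hA : IsPGroup p ↥((autInducedBy S P).subgroupOf (E.autGroup P)) :=
          (H85.autInducedBy_isPGroup hS P).comap_of_injective (E.autGroup P).subtype
            (E.autGroup P).subtype_injective
        have hle : (R' : Subgroup (E.autGroup P)) ≤
            (autInducedBy S P).subgroupOf (E.autGroup P) := by
          rw [hR']
          intro y hy
          obtain ⟨g, hg, hge⟩ := H85.mem_autInducedBy.1 hy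
          exact H85.mem_autInducedBy.2 ⟨g, hTS hg, hge⟩
        have h1 : (⟨_, hsE⟩ : E.autGroup P) ∈ (R' : Subgroup (E.autGroup P)) :=
          (R'.3 hA hle).le (H85.mem_autInducedBy.2 ⟨_, hsS, fun _ => rfl⟩)
        rw [hR'] at h1
        obtain ⟨t, ht, hte⟩ := H85.mem_autInducedBy.1 h1
        have hte' : ∀ y ∈ P, t * y * t⁻¹ = (c⁻¹ * d) * y * (c⁻¹ * d)⁻¹ := fun y hy =>
          (hte ⟨y, hy⟩).symm
        have htP : t ∈ P := le_sup_right (a := H) (H85.mem_centralizerIn.2 ⟨ht, fun y hy => by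
          have h2 := hte' y (hHP hy)
          rw [← (H85.mem_centralizerIn.1 hsC).2 y hy, mul_inv_cancel_right,
            mul_inv_eq_iff_eq_mul] at h2
          exact h2.symm⟩)
        rw [← mul_inv_cancel_left t (c⁻¹ * d)]
        refine V.mul_mem (hPV htP) (le_sup_right (a := P) (H85.mem_centralizerIn.2
          ⟨S.mul_mem (S.inv_mem (hTS ht)) hsS, fun y hy => ?_⟩))
        calc y * (t⁻¹ * (c⁻¹ * d)) = t⁻¹ * (t * y * t⁻¹) * (c⁻¹ * d) := by group
          _ = t⁻¹ * ((c⁻¹ * d) * y * (c⁻¹ * d)⁻¹) * (c⁻¹ * d) := by rw [hte' y hy]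
          _ = t⁻¹ * (c⁻¹ * d) * y := by group
    have hWp : IsPGroup p W := hS.to_le hWS
    haveI hPWn : (P.subgroupOf W).Normal :=
      ⟨fun n hn g => hnP g (hWS g.2) n hn⟩
    haveI hHWn : (H.subgroupOf W).Normal :=
      ⟨fun n hn g => hnH g (hWS g.2) n hn⟩
    have hWP : ∀ x : W, x⁻¹ * β' x ∈ P.subgroupOf W :=
      disp_step hWp β' hi (B := {y : W | (y : Ω) ∈ V}) (P.subgroupOf W) hcoset fun y hy => by
        show (y : Ω)⁻¹ * ((β' y : W) : Ω) ∈ P
        rw [show β' y = β' ⟨(y : Ω), hVW hy⟩ from rfl, hβ', hpowV _ ⟨(y : Ω), hy⟩]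
        exact hft' ⟨(y : Ω), hy⟩
    have hWH : ∀ x : W, x⁻¹ * β' x ∈ H.subgroupOf W :=
      disp_step hWp β' hi (B := {y : W | (y : Ω) ∈ P}) (H.subgroupOf W) hWP fun y hy => by
        show (y : Ω)⁻¹ * ((β' y : W) : Ω) ∈ H
        rw [show β' y = β' ⟨(y : Ω), hVW (hPV hy)⟩ from rfl, hβ', hpowV _ ⟨(y : Ω), hPV hy⟩,
          show (⟨(y : Ω), hPV hy⟩ : V) = Subgroup.inclusion hPV ⟨(y : Ω), hy⟩ from rfl, ← hpowP]
        exact disp_hyperfocal hPT (pow_mem hb _) hbc ⟨(y : Ω), hy⟩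
    have hba' : ∀ (n : ℕ) (u : H),
        (((b ^ n) ⟨(u : Ω), hHP u.2⟩ : P) : Ω) = (((a ^ n) u : H) : Ω) := by
      intro n
      induction n with
      | zero => intro u; rfl
      | succ n ih =>
        intro u
        rw [pow_succ', pow_succ', MulAut.mul_apply, MulAut.mul_apply,
          show (b ^ n) ⟨(u : Ω), hHP u.2⟩ = ⟨(((a ^ n) u : H) : Ω), hHP (SetLike.coe_mem _)⟩ from
            Subtype.ext (ih u)]
        exact hba _
    refine ⟨i, β', hβ'F, fun u => ?_, fun c hc => ?_⟩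
    · rw [show (Subgroup.inclusion le_sup_left u : W) =
        ⟨(Subgroup.inclusion hPV ⟨(u : Ω), hHP u.2⟩ : V), hVW (SetLike.coe_mem _)⟩ from rfl,
        hβ', hpowV, ← hpowP, hba']
    · refine ⟨hWH c, ?_⟩
      refine Subgroup.mul_mem _ (Subgroup.inv_mem _ hc.2)
        (Subgroup.mem_centralizer_iff.2 fun y hy => ?_)
      let u : W := ⟨y, le_sup_left (b := centralizerIn S H) hy⟩
      have hu : ((β'⁻¹ u : W) : Ω) ∈ H :=
        H88.sc_map_mem hHc ((H85.mem_autGroup hWS).1 (inv_mem hβ'F)) (x := u) hy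
      have h1 : β'⁻¹ u * c = c * β'⁻¹ u := Subtype.ext ((H85.mem_centralizerIn.1 hc).2 _ hu)
      have h2 := congrArg (fun z => ((β' z : W) : Ω)) h1
      simp only [map_mul, MulAut.apply_inv_self, Subgroup.coe_mul] at h2
      exact h2
  -- the automorphisms with an extension
  let A : Subgroup (E₀.autGroup H) :=
    { carrier := {α | ∃ β ∈ F.autGroup W, Envl.IsExt (U := S) (α : MulAut H) β}
      one_mem' := ⟨1, one_mem _, Envl.IsExt.one⟩
      mul_mem' := by
        rintro a b ⟨β, hβ, h⟩ ⟨β', hβ', h'⟩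
        exact ⟨β * β', mul_mem hβ hβ', h.mul h'⟩
      inv_mem' := by
        rintro a ⟨β, hβ, h⟩
        refine ⟨β ^ (orderOf a - 1), pow_mem hβ _, ?_⟩
        have h1 := h.pow (orderOf a - 1)
        have h2 : a ^ (orderOf a - 1) = a⁻¹ := eq_inv_of_mul_eq_one_left (by
          rw [← pow_succ, Nat.sub_add_cancel (orderOf_pos a), pow_orderOf_eq_one])
        rwa [← h2, Subgroup.coe_pow] }
  intro α hα
  suffices h : A = ⊤ from (h.symm ▸ Subgroup.mem_top (⟨α, hα⟩ : E₀.autGroup H) : _ ∈ A)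
  obtain ⟨-, R₀, hR₀⟩ := H85.fullyAutomized_of_fullyNormalized (hS.to_le hHS) hwn.1
    (H85.fullyNormalized_top E₀)
  refine H87.pResidual_sup_eq_top R₀ ?_ ?_
  · rw [hR₀]
    intro a ha
    obtain ⟨g, hg, hga⟩ := H85.mem_autInducedBy.1 ha
    have hgW : g ∈ W := le_sup_left (b := centralizerIn S H) hg
    refine ⟨MulAut.conj (⟨g, hgW⟩ : W), H85.inn_le_autGroup F hWS ⟨_, rfl⟩,
      fun x => (hga x).symm, fun c hc => ?_⟩
    show (c : Ω)⁻¹ * (g * (c : Ω) * g⁻¹) ∈ _
    rw [(H85.mem_centralizerIn.1 hc).2 g hg]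
    simp
  · rw [Cfsg.pResidual, Subgroup.closure_le]
    intro a ha
    have hcop : Nat.Coprime (orderOf (a : MulAut H)) p := by rw [Subgroup.orderOf_coe]; exact ha
    obtain ⟨i, β, hβ, hβe⟩ := main a (H87.subsystem_autGroup_le h₀.2.1 H a.2) hcop
    obtain ⟨m, hm⟩ := exists_pow_eq_self_of_coprime (n := p ^ i) (x := a)
      (Nat.Coprime.pow_left i (Nat.Coprime.symm ha))
    have h2 : a ^ p ^ i ∈ A := ⟨β, hβ, by rw [Subgroup.coe_pow]; exact hβe⟩
    exact hm ▸ pow_mem h2 m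

end H75.PRes
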