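import Cfsg.Agent.H75.SubResidual
import Cfsg.Agent.H89.Components
import Cfsg.Agent.H87.QuasisimpleBasic
import Cfsg.Prelude.Def_FusionComponents

/-!
A perfect subnormal subsystem is subnormal in a perfect normal subsystem; quasisimple systems are
perfect.
-/

set_option autoImplicit false
set_option linter.unusedSectionVars false

open Cfsg Cfsg.FusionSystem

namespace H75.Res

variable {Ω : Type*} [Group Ω] {p : ℕ}

/-- A saturated system equal to both of its residual subsystems. -/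
def Perfect (p : ℕ) {T : Subgroup Ω} (E : FusionSystem T) : Prop :=
  E.IsSaturated p ∧ E.hyperfocalSubgroup p = T ∧ H86.minSysCl p E = E

variable [Fact p.Prime]

/-- A perfect normal subsystem of `D` lies in a perfect subsystem of `D` normal wherever `D` is
weakly normal. -/
theorem exists_perfect_core {T W : Subgroup Ω} [Finite W] (hW : IsPGroup p W)
    {D : FusionSystem W} (hD : D.IsSaturated p) {E : FusionSystem T} (hE : E.IsNormalIn D p)
    (hEp : Perfect p E) :
    ∃ (U : Subgroup Ω) (D' : FusionSystem U), Perfect p D' ∧ D'.IsSubsystemOf D ∧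
      E.IsNormalIn D' p ∧ ∀ {S : Subgroup Ω} [Finite S] (F : FusionSystem S), IsPGroup p S →
        D.IsWeaklyNormalIn F p → D'.IsNormalIn F p := by
  suffices main : ∀ (w : ℕ) (W : Subgroup Ω) [Finite W] (D : FusionSystem W), H87.weight D = w →
      IsPGroup p W → D.IsSaturated p → E.IsNormalIn D p →
      ∃ (U : Subgroup Ω) (D' : FusionSystem U), Perfect p D' ∧ D'.IsSubsystemOf D ∧
        E.IsNormalIn D' p ∧ ∀ {S : Subgroup Ω} [Finite S] (F : FusionSystem S), IsPGroup p S →
          D.IsWeaklyNormalIn F p → D'.IsNormalIn F p from main _ W D rfl hW hD hE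
  intro w
  induction w using Nat.strong_induction_on with
  | _ w ih =>
  intro W _ D hw hW hD hE
  obtain ⟨hEs, hEh, hEm⟩ := id hEp
  have hED := hE.1.2.2.1
  have hTW : T ≤ W := hE.1.2.2.2.1.1
  have : Finite T := H85.finite_of_le hTW
  by_cases hm : ∀ (P : Subgroup Ω) (φ : P →* Ω), φ ∈ D.Hom P → φ ∈ (H86.minSysCl p D).Hom P
  · have hDm : H86.minSysCl p D = D :=
      H85.fusionSystem_le_antisymm (fun _ _ h => H86.primeData_minSysCl.sub _ h) fun P φ h => hm P φ h
    by_cases hh : D.hyperfocalSubgroup p = W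
    · refine ⟨W, D, ⟨hD, hh, hDm⟩, fun _ _ h => h, hE, fun F hS hF => ?_⟩
      have h := H86.residual_normal hS hF
      rwa [hDm] at h
    have hUW := H86.hyperfocal_le D p
    obtain ⟨D₀, hD₀⟩ := H86.exists_powerIndex _ hW D hD _ hUW le_rfl le_rfl
    have : Finite (D.hyperfocalSubgroup p) := H85.finite_of_le hUW
    have hlt : H87.weight D₀ < H87.weight D :=
      H87.weight_lt hD₀.2.1 (H85.id_mem D le_rfl)
        fun h => hh (le_antisymm hUW (D₀.le_of_mem h).1)
    have hTU : T ≤ D.hyperfocalSubgroup p := hEh.ge.trans (hyperfocal_mono hED)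
    have hED₀ : E.IsSubsystemOf D₀ :=
      H87.subsystem_of_pResidual (hW.to_le hTW) hEs (fun _ _ h => h) D₀ hTU fun P hP =>
        (H87.pResidual_map_mono hED P).trans (hD₀.2.2.2 P (hP.trans hTU))
    obtain ⟨U, D', hp', hsub, hEn, hF'⟩ := ih _ (hw ▸ hlt) _ D₀ rfl (hW.to_le hUW) hD₀.1
      (normal_of_le hW hE.1 hEm hD₀.1 hD₀.2.1 hED₀)
    exact ⟨U, D', hp', fun P φ h => hD₀.2.1 P (hsub P h), hEn,
      fun F hS hF => hF' F hS (weaklyNormal_powerIndex hS hF hD₀)⟩
  · simp only [not_forall] at hm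
    obtain ⟨P, φ, hφ, hn⟩ := hm
    have h₁ := H86.isPPrimeResidual_minSysCl hW hD
    have hlt : H87.weight (H86.minSysCl p D) < H87.weight D :=
      H87.weight_lt h₁.2.1.1 hφ hn
    have hED₁ : E.IsSubsystemOf (H86.minSysCl p D) := by
      have h := minSysCl_le_of_pElements hW hD h₁.1 h₁.2.1.1
        (fun Q hQ a ha hk => pElement_minSysCl hW hD hQ ha hk) hE.1
      rwa [hEm] at h
    obtain ⟨U, D', hp', hsub, hEn, hF'⟩ := ih _ (hw ▸ hlt) W _ rfl hW h₁.1
      (normal_of_le hW hE.1 hEm h₁.1 h₁.2.1.1 hED₁)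
    exact ⟨U, D', hp', fun P φ h => h₁.2.1.1 P (hsub P h), hEn,
      fun F hS hF => hF' F hS (H86.residual_normal hS hF).1⟩

/-- A perfect subnormal subsystem of `D` is subnormal in a perfect subsystem of `D` normal wherever
`D` is weakly normal. -/
theorem exists_perfect_of_subnormal {T W : Subgroup Ω} [Finite W] (hW : IsPGroup p W)
    {C : FusionSystem T} {D : FusionSystem W} (h : C.IsSubnormalIn D p) (hC : Perfect p C) :
    ∃ (U : Subgroup Ω) (D' : FusionSystem U), Perfect p D' ∧ D'.IsSubsystemOf D ∧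
      C.IsSubnormalIn D' p ∧ ∀ {S : Subgroup Ω} [Finite S] (F : FusionSystem S), IsPGroup p S →
        D.IsWeaklyNormalIn F p → D'.IsNormalIn F p := by
  suffices main : ∀ {T W : Subgroup Ω} {C : FusionSystem T} {D : FusionSystem W} {q : ℕ},
      C.IsSubnormalIn D q → q = p → Finite W → IsPGroup p W → Perfect p C →
      ∃ (U : Subgroup Ω) (D' : FusionSystem U), Perfect p D' ∧ D'.IsSubsystemOf D ∧
        C.IsSubnormalIn D' p ∧ ∀ {S : Subgroup Ω} [Finite S] (F : FusionSystem S),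
          IsPGroup p S → D.IsWeaklyNormalIn F p → D'.IsNormalIn F p from
    main h rfl inferInstance hW hC
  intro T W C D q h
  induction h with
  | refl F q =>
    rintro rfl _ hW hC
    refine ⟨_, F, hC, fun _ _ h => h, .refl F _, fun G hS hG => ?_⟩
    have h := H86.residual_normal hS hG
    rwa [hC.2.2] at h
  | step _ hDF ih =>
    rintro rfl _ hW hC
    have hle := hDF.1.2.2.2.1.1
    obtain ⟨U, D', hp', -, hCD, hn⟩ := ih rfl (H85.finite_of_le hle) (hW.to_le hle) hC
    obtain ⟨U', D'', hp'', hsub, hD'', hn''⟩ :=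
      exists_perfect_core hW hDF.1.2.1 (hn _ hW hDF.1) hp'
    exact ⟨U', D'', hp'', hsub, .step hCD hD'', hn''⟩

variable {S : Subgroup Ω} [Finite S]

/-- A quasisimple system equals its `p'`-residual. -/
theorem minSysCl_eq_of_quasisimple (hS : IsPGroup p S) {F : FusionSystem S}
    (hq : F.Quasisimple p) : H86.minSysCl p F = F := by
  obtain ⟨hF, -, hsimple⟩ := hq
  have hsc := H87.stronglyClosed_center F
  obtain ⟨E, hE⟩ := Cfsg.Agent.S5132.result p hS F F.center hsc
  obtain ⟨hEs, hne, hnorm⟩ := hsimple E hE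
  have hsm := Cfsg.Agent.S5134.result p hS F hF F.center hsc _ E hE
  have h₁ := H86.isPPrimeResidual_minSysCl hS hF
  set W := H86.minSysCl p F with hWdef
  have hWsc : W.StronglyClosed F.center :=
    ⟨hsc.1, fun P hP φ hφ x => hsc.2 P hP φ (h₁.2.1.1 P hφ) x⟩
  obtain ⟨E', hE'⟩ := Cfsg.Agent.S5132.result p hS W F.center hWsc
  have hsm' := Cfsg.Agent.S5134.result p hS W h₁.1 F.center hWsc _ E' hE'
  have hE's : E'.IsSaturated p := H86.isSaturated_image hS h₁.1 hsm'
  set θ := QuotientGroup.mk' (F.center.subgroupOf S) with hθ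
  have : Finite (⊤ : Subgroup (S ⧸ F.center.subgroupOf S)) := Subtype.finite
  have hSq : IsPGroup p (⊤ : Subgroup (S ⧸ F.center.subgroupOf S)) :=
    (hS.to_quotient _).of_equiv Subgroup.topEquiv.symm
  have hE'E : E'.IsSubsystemOf E := fun P' φ' hφ' => by
    obtain ⟨hle, φ, hφ, hind⟩ := (hE'.2.2.2 P' φ').1 hφ'
    exact (hE.2.2.2 P' φ').2 ⟨hle, φ, h₁.2.1.1 _ hφ, hind⟩
  have hidx : E'.HasPrimeToPIndexIn E p := by
    refine ⟨hE'E, fun P' hP' => H86.opAut_le_iff.2 fun a' ha' ⟨k, hk⟩ => ?_⟩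
    obtain ⟨-, φ, hφ, hA, hB, hC, he⟩ := (hE.2.2.2 P' _).1 ((H85.mem_autGroup hP').1 ha')
    have : Finite (preimageAlong θ P') := H85.finite_of_le hA
    have hr : φ.range = preimageAlong θ P' := H86.range_eq_self_of_le F hφ (by
      rintro _ ⟨x, rfl⟩
      refine H86.mem_preimageAlong.2 ⟨hB x, ?_⟩
      rw [← he x]
      exact SetLike.coe_mem _)
    let a := H86.autOfHom φ (F.injective_of_mem hφ) hr
    have ha : a ∈ F.autGroup _ := H86.autOfHom_mem F hφ hr
    have hpow : ∀ (n : ℕ) (x : preimageAlong θ P'),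
        (((a' ^ n) ⟨θ ⟨x, hA x.2⟩, hC x⟩ : P') : S ⧸ F.center.subgroupOf S) =
          θ ⟨((a ^ n) x : preimageAlong θ P'), hA ((a ^ n) x).2⟩ := by
      intro n
      induction n with
      | zero => exact fun x => rfl
      | succ n ih =>
        intro x
        have h2 : (a' ^ n) ⟨θ ⟨x, hA x.2⟩, hC x⟩ =
            ⟨θ ⟨((a ^ n) x : preimageAlong θ P'), hA ((a ^ n) x).2⟩, hC ((a ^ n) x)⟩ :=
          Subtype.ext (ih x)
        rw [pow_succ', MulAut.mul_apply, h2]
        refine (he ((a ^ n) x)).trans (congrArg θ (Subtype.ext ?_))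
        show φ ((a ^ n) x) = ((a ^ (n + 1)) x : Ω)
        rw [pow_succ', MulAut.mul_apply]
        rfl
    have := H85.finite_autGroup F hA
    have : Finite (MulAut (preimageAlong θ P')) := Finite.of_injective _ DFunLike.coe_injective
    obtain ⟨i, m, hm, him⟩ := Nat.exists_eq_pow_mul_and_not_dvd (orderOf_pos a).ne' p
      (Fact.out : p.Prime).ne_one
    obtain ⟨j, hj⟩ := exists_pow_eq_self_of_coprime (x := a') (n := m) (by
      rw [hk]
      exact Nat.Coprime.pow_right k (((Fact.out : p.Prime).coprime_iff_not_dvd).2 hm).symm)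
    have hamW : a ^ m ∈ W.autGroup _ := pElement_minSysCl hS hF hA (pow_mem ha m) ⟨i, by
      rw [orderOf_pow_of_dvd (fun h0 => hm (by rw [h0]; exact dvd_zero p))
        (him ▸ dvd_mul_left _ _), him,
        Nat.mul_div_cancel _ (Nat.pos_of_ne_zero fun h0 => hm (by rw [h0]; exact dvd_zero p))]⟩
    have hw := (H85.mem_autGroup hA).1 (pow_mem hamW j)
    refine (H85.mem_autGroup hP').2 ((hE'.2.2.2 P' _).2
      ⟨hP', _, hw, hA, fun x => hA ((((a ^ m) ^ j) x : preimageAlong θ P')).2, hC, fun x => ?_⟩)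
    have h3 := hpow (m * j) x
    rw [pow_mul, pow_mul, hj] at h3
    exact h3
  have hEm : H86.minSysCl p E = E := by
    rcases hnorm _ _ (H86.residual_normal hSq (weaklyNormal_self hEs)) with h | ⟨-, h⟩
    · exact absurd h hne
    · exact H85.fusionSystem_ext h
  have hEE' : E.IsSubsystemOf E' := by
    have h := H86.minSysCl_le hSq hEs hE's hidx
    rwa [hEm] at h
  have htop : ∀ ε ∈ F.autGroup S, ε ∈ W.autGroup S := by
    intro ε hε
    obtain ⟨φ', hφ', hA, hB, hC, he⟩ := hsm.1.2 _ _ ((H85.mem_autGroup le_rfl).1 hε)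
    obtain ⟨-, w, hw, hA', hB', hC', he'⟩ := (hE'.2.2.2 _ _).1 (hEE' _ hφ')
    have hle : S ≤ preimageAlong θ (imageAlong θ S) := fun x hx =>
      H86.mem_preimageAlong.2 ⟨hx, H86.mem_imageAlong.2 ⟨⟨x, hx⟩, hx, rfl⟩⟩
    have hwS := H85.restrict hw hle
    have hr := H86.range_eq_self_of_le W hwS (H85.range_le hwS)
    let wa := H86.autOfHom (w.comp (Subgroup.inclusion hle)) (W.injective_of_mem hwS) hr
    have hwa : wa ∈ W.autGroup S := H86.autOfHom_mem W hwS hr
    have hwaF : wa ∈ F.autGroup S :=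
      (H85.mem_autGroup le_rfl).2 (h₁.2.1.1 _ ((H85.mem_autGroup le_rfl).1 hwa))
    let c := wa⁻¹ * ε
    have hcF : c ∈ F.autGroup S := mul_mem (inv_mem hwaF) hε
    have hfix : ∀ x : S, (x : Ω) ∈ F.center → c x = x := fun x hx =>
      Subtype.ext (H89.center_fix ((H85.mem_autGroup le_rfl).1 hcF) x.2 hx)
    have hθeq : ∀ x : S, θ (wa x) = θ (ε x) := fun x => by
      have e1 := he x
      have e2 := he' (Subgroup.inclusion hle x)
      refine Eq.trans ?_ (Eq.trans (e2.symm.trans (Eq.trans (congrArg φ' (Subtype.ext rfl)) e1)) ?_)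
      · exact congrArg θ (Subtype.ext rfl)
      · exact congrArg θ (Subtype.ext rfl)
    have hdisp : ∀ x : S, ((x⁻¹ * c x : S) : Ω) ∈ F.center := fun x => by
      have h5 := (hE.2.1 ((wa x)⁻¹ * ε x)).1 (by rw [map_mul, map_inv, hθeq, inv_mul_cancel])
      have h6 : wa ⟨_, hsc.1 h5⟩ = ⟨_, hsc.1 h5⟩ :=
        Subtype.ext (H89.center_fix ((H85.mem_autGroup le_rfl).1 hwaF) (hsc.1 h5) h5)
      have h7 : wa (x⁻¹ * c x) = (wa x)⁻¹ * ε x := by
        rw [map_mul, map_inv, MulAut.mul_apply, MulAut.apply_inv_self]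
      rw [show x⁻¹ * c x = (⟨_, hsc.1 h5⟩ : S) from wa.injective (h7.trans h6.symm)]
      exact h5
    obtain ⟨j, hj⟩ := H85.aut_isPElement hS (Q := F.center) c hfix hdisp
    obtain ⟨i, -, hi⟩ := (Nat.dvd_prime_pow Fact.out).1 (orderOf_dvd_of_pow_eq_one hj)
    have hcW := pElement_minSysCl hS hF le_rfl hcF ⟨i, hi⟩
    have := mul_mem hwa hcW
    rwa [mul_inv_cancel_left] at this
  refine H85.fusionSystem_le_antisymm h₁.2.1.1 fun P φ hφ => ?_
  have hd : H86.PrimeData p F W := H86.primeData_minSysCl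
  obtain ⟨ε, hε, φ₀, hφ₀, he⟩ := H86.frattini_centric hS hF hd.inv hd.good hφ
  exact H86.comp_mem' W hφ₀ ((H85.mem_autGroup le_rfl).1 (htop ε hε)) (W.le_of_mem hφ₀).2
    fun x => he x ((W.le_of_mem hφ₀).2 x)

/-- Quasisimple systems are perfect. -/
theorem perfect_of_quasisimple (hS : IsPGroup p S) {F : FusionSystem S} (hq : F.Quasisimple p) :
    Perfect p F := ⟨hq.1, hq.2.1, minSysCl_eq_of_quasisimple hS hq⟩

end H75.Res
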