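import Cfsg.Agent.H75.NaiveUniq
import Cfsg.Agent.H86.ProductIface
import Cfsg.Agent.H86.SubsystemEq
import Cfsg.Agent.S5251

/-!
Saturated systems over intermediate subgroups with a given `p`-residual subsystem: existence from
products, and uniqueness.
-/

set_option autoImplicit false
set_option linter.unusedSectionVars false
set_option linter.style.haveILetI false

open Cfsg Cfsg.FusionSystem

namespace H75.Uniq

universe u

variable {Ω : Type u} [Group Ω] {S : Subgroup Ω} {p : ℕ} [Finite S] [Fact p.Prime]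

/-- A saturated system is generated by the automorphisms trivial modulo its hyperfocal subgroup that
induce automorphisms in the `p`-residual. -/
theorem le_of_naive (hS : IsPGroup p S) {F : FusionSystem S} {R H : Subgroup Ω}
    {X : FusionSystem R} (hX : X.IsSaturated p) (hXF : X.IsSubsystemOf F)
    (hhyp : X.hyperfocalSubgroup p = H) {E₁ : FusionSystem H} (hE₁ : E₁.IsSaturated p)
    (hi : E₁.HasPPowerIndexIn X p) {M : FusionSystem R}
    (h : ∀ P ≤ R, E₁.IsCentric (P ⊓ H) → ∀ a : MulAut P, Naive p F E₁ P a →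
      a ∈ X.autGroup P → a ∈ M.autGroup P) :
    X.IsSubsystemOf M := by
  have hRS : R ≤ S := H87.subsystem_le hXF
  haveI : Finite R := H85.finite_of_le hRS
  have hRp : IsPGroup p R := hS.to_le hRS
  have hHR : H ≤ R := H87.subsystem_le hi.1
  haveI : Finite H := H85.finite_of_le (hHR.trans hRS)
  have hHn : (H.subgroupOf R).Normal := ⟨fun n hn g => by
    subst hhyp
    exact H86.conj_mem_hyperfocal X p g.2 hn⟩
  have hN := H86.isNormalIn_of_powerIndex hRp hX hHR hHn (hhyp.le) hE₁ hi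
  refine H85.le_of_essential hRp hX M fun P hP => ?_
  have hPn : X.IsFullyNormalized P := by
    rcases hP with rfl | hP
    · exact H85.fullyNormalized_top X
    · exact hP.2.1
  have hPR := hPn.1
  have hc : E₁.IsCentric (P ⊓ H) := by
    rcases hP with rfl | hP
    · rw [inf_eq_right.2 hHR]
      exact H85.centric_top E₁
    · by_contra hcon
      exact (Cfsg.Agent.S5251.main p hRp X hX E₁ hN P hP.1 hcon).2
        (H85.isRadical_of_isEssential hRp hP)
  haveI : Finite P := H85.finite_of_le (hPR.trans hRS)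
  haveI := H85.finite_autGroup X hPR
  obtain ⟨-, A, hA⟩ := H85.fullyAutomized_of_fullyNormalized hRp hX hPn
  refine Subgroup.subgroupOf_eq_top.1 (H87.pResidual_sup_eq_top A ?_ ?_)
  · rw [hA]
    exact Subgroup.comap_mono (H85.autInducedBy_le_autGroup M hPR)
  · rw [Cfsg.pResidual, Subgroup.closure_le]
    intro a ha
    have hac : Nat.Coprime (orderOf (a : MulAut P)) p := by rw [Subgroup.orderOf_coe]; exact ha
    refine h P hPR hc a ⟨H87.subsystem_autGroup_le hXF P a.2, hac,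
      fun x => hhyp ▸ PRes.disp_hyperfocal (E := X) hPR a.2 hac x, ?_⟩ a.2
    have hHX : X.StronglyClosed H := hN.1.2.2.2.1
    have hd := H85.restrict ((H85.mem_autGroup hPR).1 a.2) (inf_le_left : P ⊓ H ≤ P)
    have hmem : ∀ x : P, (x : Ω) ∈ H → ((((a : MulAut P) x) : P) : Ω) ∈ H := fun x hx =>
      H88.sc_map_mem hHX ((H85.mem_autGroup hPR).1 a.2) hx
    haveI : Finite ↥(P ⊓ H) := H85.finite_of_le (inf_le_left.trans (hPR.trans hRS))
    have hr : ((H86.dmap (a : MulAut P)).comp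
        (Subgroup.inclusion (inf_le_left : P ⊓ H ≤ P))).range = P ⊓ H :=
      H86.range_eq_self_of_le X hd (by
        rintro _ ⟨x, rfl⟩
        exact ⟨SetLike.coe_mem _, hmem ⟨(x : Ω), x.2.1⟩ x.2.2⟩)
    let b := H86.autOfHom _ (X.injective_of_mem hd) hr
    have hb : b ∈ X.autGroup (P ⊓ H) := H86.autOfHom_mem X hd hr
    refine ⟨b, hi.2.2 _ inf_le_right ⟨⟨b, hb⟩, H87.mem_pResidual_of_coprime ?_, rfl⟩,
      fun x => rfl⟩
    rw [Subgroup.orderOf_mk]
    refine Nat.Coprime.coprime_dvd_left (orderOf_dvd_of_pow_eq_one ?_) hac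
    have hpow : ∀ (n : ℕ) (x : ↥(P ⊓ H)),
        (((b ^ n) x : ↥(P ⊓ H)) : Ω) =
          ((((a : MulAut P) ^ n) (Subgroup.inclusion inf_le_left x) : P) : Ω) := by
      intro n
      induction n with
      | zero => intro x; rfl
      | succ n ih =>
        intro x
        rw [pow_succ', pow_succ', MulAut.mul_apply, MulAut.mul_apply,
          show ((a : MulAut P) ^ n) (Subgroup.inclusion inf_le_left x) =
            Subgroup.inclusion inf_le_left ((b ^ n) x) from Subtype.ext (ih x).symm]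
        rfl
    refine MulEquiv.ext fun x => Subtype.ext ?_
    rw [hpow, pow_orderOf_eq_one]
    rfl

/-- In a product of `S` and a normal subsystem the subsystem has `p`-power index. -/
theorem powerIndex_of_product (hS : IsPGroup p S) {F : FusionSystem S} {T : Subgroup Ω}
    {E : FusionSystem T} (hE : E.IsNormalIn F p) {D : FusionSystem S}
    (hD : H86.IsProductOn E F p D) : E.HasPPowerIndexIn D p := by
  have hTc := hE.1.2.2.2.1
  have hTS := hTc.1
  haveI : Finite T := H85.finite_of_le hTS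
  have hTn : (T.subgroupOf S).Normal :=
    ⟨fun n hn g => H86.normal_of_stronglyClosed F hTc g.2 hn⟩
  have hwE : E.IsWeaklyNormalIn D p :=
    Res.weaklyNormal_of_le hS hE.1 hD.saturated hD.subsystem hD.le
  obtain ⟨E₁, hE₁, hi⟩ :=
    H86.exists_powerIndex _ hS D hD.saturated T hTS hD.hyp_le le_rfl
  have hwn := (H86.isNormalIn_of_powerIndex hS hD.saturated hTS hTn hD.hyp_le hE₁ hi).1
  have hEE₁ : E.IsSubsystemOf E₁ :=
    H87.subsystem_of_pResidual hS hE.1.1 hD.le E₁ le_rfl hi.2.2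
  -- automorphisms of `T` of order prime to `p`
  have hcop : ∀ a ∈ D.autGroup T, Nat.Coprime (orderOf a) p → a ∈ E.autGroup T := by
    intro a ha hac
    obtain ⟨s, hs, φ₀, hφ₀, he⟩ := hD.frattini T le_rfl _ ((H85.mem_autGroup hTS).1 ha)
    have hsN : s ∈ normalizerIn S T := ⟨hs, H88.sc_normalizer hTc hs⟩
    set c := H85.conjAut S T ⟨s, hsN⟩ with hc
    have hcF : c ∈ F.autGroup T :=
      H85.autInducedBy_le_autGroup F hTS (H85.conjAut_range S T ▸ ⟨_, rfl⟩)
    have hr : φ₀.range = T :=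
      H86.range_eq_self_of_le E hφ₀ (by rintro _ ⟨x, rfl⟩; exact (E.le_of_mem hφ₀).2 x)
    let e := H86.autOfHom φ₀ (E.injective_of_mem hφ₀) hr
    have heE : e ∈ E.autGroup T := H86.autOfHom_mem E hφ₀ hr
    have hae : a = c * e := MulEquiv.ext fun x => Subtype.ext (he x)
    let N := (E.autGroup T).subgroupOf (F.autGroup T)
    haveI : N.Normal := ⟨fun n hn g =>
      (H86.normAut_of_strongInv (H86.strongInv_of_invariant hE.1.2.2) hTS g.2).conj_mem hn⟩
    let π := QuotientGroup.mk' N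
    obtain ⟨k, hk⟩ := hS ⟨s, hs⟩
    have hck : c ^ p ^ k = 1 := by
      rw [hc, ← map_pow, show (⟨s, hsN⟩ : normalizerIn S T) ^ p ^ k = 1 from Subtype.ext (by
        rw [Subgroup.coe_pow]; exact congrArg Subtype.val hk), map_one]
    have haF : a ∈ F.autGroup T := H87.subsystem_autGroup_le hD.subsystem T ha
    have heF : e ∈ F.autGroup T := H87.subsystem_autGroup_le hE.1.2.2.1 T heE
    have hπ : π ⟨a, haF⟩ = π ⟨c, hcF⟩ := by
      rw [show (⟨a, haF⟩ : F.autGroup T) = ⟨c, hcF⟩ * ⟨e, heF⟩ from Subtype.ext hae, map_mul,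
        show π ⟨e, heF⟩ = 1 from (QuotientGroup.eq_one_iff _).2 heE, mul_one]
    have hpa : (⟨a, haF⟩ : F.autGroup T) ^ p ^ k ∈ N := by
      rw [← QuotientGroup.eq_one_iff, ← QuotientGroup.mk'_apply, map_pow]
      show π ⟨a, haF⟩ ^ p ^ k = 1
      rw [hπ, ← map_pow, show (⟨c, hcF⟩ : F.autGroup T) ^ p ^ k = 1 from
        Subtype.ext (by rw [Subgroup.coe_pow]; exact hck), map_one]
    obtain ⟨j, hj⟩ := exists_pow_eq_self_of_coprime (n := p ^ k) (x := a)
      (Nat.Coprime.pow_left k (Nat.Coprime.symm hac))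
    exact hj ▸ pow_mem hpa j
  have haut : E₁.autGroup T ≤ E.autGroup T := by
    obtain ⟨-, R, hR⟩ := H85.fullyAutomized_of_fullyNormalized (hS.to_le hTS) hE₁
      (H85.fullyNormalized_top E₁)
    haveI := H85.finite_autGroup E₁ le_rfl
    refine Subgroup.subgroupOf_eq_top.1 (H87.pResidual_sup_eq_top R ?_ ?_)
    · rw [hR]
      exact Subgroup.comap_mono (H85.autInducedBy_le_autGroup E le_rfl)
    · rw [Cfsg.pResidual, Subgroup.closure_le]
      intro a ha
      exact hcop a (H87.subsystem_autGroup_le hi.1 T a.2) (by rw [Subgroup.orderOf_coe]; exact ha)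
  have h₁ := H86.hom_le_of_autGroup_le hS hwn hwE haut
  rw [H87.hom_ext (H87.hom_eq_of_subsystem hEE₁ h₁)]
  exact hi

/-- Existence and uniqueness over intermediate subgroups, products granted. -/
theorem exists_unique_of_products (hP : H86.HasProducts.{u} p) (hS : IsPGroup p S)
    {F : FusionSystem S} {T : Subgroup Ω} {E : FusionSystem T} (hE : E.IsNormalIn F p)
    (R : Subgroup Ω) (hTR : T ≤ R) (hRS : R ≤ S) :
    ∃ D : FusionSystem R, (D.IsSaturated p ∧ D.IsSubsystemOf F ∧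
        D.hyperfocalSubgroup p = E.hyperfocalSubgroup p ∧
        ∀ (D₁ : FusionSystem (D.hyperfocalSubgroup p))
          (E₁ : FusionSystem (E.hyperfocalSubgroup p)), D.IsPResidual p D₁ → E.IsPResidual p E₁ →
          ∀ P : Subgroup Ω, D₁.Hom P = E₁.Hom P) ∧
      ∀ D' : FusionSystem R, D'.IsSaturated p → D'.IsSubsystemOf F →
        D'.hyperfocalSubgroup p = E.hyperfocalSubgroup p →
        (∀ (D₁ : FusionSystem (D'.hyperfocalSubgroup p))
          (E₁ : FusionSystem (E.hyperfocalSubgroup p)), D'.IsPResidual p D₁ → E.IsPResidual p E₁ →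
          ∀ P : Subgroup Ω, D₁.Hom P = E₁.Hom P) →
        ∀ P : Subgroup Ω, D'.Hom P = D.Hom P := by
  haveI : Finite R := H85.finite_of_le hRS
  have hRp : IsPGroup p R := hS.to_le hRS
  obtain ⟨DS, hDS⟩ := hP S T F E hS hE
  have hidx := powerIndex_of_product hS hE hDS
  obtain ⟨D, hD, hi⟩ := H86.exists_powerIndex _ hS DS hDS.saturated R hRS
    (hDS.hyp_le.trans hTR) le_rfl
  have hhE := H87.hyperfocal_eq_of_powerIndex hS hidx
  have hhD := H87.hyperfocal_eq_of_powerIndex hS hi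
  have hTS : T ≤ S := hTR.trans hRS
  haveI : Finite T := H85.finite_of_le hTS
  have hHR : E.hyperfocalSubgroup p ≤ R := (H87.hyperfocal_le E p).trans hTR
  haveI : Finite (E.hyperfocalSubgroup p) := H85.finite_of_le (hHR.trans hRS)
  refine ⟨D, ⟨hD, fun P φ hφ => hDS.subsystem P (hi.1 P hφ), hhD.trans hhE.symm,
    fun D₁ E₁ h₁ h₂ P => ?_⟩, ?_⟩
  · refine congrFun (H87.pResidual_hom_eq (F := DS) hS h₁.1 h₂.1 (hhD.trans hhE.symm)
      (fun Q φ hφ => hi.1 Q (h₁.2.1 Q hφ)) (fun Q φ hφ => hidx.1 Q (h₂.2.1 Q hφ))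
      (fun Q hQ => (H87.pResidual_le_of_powerIndex hi
        (hQ.trans (H87.hyperfocal_le D p))).trans (h₁.2.2.2 Q hQ))
      (fun Q hQ => (H87.pResidual_le_of_powerIndex hidx
        (hQ.trans (H87.hyperfocal_le E p))).trans (h₂.2.2.2 Q hQ))) P
  intro D' hD' hD'F hhD' hres P
  obtain ⟨E₁, hE₁, hE₁i⟩ := H86.exists_powerIndex _ (hS.to_le hTS) E hE.1.1
    (E.hyperfocalSubgroup p) (H87.hyperfocal_le E p) le_rfl le_rfl
  have hE₁' : E.IsPResidual p E₁ := ⟨hE₁, hE₁i⟩
  have hwn := Res.weaklyNormal_powerIndex hS hE.1 hE₁'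
  -- the residual as a subsystem of `p`-power index of `D'` and of `D`
  have hiD' : E₁.HasPPowerIndexIn D' p := by
    obtain ⟨D₁, hD₁, hD₁i⟩ := H86.exists_powerIndex _ hRp D' hD'
      (D'.hyperfocalSubgroup p) (H87.hyperfocal_le D' p) le_rfl le_rfl
    have h := hres D₁ E₁ ⟨hD₁, hD₁i⟩ hE₁'
    refine ⟨fun Q φ hφ => hD₁i.1 Q ((h Q).symm ▸ hφ), hhD'.le, fun Q hQ a ha => ?_⟩
    have hQ' : Q ≤ D'.hyperfocalSubgroup p := hhD'.symm ▸ hQ
    refine (H85.mem_autGroup hQ).2 ?_
    show Q.subtype.comp a.toMonoidHom ∈ E₁.Hom Q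
    rw [← h Q]
    exact (H85.mem_autGroup hQ').1 (hD₁i.2.2 Q hQ' ha)
  have hE₁D : E₁.IsSubsystemOf D :=
    H87.subsystem_of_pResidual (F := DS) hS hE₁ (fun Q φ hφ => hidx.1 Q (hE₁i.1 Q hφ)) D hHR
      fun Q hQ => hi.2.2 Q (hQ.trans hHR)
  have hiD : E₁.HasPPowerIndexIn D p := by
    refine ⟨hE₁D, (hhD.trans hhE.symm).le, fun Q hQ => ?_⟩
    exact ((H87.pResidual_map_mono hi.1 Q).trans
      (H87.pResidual_le_of_powerIndex hidx (hQ.trans (H87.hyperfocal_le E p)))).trans
      (hE₁i.2.2 Q hQ)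
  have h1 : D'.IsSubsystemOf D := le_of_naive hS hD' hD'F hhD' hE₁ hiD'
    fun Q hQ hc a ha _ => hi.2.2 Q hQ ⟨⟨a, mem_of_naive hS hwn hDS.saturated hDS.subsystem
      hhE.ge (fun Q' φ hφ => hidx.1 Q' (hE₁i.1 Q' hφ)) (hQ.trans hRS) hc ha⟩,
      H87.mem_pResidual_of_coprime (by rw [Subgroup.orderOf_mk]; exact ha.cop), rfl⟩
  have hHn : ((E.hyperfocalSubgroup p).subgroupOf R).Normal := ⟨fun n hn g =>
    H86.normal_of_stronglyClosed F hwn.2.2.2.1 (hRS g.2) hn⟩
  have hwD := (H86.isNormalIn_of_powerIndex hRp hD hHR hHn (hhD.trans hhE.symm).le hE₁ hiD).1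
  have h2 : D.IsSubsystemOf D' := le_of_naive hRp hD (fun _ _ h => h) (hhD.trans hhE.symm) hE₁ hiD
    fun Q hQ hc a ha _ => mem_of_naive hRp hwD hD' h1 hhD'.le hiD'.1 hQ hc ha
  exact congrFun (H87.hom_eq_of_subsystem h1 h2) P

end H75.Uniq
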