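import Cfsg.Agent.H75.SeriesBasics
import Cfsg.Agent.H86.PowerNormal
import Cfsg.Agent.H86.PowerExists
import Cfsg.Agent.H86.WeaklyNormalResidual
import Cfsg.Agent.H86.SubsystemEq
import Cfsg.Agent.H87.EngineTools
import Cfsg.Agent.H85.ModelExists
import Cfsg.Agent.H85.ModelUnique
import Cfsg.Agent.H85.Focal
import Cfsg.Agent.H89.SimpleRealize

/-!
The alternating series of residual subsystems terminates exactly for systems with a normal centric
subgroup having a `p`-solvable automorphism group.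
-/

set_option autoImplicit false
set_option linter.unusedSectionVars false

open Cfsg Cfsg.FusionSystem

namespace H75.Res

variable {p : ℕ} [Fact p.Prime]

theorem eq_one_of_coprime {G : Type*} [Group G] {g : G} {j : ℕ} (h : g ^ p ^ j = 1)
    (hc : Nat.Coprime (orderOf g) p) : g = 1 :=
  orderOf_eq_one_iff.1 (Nat.eq_one_of_dvd_coprimes (hc.pow_right j) dvd_rfl
    (orderOf_dvd_of_pow_eq_one h))

/-- A normal subgroup containing the elements of `p`-power order has quotient of order prime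
to `p`. -/
theorem isPSolvable_of_pElements {G : Type*} [Group G] [Finite G] (N : Subgroup G) [N.Normal]
    (hN : IsPSolvable p N) (h : ∀ g : G, (∃ k : ℕ, orderOf g = p ^ k) → g ∈ N) :
    IsPSolvable p G := by
  refine H10.isPSolvable_of_normal N hN ?_
  have : Subsingleton ((G ⧸ N) ⧸ (⊤ : Subgroup (G ⧸ N))) :=
    QuotientGroup.subsingleton_quotient_top
  refine H10.isPSolvable_of_quotient_of_card ⊤ (Or.inr ?_) H10.isPSolvable_of_subsingleton
  rw [Subgroup.card_top]
  refine Nat.Coprime.symm (((Fact.out : p.Prime).coprime_iff_not_dvd).2 fun hd => ?_)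
  obtain ⟨q, hq⟩ := exists_prime_orderOf_dvd_card' p hd
  obtain ⟨g, rfl⟩ := QuotientGroup.mk'_surjective N q
  obtain ⟨k, m, hm, hkm⟩ := Nat.exists_eq_pow_mul_and_not_dvd (orderOf_pos g).ne' p
    (Fact.out : p.Prime).ne_one
  refine hm (hq ▸ orderOf_dvd_of_pow_eq_one ?_)
  rw [← map_pow, QuotientGroup.mk'_apply, QuotientGroup.eq_one_iff]
  refine h _ ⟨k, ?_⟩
  rw [orderOf_pow_of_dvd (fun h0 => hm (by rw [h0]; exact dvd_zero p))
    (hkm ▸ dvd_mul_left _ _), hkm, Nat.mul_div_cancel _ (Nat.pos_of_ne_zero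
      fun h0 => hm (by rw [h0]; exact dvd_zero p))]

/-- A `p`-solvable group which is its own `p`-residual and is generated by its elements of
`p`-power order is trivial. -/
theorem subsingleton_of_isPSolvable {G : Type*} [Group G] [Finite G] (hG : IsPSolvable p G)
    (hp : pResidual p G = ⊤) (hp' : Subgroup.closure {g : G | ∃ k : ℕ, orderOf g = p ^ k} = ⊤) :
    Subsingleton G := by
  obtain ⟨n, H, h0, hl, -, hn, hi⟩ := hG
  suffices h : ∀ i, H i = ⊤ by
    refine Subgroup.subsingleton_iff.1 (subsingleton_of_bot_eq_top ?_)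
    rw [← h0, h 0]
  intro i
  induction i using Fin.reverseInduction with
  | last => exact hl
  | cast i ih =>
    have := hn i.castSucc
    rcases hi i with ⟨m, hm⟩ | hm
    · rw [ih, Subgroup.relIndex_top_right] at hm
      refine top_le_iff.1 (hp ▸ (Subgroup.closure_le _).2 fun g hg => ?_)
      rw [SetLike.mem_coe, ← QuotientGroup.eq_one_iff]
      have hb : (g : G ⧸ H i.castSucc) ^ p ^ m = 1 := by
        rw [← hm, Subgroup.index_eq_card]
        exact pow_card_eq_one'
      refine eq_one_of_coprime hb (Nat.Coprime.coprime_dvd_left ?_ hg)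
      exact orderOf_map_dvd (QuotientGroup.mk' (H i.castSucc)) g
    · rw [ih, Subgroup.relIndex_top_right] at hm
      refine top_le_iff.1 (hp' ▸ (Subgroup.closure_le _).2 ?_)
      rintro g ⟨k, hk⟩
      rw [SetLike.mem_coe, ← QuotientGroup.eq_one_iff, ← orderOf_eq_one_iff]
      refine Nat.eq_one_of_dvd_coprimes (hm.pow_right k) ?_ ?_
      · rw [Subgroup.index_eq_card]
        exact orderOf_dvd_natCard _
      · exact hk ▸ orderOf_map_dvd (QuotientGroup.mk' (H i.castSucc)) g

variable {Ω : Type*} [Group Ω] {S : Subgroup Ω} [Finite S] {F : FusionSystem S}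

/-- Maps on a characteristic subgroup of a normal subgroup preserve it. -/
theorem map_char_of_isNormal {R C : Subgroup Ω} (hR : F.IsNormal R) (hCR : C ≤ R)
    (hC : (C.subgroupOf R).Characteristic) {φ : C →* Ω} (hφ : φ ∈ F.Hom C) (x : C) :
    φ x ∈ C := by
  obtain ⟨ψ, hψ, hext, -⟩ := hR.2 C φ hφ
  rw [← hext x]
  exact H88.char_map_mem (H85.stronglyClosed_of_isNormal hR) hCR hC hψ le_sup_right x.2

/-- The core of an invariant subsystem is normal. -/
theorem isNormal_core_of_invariant (hS : IsPGroup p S) (hF : F.IsSaturated p) {T : Subgroup Ω}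
    {E : FusionSystem T} (hE : E.IsInvariantIn F) : F.IsNormal E.core := by
  have hTS := hE.2.1.1
  have : Finite T := H85.finite_of_le hTS
  have hR : E.IsNormal E.core := Cfsg.Agent.S5145.result E
  have hα : ∀ α ∈ F.autGroup T, ∀ y : T, (y : Ω) ∈ E.core → (α y : Ω) ∈ E.core :=
    fun α hα y hy =>
      have hn := H88.isNormal_transport hE hR hα
      have hle : H85.img (T.subtype.comp α.toMonoidHom) E.core ≤ E.core := le_sSup hn
      hle (H85.mem_img.2 ⟨y, hy, rfl⟩)
  have hsc : F.StronglyClosed E.core := by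
    refine ⟨hR.1.trans hTS, fun P hP φ hφ x => ?_⟩
    obtain ⟨α, hα', φ₀, hφ₀, he⟩ := hE.2.2.2 P (hP.trans hR.1) φ hφ
    rw [he x ((E.le_of_mem hφ₀).2 x)]
    exact hα α hα' _ ((H85.stronglyClosed_of_isNormal hR).2 P hP φ₀ hφ₀ x)
  refine isNormal_of_char hS hF hsc fun C hCR hC φ hφ x => ?_
  obtain ⟨α, hα', φ₀, hφ₀, he⟩ := hE.2.2.2 C (hCR.trans hR.1) φ hφ
  have h1 := map_char_of_isNormal hR hCR hC hφ₀ x
  rw [he x ((E.le_of_mem hφ₀).2 x)]
  exact H88.char_map_mem hsc hCR hC ((H85.mem_autGroup hTS).1 hα') hR.1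
    (x := ⟨φ₀ x, (E.le_of_mem hφ₀).2 x⟩) h1

/-- A self-centralizing strongly closed subgroup is centric. -/
theorem isCentric_of_stronglyClosed {R : Subgroup Ω} (hR : F.StronglyClosed R)
    (hc : centralizerIn S R ≤ R) : F.IsCentric R := by
  refine ⟨hR.1, fun Q ⟨φ, hφ, hr⟩ => ?_⟩
  have : Finite R := H85.finite_of_le hR.1
  have h1 := H86.range_eq_self_of_le F hφ (by
    rintro _ ⟨x, rfl⟩
    exact hR.2 _ le_rfl φ hφ x)
  rw [← hr, h1]
  exact hc

/-- An automorphism fixing a strongly closed subgroup moves elements by elements centralizing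
it. -/
theorem disp_mem_centralizerIn {R W : Subgroup Ω} (hW : W ≤ S) (hR : F.StronglyClosed R)
    (hle : R ≤ W) {b : MulAut W} (hfix : ∀ x : W, (x : Ω) ∈ R → b x = x) (x : W) :
    (x : Ω)⁻¹ * (b x : Ω) ∈ centralizerIn S R := by
  refine H85.mem_centralizerIn.2 ⟨S.mul_mem (S.inv_mem (hW x.2)) (hW (b x).2), fun q hq => ?_⟩
  let q' : W := ⟨q, hle hq⟩
  have h1 : x * q' * x⁻¹ = b x * q' * (b x)⁻¹ := by
    have h2 := hfix (x * q' * x⁻¹) (H86.normal_of_stronglyClosed F hR (hW x.2) hq)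
    rw [map_mul, map_mul, map_inv, hfix q' hq] at h2
    exact h2.symm
  have h3 : q' * (x⁻¹ * b x) = x⁻¹ * b x * q' :=
    calc q' * (x⁻¹ * b x) = x⁻¹ * (x * q' * x⁻¹) * b x := by group
      _ = x⁻¹ * (b x * q' * (b x)⁻¹) * b x := by rw [h1]
      _ = x⁻¹ * b x * q' := by group
  exact congrArg Subtype.val h3

/-- An automorphism of order prime to `p` moves elements inside the hyperfocal subgroup. -/
theorem disp_mem_hyperfocal {W : Subgroup Ω} (hW : W ≤ S) {b : MulAut W} (hb : b ∈ F.autGroup W)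
    (hc : Nat.Coprime (orderOf b) p) (x : W) :
    (x : Ω)⁻¹ * (b x : Ω) ∈ F.hyperfocalSubgroup p :=
  Subgroup.subset_closure ⟨W, ⟨b, hb⟩, x, hW,
    H87.mem_pResidual_of_coprime (by rwa [Subgroup.orderOf_mk]), rfl⟩

theorem isPS_bot (h : S = ⊥) : IsPS F p := by
  refine ⟨⊥, H86.isNormal_bot F, ⟨bot_le, fun Q ⟨φ, hφ, hr⟩ => ?_⟩, ?_⟩
  · refine (inf_le_left.trans h.le).trans bot_le
  · have : Subsingleton (MulAut (⊥ : Subgroup Ω)) :=
      ⟨fun a b => MulEquiv.ext fun x => Subsingleton.elim _ _⟩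
    exact H10.isPSolvable_of_subsingleton

/-- Going up from the `p`-residual. -/
theorem isPS_of_powerIndex (hS : IsPGroup p S) (hF : F.IsSaturated p)
    {D : FusionSystem (F.hyperfocalSubgroup p)} (hD : F.IsPResidual p D) (h : IsPS D p) :
    IsPS F p := by
  have hUS := H86.hyperfocal_le F p
  have : Finite (F.hyperfocalSubgroup p) := H85.finite_of_le hUS
  have hUn : ((F.hyperfocalSubgroup p).subgroupOf S).Normal :=
    ⟨fun n hn g => H86.conj_mem_hyperfocal F p g.2 hn⟩
  have hDn := H86.isNormalIn_of_powerIndex hS hF hUS hUn le_rfl hD.1 hD.2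
  obtain ⟨hc, hsol⟩ := h.core (hS.to_le hUS)
  have hR := isNormal_core_of_invariant hS hF hDn.1.2.2
  have hRsc := H85.stronglyClosed_of_isNormal hR
  have : Finite (F.autGroup D.core) := H85.finite_autGroup F hR.1
  refine isPS_of_sup_centralizer hS hF hR ?_ ?_
  · intro P hP b hb hbc hbR
    have hW : P ⊔ D.core ≤ S := sup_le (hP.trans inf_le_left) hR.1
    have : Finite ↥(P ⊔ D.core) := H85.finite_of_le hW
    have hfix : ∀ x : ↥(P ⊔ D.core), (x : Ω) ∈ D.core → b x = x := fun x hx =>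
      Subtype.ext (hbR ⟨x, hx⟩)
    obtain ⟨j, hj⟩ := H85.aut_isPElement (hS.to_le hW) (Q := D.core) b hfix fun x =>
      H85.centric_self hc (H85.mem_centralizerIn.2 ⟨disp_mem_hyperfocal hW hb hbc x,
        (H85.mem_centralizerIn.1 (disp_mem_centralizerIn hW hRsc le_sup_right hfix x)).2⟩)
    exact eq_one_of_coprime hj hbc
  · have hle := hD.2.2.2 D.core (Cfsg.Agent.S5145.result D).1
    refine isPSolvable_of_pResidual
      (((F.autGroup D.core).subtype.comp (pResidual p (F.autGroup D.core)).subtype).codRestrict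
        (D.autGroup D.core) fun x => hle ⟨x, x.2, rfl⟩) (fun a b hab => ?_) hsol
    exact Subtype.ext (Subtype.ext (congrArg Subtype.val hab :))

theorem weaklyNormal_self (hF : F.IsSaturated p) : F.IsWeaklyNormalIn F p := by
  refine ⟨hF, hF, fun _ _ h => h, ⟨le_rfl, fun _ _ φ hφ x => (F.le_of_mem hφ).2 x⟩,
    fun P hPS φ hφ α hα => ?_, fun P hPS φ hφ => ⟨1, one_mem _, φ, hφ, fun x hx => rfl⟩⟩
  obtain ⟨χ, hχ, he⟩ := H86.normAut_self F hα P φ hφ
  exact ⟨χ, hχ, fun x _ hx => he x hx⟩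

/-- Going up from the `p'`-residual. -/
theorem isPS_of_primeIndex (hS : IsPGroup p S) (hF : F.IsSaturated p) {E : FusionSystem S}
    (hE : F.IsPPrimeResidual p E) (h : IsPS E p) : IsPS F p := by
  have hEn : E.IsNormalIn F p := by
    rw [H86.eq_minSysCl hS hF hE]
    exact H86.residual_normal hS (weaklyNormal_self hF)
  obtain ⟨hc, hsol⟩ := h.core hS
  have hR := isNormal_core_of_invariant hS hF hEn.1.2.2
  refine ⟨_, hR, isCentric_of_stronglyClosed (H85.stronglyClosed_of_isNormal hR)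
    (H85.centric_self hc), ?_⟩
  have : Finite (F.autGroup E.core) := H85.finite_autGroup F hR.1
  have hle : E.autGroup E.core ≤ F.autGroup E.core := fun a ha =>
    (H85.mem_autGroup hR.1).2 (hE.2.1.1 _ ((H85.mem_autGroup hR.1).1 ha))
  have : ((E.autGroup E.core).subgroupOf (F.autGroup E.core)).Normal :=
    ⟨fun a ha g => H86.autGroup_transport hEn.1 hR.1 hR.1 ((H85.mem_autGroup hR.1).1 g.2) ha⟩
  refine isPSolvable_of_pElements _
    (H10.isPSolvable_of_equiv hsol (Subgroup.subgroupOfEquivOfLe hle).symm) fun g hg => ?_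
  exact hE.2.1.2 _ hR.1 ⟨g, Subgroup.subset_closure hg, rfl⟩

theorem isPS_of_series {F' : FusionSystem S} (h : F'.HasTerminatingResidualSeries p) :
    IsPGroup p S → F'.IsSaturated p → IsPS F' p := by
  revert h
  suffices hmain : ∀ {T : Subgroup Ω} (X : FusionSystem T) (q : ℕ),
      X.HasTerminatingResidualSeries q → ∀ [Finite T] [Fact q.Prime],
        IsPGroup q T → X.IsSaturated q → IsPS X q from
    fun h => hmain F' p h
  intro T X q h
  induction h with
  | trivial X q hT => intros; exact isPS_bot hT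
  | step X E q D hE hD _ ih =>
    intro _ _ hT hX
    have hUT := H86.hyperfocal_le E q
    have : Finite (E.hyperfocalSubgroup q) := H85.finite_of_le hUT
    exact isPS_of_primeIndex hT hX hE
      (isPS_of_powerIndex hT hE.1 hD (ih (hT.to_le hUT) hD.1))

/-- Passing to a saturated subsystem on the same group. -/
theorem IsPS.sub {E : FusionSystem S} (hS : IsPGroup p S) (hE : E.IsSaturated p)
    (hsub : E.IsSubsystemOf F) (h : IsPS F p) : IsPS E p := by
  obtain ⟨Q, hQ, hc, hsol⟩ := h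
  have hQsc := H85.stronglyClosed_of_isNormal hQ
  have hsc : E.StronglyClosed Q := ⟨hQ.1, fun P hP φ hφ x => hQsc.2 P hP φ (hsub P hφ) x⟩
  refine ⟨Q, isNormal_of_char hS hE hsc fun C hCQ hC φ hφ x =>
    map_char_of_isNormal hQ hCQ hC (hsub C hφ) x,
    isCentric_of_stronglyClosed hsc (H85.centric_self hc), ?_⟩
  exact H10.isPSolvable_of_injective hsol (Subgroup.inclusion fun a ha =>
    (H85.mem_autGroup hQ.1).2 (hsub _ ((H85.mem_autGroup hQ.1).1 ha)))
    (Subgroup.inclusion_injective _)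

/-- Passing down to the `p`-residual. -/
theorem IsPS.powerIndex (hS : IsPGroup p S) (hF : F.IsSaturated p)
    {D : FusionSystem (F.hyperfocalSubgroup p)} (hD : F.IsPResidual p D) (h : IsPS F p) :
    IsPS D p := by
  obtain ⟨Q, hQ, hQc, hsol⟩ := h
  let U := F.hyperfocalSubgroup p
  have hUS : U ≤ S := H86.hyperfocal_le F p
  have : Finite U := H85.finite_of_le hUS
  have hUp : IsPGroup p U := hS.to_le hUS
  have hUsc := H86.hyperfocal_stronglyClosed hS hF
  have hQsc := H85.stronglyClosed_of_isNormal hQ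
  have hsub := hD.2.1
  set R := Q ⊓ U with hR
  have hRF : F.StronglyClosed R := ⟨inf_le_left.trans hQ.1, fun P hP φ hφ x =>
    ⟨hQsc.2 P (hP.trans inf_le_left) φ hφ x, hUsc.2 P (hP.trans inf_le_right) φ hφ x⟩⟩
  have hRD : D.StronglyClosed R :=
    ⟨inf_le_right, fun P hP φ hφ x => hRF.2 P hP φ (hsub P hφ) x⟩
  have hRn : D.IsNormal R := isNormal_of_char hUp hD.1 hRD fun C hCR hC φ hφ x => by
    obtain ⟨ψ, hψ, hext, -⟩ := hQ.2 C φ (hsub C hφ)
    rw [← hext x]
    exact H88.char_map_mem hRF hCR hC hψ (inf_le_left.trans le_sup_right) x.2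
  refine isPS_of_sup_centralizer hUp hD.1 hRn ?_ ?_
  · intro P hP b hb hbc hbR
    have hV : P ⊔ R ≤ U := sup_le (hP.trans inf_le_left) inf_le_right
    have hVS := hV.trans hUS
    have hbF : b ∈ F.autGroup (P ⊔ R) :=
      (H85.mem_autGroup hVS).2 (hsub _ ((H85.mem_autGroup hV).1 hb))
    obtain ⟨ψ, hψ, hext, himg⟩ := hQ.2 _ _ ((H85.mem_autGroup hVS).1 hbF)
    let W := (P ⊔ R) ⊔ Q
    have hWS : W ≤ S := sup_le hVS hQ.1
    have : Finite W := H85.finite_of_le hWS
    have hrange : ψ.range = W := H86.range_eq_self_of_le F hψ (by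
      rintro _ ⟨z, rfl⟩
      refine H87.mapsTo_sup (fun x => ?_) (fun x => ?_) z
      · rw [hext x]
        exact Subgroup.mem_sup_left (b x).2
      · exact Subgroup.mem_sup_right (H87.map_mem_normal hQ hψ x.2))
    have ha := H86.autOfHom_mem F hψ hrange
    set a := H86.autOfHom ψ (F.injective_of_mem hψ) hrange with ha'
    have := H85.finite_autGroup F hWS
    obtain ⟨n, hn, hbn⟩ := H86.exists_exp_coprime (⟨a, ha⟩ : F.autGroup W) b hbc
    rw [← Subgroup.orderOf_coe] at hn
    have hkey : ∀ k : ℕ, ∀ x : ↥(P ⊔ R),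
        (((a ^ k) (Subgroup.inclusion le_sup_left x) : W) : Ω) = (b ^ k) x := by
      intro k
      induction k with
      | zero => exact fun _ => rfl
      | succ k ih =>
        intro x
        rw [pow_succ', pow_succ', MulAut.mul_apply, MulAut.mul_apply,
          show (a ^ k) (Subgroup.inclusion le_sup_left x) =
            Subgroup.inclusion le_sup_left ((b ^ k) x) from Subtype.ext (ih x)]
        exact hext _
    set β := a ^ n with hβ
    have hβmem : β ∈ F.autGroup W := pow_mem ha n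
    have hβb : ∀ x : ↥(P ⊔ R), ((β (Subgroup.inclusion le_sup_left x) : W) : Ω) = b x := by
      intro x
      rw [hβ, hkey n x, hbn]
    -- the restriction to `Q` is trivial
    let r := resHom hWS (le_sup_right : Q ≤ W) hQsc
    have : Finite Q := H85.finite_of_le hQ.1
    have hrc : Nat.Coprime (orderOf (r ⟨β, hβmem⟩)) p := by
      refine Nat.Coprime.coprime_dvd_left (orderOf_map_dvd r _) ?_
      rw [Subgroup.orderOf_mk]
      exact hn
    have hr1 : r ⟨β, hβmem⟩ = 1 := by
      obtain ⟨j, hj⟩ := H85.aut_isPElement (hS.to_le hQ.1) (Q := R) (r ⟨β, hβmem⟩)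
        (fun x hx => Subtype.ext ((resHom_apply hWS le_sup_right hQsc ⟨β, hβmem⟩ x).trans
          ((congrArg (fun z : W => ((β z : W) : Ω)) (Subtype.ext rfl)).trans
            ((hβb ⟨x, Subgroup.mem_sup_right hx⟩).trans (hbR ⟨x, hx⟩)))))
        fun x => ⟨Q.mul_mem (Q.inv_mem x.2) (r ⟨β, hβmem⟩ x).2,
          disp_mem_hyperfocal hQ.1 (resHom_mem hWS le_sup_right hQsc _) hrc x⟩
      exact eq_one_of_coprime hj hrc
    obtain ⟨j, hj⟩ := resHom_ker_isPGroup hS hWS (le_sup_right : Q ≤ W) hQsc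
      (H85.centric_self hQc) ⟨⟨β, hβmem⟩, hr1⟩
    have hβ1 : β = 1 := eq_one_of_coprime
      (congrArg (fun z : (r.ker) => ((z : F.autGroup W) : MulAut W)) hj) hn
    refine MulEquiv.ext fun x => Subtype.ext ?_
    rw [← hβb x, hβ1]
    rfl
  · have hRS : R ≤ S := hRF.1
    have := H85.finite_autGroup F hQ.1
    let f := resHom hQ.1 (inf_le_left : R ≤ Q) hRF
    refine H10.isPSolvable_of_injective (H10.isPSolvable_of_surjective hsol f.rangeRestrict
      f.rangeRestrict_surjective) (Subgroup.inclusion fun a ha => ?_)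
      (Subgroup.inclusion_injective _)
    exact autGroup_le_resHom_range hQ inf_le_left hRF
      ((H85.mem_autGroup hRS).2 (hsub _ ((H85.mem_autGroup inf_le_right).1 ha)))

section Models

variable {G : Type*} [Group G] {ι : S →* G}

theorem isPSolvable_of_model (hS : IsPGroup p S) (hG : F.IsModel p G ι) (h : IsPS F p) :
    IsPSolvable p G := by
  obtain ⟨Q, hQ, hc, hsol⟩ := h
  have := hG.1
  have hn := H85.model_rimg_normal hG hQ
  have hle := H85.model_centralizer_le hS hG hQ hc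
  let f := H85.normAut ι hG.2.1.1 Q hQ.1
  have hker : IsPGroup p f.ker := by
    rintro ⟨n, hn'⟩
    have h1 : (n : G) ∈ H85.rimg ι Q := hle (Subgroup.mem_centralizer_iff.2 fun y hy => by
      obtain ⟨x, hx, rfl⟩ := H85.mem_rimg.1 hy
      have h2 := H85.normAut_spec ι hG.2.1.1 Q hQ.1 n ⟨x, hx⟩
      rw [show H85.normAut ι hG.2.1.1 Q hQ.1 n = 1 from hn'] at h2
      exact eq_mul_inv_iff_mul_eq.1 h2)
    obtain ⟨x, -, hx⟩ := H85.mem_rimg.1 h1
    obtain ⟨k, hk⟩ := hS x
    refine ⟨k, Subtype.ext (Subtype.ext ?_)⟩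
    show (n : G) ^ p ^ k = 1
    rw [← hx, ← map_pow, hk, map_one]
  refine H10.isPSolvable_of_surjective
    (isPSolvable_of_ker f hker (H10.isPSolvable_of_equiv hsol
      (MulEquiv.subgroupCongr (H85.normAut_range hG.2.1 hQ.1).symm)))
    (Subgroup.normalizer (H85.rimg ι Q : Set G)).subtype fun g => ?_
  exact ⟨⟨g, by rw [Subgroup.normalizer_eq_top_iff.2 hn]; trivial⟩, rfl⟩

theorem isPS_of_model (hG : F.IsModel p G ι) (hsol : IsPSolvable p G) {Q : Subgroup Ω}
    (hQ : F.IsNormal Q) (hc : F.IsCentric Q) : IsPS F p := by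
  have := hG.1
  refine ⟨Q, hQ, hc, H10.isPSolvable_of_equiv (H10.isPSolvable_of_surjective
    (H10.isPSolvable_subgroup hsol _) (H85.normAut ι hG.2.1.1 Q hQ.1).rangeRestrict
    (MonoidHom.rangeRestrict_surjective _))
    (MulEquiv.subgroupCongr (H85.normAut_range hG.2.1 hQ.1))⟩

theorem apply_hyperfocal_mem [Finite G] (h : F.IsRealizedBy ι) {y : S}
    (hy : (y : Ω) ∈ F.hyperfocalSubgroup p) : ι y ∈ pResidual p G := by
  suffices hle : F.hyperfocalSubgroup p ≤ ((pResidual p G).comap ι).map S.subtype by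
    obtain ⟨z, hz, hzy⟩ := hle hy
    rwa [show y = z from Subtype.ext hzy.symm]
  rw [hyperfocalSubgroup, Subgroup.closure_le]
  rintro _ ⟨P, α, x, hP, hα, rfl⟩
  have hmem : ∀ n, H85.normAut ι h.1 P hP n ∈ F.autGroup P :=
    fun n => (H85.normAut_range h hP).le ⟨n, rfl⟩
  have hsurj : Function.Surjective ((H85.normAut ι h.1 P hP).codRestrict (F.autGroup P) hmem) := by
    rintro ⟨a, ha⟩
    obtain ⟨n, hn⟩ := (H85.normAut_range h hP).ge ha
    exact ⟨n, Subtype.ext hn⟩
  rw [← H85.map_pResidual_surjective _ hsurj] at hα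
  obtain ⟨n, hn, rfl⟩ := hα
  have hx := H85.normAut_spec ι h.1 P hP n x
  refine ⟨⟨x, hP x.2⟩⁻¹ * ⟨((H85.normAut ι h.1 P hP n) x : P),
    hP ((H85.normAut ι h.1 P hP n) x).2⟩, ?_, rfl⟩
  rw [SetLike.mem_coe, Subgroup.mem_comap, map_mul, map_inv, hx]
  have hnK : (n : G) ∈ pResidual p G :=
    H5.pResidual_map_le (Subgroup.subtype _) (Subgroup.mem_map_of_mem _ hn)
  have h2 := (pResidual p G).mul_mem
    ((H86.pResidual_normal' p G).conj_mem _ hnK (ι ⟨x, hP x.2⟩)⁻¹) ((pResidual p G).inv_mem hnK)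
  simpa [mul_assoc] using h2

end Models

/-- A system equal to both of its residual subsystems, with a normal centric subgroup with
`p`-solvable automorphisms, lives on the trivial group. -/
theorem eq_bot_of_isPS (hS : IsPGroup p S) (h : IsPS F p) (hF : F.IsSaturated p)
    (hres : F.IsPPrimeResidual p F) (hU : F.hyperfocalSubgroup p = S) : S = ⊥ := by
  classical
  obtain ⟨Q, hQ, hc, -⟩ := id h
  obtain ⟨G, _, ι, hG⟩ := H85.exists_model_of_constrained hS ⟨hF, Q, hQ, hc⟩
  have := hG.1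
  obtain ⟨-, hreal, ⟨T, hT⟩, -⟩ := id hG
  have hsolv := isPSolvable_of_model hS hG h
  have hK : pResidual p G = ⊤ := by
    rw [← H86.pResidual_sup_sylow T, eq_comm, sup_eq_left, hT]
    rintro _ ⟨y, rfl⟩
    exact apply_hyperfocal_mem hreal (hU.symm ▸ y.2)
  set N := Subgroup.closure {g : G | ∃ k : ℕ, orderOf g = p ^ k} with hN
  have hιN : ∀ x : S, ι x ∈ N := fun x => by
    obtain ⟨k, hk⟩ := hS x
    obtain ⟨i, -, hi⟩ := (Nat.dvd_prime_pow Fact.out).1
      (orderOf_dvd_of_pow_eq_one (x := ι x) (n := p ^ k) (by rw [← map_pow, hk, map_one]))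
    exact Subgroup.subset_closure ⟨i, hi⟩
  have hinj : Function.Injective (ι.codRestrict N hιN) := fun x y hxy =>
    hreal.1 (congrArg Subtype.val hxy)
  let FN := H89.realizedSystem (ι.codRestrict N hιN) hinj
  have hFN := H89.realized_realizedSystem (ι.codRestrict N hιN) hinj
  have hTN : (T : Subgroup G) ≤ N := by
    rw [hT]
    rintro _ ⟨x, rfl⟩
    exact hιN x
  have hFNs : FN.IsSaturated p := by
    refine H85.isSaturated_of_realized hFN (T.subtype hTN) ?_
    rw [Sylow.coe_subtype, hT]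
    ext y
    constructor
    · rintro ⟨x, hx⟩
      exact ⟨x, Subtype.ext hx⟩
    · rintro ⟨x, rfl⟩
      exact ⟨x, rfl⟩
  have hsub : FN.IsSubsystemOf F := fun P φ hφ => by
    obtain ⟨hP, hm, g, hg⟩ := hφ
    exact (hreal.2 P hP φ hm).2 ⟨g, fun x => congrArg Subtype.val (hg x)⟩
  have hidx : FN.HasPrimeToPIndexIn F p := by
    refine ⟨hsub, fun P hP => ?_⟩
    rw [MonoidHom.map_closure, Subgroup.closure_le]
    rintro _ ⟨⟨α, hα⟩, ⟨k, hk⟩, rfl⟩
    obtain ⟨n, hn⟩ := (H85.normAut_range hreal hP).ge hα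
    obtain ⟨i, m, hm, him⟩ := Nat.exists_eq_pow_mul_and_not_dvd (orderOf_pos n).ne' p
      (Fact.out : p.Prime).ne_one
    obtain ⟨j, hj⟩ := exists_pow_eq_self_of_coprime (x := α) (n := m) (by
      rw [← Subgroup.orderOf_mk α hα, hk]
      exact Nat.Coprime.pow_right k (((Fact.out : p.Prime).coprime_iff_not_dvd).2 hm).symm)
    have hmem : (n : G) ^ m ∈ N := by
      refine Subgroup.subset_closure ⟨i, ?_⟩
      rw [orderOf_pow_of_dvd (fun h0 => hm (by rw [h0]; exact dvd_zero p))
        (by rw [Subgroup.orderOf_coe, him]; exact dvd_mul_left _ _), Subgroup.orderOf_coe, him,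
        Nat.mul_div_cancel _ (Nat.pos_of_ne_zero fun h0 => hm (by rw [h0]; exact dvd_zero p))]
    refine (H85.mem_autGroup hP).2 ⟨hP, fun x => hP (α x).2, ⟨_, pow_mem hmem j⟩,
      fun x => Subtype.ext ?_⟩
    have h2 := H85.normAut_spec ι hreal.1 P hP ((n ^ m) ^ j) x
    rw [map_pow, map_pow, hn, hj] at h2
    exact h2
  have hle := hres.2.2 FN hFNs hidx
  have hn := H85.model_rimg_normal hG hQ
  have hNtop : N = ⊤ := top_le_iff.1 fun g _ => by
    have hconj : ∀ x : H85.preim ι (H85.rimg ι Q), g * ι ⟨x, (H85.preim_le ι _) x.2⟩ * g⁻¹ ∈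
        ι.range := fun x => by
      obtain ⟨z, -, hz⟩ := H85.mem_rimg.1 (hn.conj_mem _ (H85.mem_preim.1 x.2).2 g)
      exact ⟨z, hz⟩
    obtain ⟨φ, hφ, hval, heq⟩ := H85.exists_hom_of_conj hreal (H85.preim_le ι (H85.rimg ι Q)) g
      hconj
    obtain ⟨hP, hm, n, hg⟩ := hle _ hφ
    have h1 : (n : G)⁻¹ * g ∈ H85.rimg ι Q := H85.model_centralizer_le hS hG hQ hc
      (Subgroup.mem_centralizer_iff.2 fun y hy => by
        obtain ⟨x, hx, rfl⟩ := H85.mem_rimg.1 hy
        have hx' : (x : Ω) ∈ H85.preim ι (H85.rimg ι Q) :=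
          H85.mem_preim.2 ⟨x.2, H85.mem_rimg.2 ⟨x, hx, rfl⟩⟩
        have e1 : g * ι x * g⁻¹ = (n : G) * ι x * (n : G)⁻¹ :=
          (heq ⟨x, hx'⟩).symm.trans (congrArg Subtype.val (hg ⟨x, hx'⟩))
        calc ι x * ((n : G)⁻¹ * g) = (n : G)⁻¹ * ((n : G) * ι x * (n : G)⁻¹) * g := by group
          _ = (n : G)⁻¹ * (g * ι x * g⁻¹) * g := by rw [e1]
          _ = (n : G)⁻¹ * g * ι x := by group)
    obtain ⟨z, -, hz⟩ := H85.mem_rimg.1 h1
    have := N.mul_mem n.2 (hz ▸ hιN z)
    rwa [mul_inv_cancel_left] at this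
  have := subsingleton_of_isPSolvable hsolv hK hNtop
  exact (Subgroup.eq_bot_iff_forall S).2 fun x hx => by
    have := hreal.1 (Subsingleton.elim (ι ⟨x, hx⟩) (ι 1))
    exact congrArg Subtype.val this

theorem series_of_isPS (hS : IsPGroup p S) (hF : F.IsSaturated p) (h : IsPS F p) :
    F.HasTerminatingResidualSeries p := by
  suffices hmain : ∀ (w : ℕ) (T : Subgroup Ω) [Finite T] (X : FusionSystem T), H87.weight X = w →
      IsPGroup p T → X.IsSaturated p → IsPS X p → X.HasTerminatingResidualSeries p from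
    hmain _ S F rfl hS hF h
  intro w
  induction w using Nat.strong_induction_on with
  | _ w ih =>
  intro T _ X hw hT hX hXps
  have hres := H86.isPPrimeResidual_minSysCl hT hX
  set E := H86.minSysCl p X with hE
  have hEX := hres.2.1.1
  have hEps := hXps.sub hT hres.1 hEX
  have hUT := H86.hyperfocal_le E p
  have : Finite (E.hyperfocalSubgroup p) := H85.finite_of_le hUT
  obtain ⟨D, hD⟩ := H86.exists_powerIndex _ hT E hres.1 _ hUT le_rfl le_rfl
  have hDps := hEps.powerIndex hT hres.1 hD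
  have hDX : ∀ P, D.Hom P ⊆ X.Hom P := fun P φ hφ => hEX P (hD.2.1 P hφ)
  by_cases hsame : ∃ (P : Subgroup Ω) (φ : P →* Ω), φ ∈ X.Hom P ∧ φ ∉ D.Hom P
  · obtain ⟨P, φ, hφ, hn⟩ := hsame
    exact .step X E p D hres hD
      (ih _ (hw ▸ H87.weight_lt hDX hφ hn) _ D rfl (hT.to_le hUT) hD.1 hDps)
  · simp only [not_exists, not_and, not_not] at hsame
    have hEeq : E = X :=
      H85.fusionSystem_le_antisymm hEX fun P φ hφ => hD.2.1 P (hsame P φ hφ)
    have hUeq : E.hyperfocalSubgroup p = T :=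
      le_antisymm hUT (D.le_of_mem (hsame T _ (H85.id_mem X le_rfl))).1
    rw [hEeq] at hres hUeq
    exact .trivial X p (eq_bot_of_isPS hT hXps hX hres hUeq)

end H75.Res
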