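import Cfsg.Agent.H10.PSolvable
import Cfsg.Agent.H86.Hyperfocal
import Cfsg.Agent.H86.CentralizerSystemE
import Cfsg.Agent.H86.Join
import Cfsg.Agent.H87.CentralizerNormal
import Cfsg.Agent.H88.WeaklyNormal
import Cfsg.Agent.H89.CentralEltApps
import Cfsg.Agent.H85.Normal
import Cfsg.Agent.S5145

/-!
Restriction of automorphism groups to normal subgroups of a system, `p`-solvability of automorphism
groups of normal centric subgroups, and adjoining a centralizer to a normal subgroup.
-/

set_option autoImplicit false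
set_option linter.unusedSectionVars false

open Cfsg Cfsg.FusionSystem

namespace H75.Res

variable {p : ℕ} [Fact p.Prime]

/-- A finite group with `p`-group kernel over a `p`-solvable image is `p`-solvable. -/
theorem isPSolvable_of_ker {G H : Type*} [Group G] [Finite G] [Group H] (f : G →* H)
    (hk : IsPGroup p f.ker) (hr : IsPSolvable p f.range) : IsPSolvable p G := by
  obtain ⟨m, hm⟩ := IsPGroup.iff_card.1 hk
  exact H10.isPSolvable_of_quotient_of_card f.ker (Or.inl ⟨m, hm⟩)
    (H10.isPSolvable_of_equiv hr (QuotientGroup.quotientKerEquivRange f).symm)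

theorem isPSolvable_of_isPGroup {G : Type*} [Group G] [Finite G] (h : IsPGroup p G) :
    IsPSolvable p G := by
  obtain ⟨m, hm⟩ := IsPGroup.iff_card.1 h
  have : Subsingleton (G ⧸ (⊤ : Subgroup G)) := QuotientGroup.subsingleton_quotient_top
  exact H10.isPSolvable_of_quotient_of_card ⊤ (Or.inl ⟨m, by rw [Subgroup.card_top, hm]⟩)
    H10.isPSolvable_of_subsingleton

/-- A group whose `p`-residual embeds in a `p`-solvable group is `p`-solvable. -/
theorem isPSolvable_of_pResidual {G H : Type*} [Group G] [Finite G] [Group H]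
    (f : pResidual p G →* H) (hf : Function.Injective f) (hH : IsPSolvable p H) :
    IsPSolvable p G := by
  have := H86.pResidual_normal' p G
  refine H10.isPSolvable_of_normal _ (H10.isPSolvable_of_injective hH f hf)
    (isPSolvable_of_isPGroup fun q => ?_)
  obtain ⟨g, rfl⟩ := QuotientGroup.mk'_surjective _ q
  obtain ⟨k, hk⟩ := H86.exists_pow_mem_pResidual p g
  exact ⟨k, by rwa [← map_pow, QuotientGroup.mk'_apply, QuotientGroup.eq_one_iff]⟩

/-- A finite group all of whose elements of order prime to `p` are trivial is a `p`-group. -/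
theorem isPGroup_of_coprime {G : Type*} [Group G] [Finite G]
    (h : ∀ g : G, Nat.Coprime (orderOf g) p → g = 1) : IsPGroup p G := by
  intro g
  have hp : p.Prime := Fact.out
  obtain ⟨k, m, hm, hkm⟩ := Nat.exists_eq_pow_mul_and_not_dvd (orderOf_pos g).ne' p hp.ne_one
  refine ⟨k, h _ ?_⟩
  rw [orderOf_pow_of_dvd (pow_ne_zero _ hp.ne_zero) (hkm ▸ dvd_mul_right _ _), hkm,
    Nat.mul_div_cancel_left _ (pow_pos hp.pos _)]
  exact ((hp.coprime_iff_not_dvd).2 hm).symm

variable {Ω : Type*} [Group Ω] {S : Subgroup Ω} [Finite S] {F : FusionSystem S}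

/-- A strongly closed subgroup of the source is preserved. -/
theorem apply_mem {Q Q' : Subgroup Ω} (hQ' : Q' ≤ S) (hQ : F.StronglyClosed Q) {k : MulAut Q'}
    (hk : k ∈ F.autGroup Q') {x : Q'} (hx : (x : Ω) ∈ Q) : (k x : Ω) ∈ Q :=
  H86.map_mem_of_stronglyClosed hQ ((H85.mem_autGroup hQ').1 hk) (x := x) hx

/-- Restriction to a strongly closed subgroup. -/
noncomputable def resHom {Q Q' : Subgroup Ω} (hQ' : Q' ≤ S) (hle : Q ≤ Q')
    (hQ : F.StronglyClosed Q) : F.autGroup Q' →* MulAut Q :=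
  have : Finite Q := H85.finite_of_le hQ.1
  MonoidHom.mk' (fun k => MulEquiv.ofBijective
      (MonoidHom.mk' (fun x : Q => (⟨(k : MulAut Q') ⟨x, hle x.2⟩, apply_mem hQ' hQ k.2 x.2⟩ : Q))
        fun x y => Subtype.ext (congrArg Subtype.val
          (map_mul (k : MulAut Q') ⟨x, hle x.2⟩ ⟨y, hle y.2⟩) :))
      (Function.Injective.bijective_of_finite fun x y h => Subtype.ext (congrArg Subtype.val
        ((k : MulAut Q').injective (Subtype.ext (congrArg Subtype.val h :))) :)))
    fun k l => MulEquiv.ext fun x => rfl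

theorem resHom_apply {Q Q' : Subgroup Ω} (hQ' : Q' ≤ S) (hle : Q ≤ Q') (hQ : F.StronglyClosed Q)
    (k : F.autGroup Q') (x : Q) :
    (resHom hQ' hle hQ k x : Ω) = (k : MulAut Q') ⟨x, hle x.2⟩ := rfl

theorem resHom_mem {Q Q' : Subgroup Ω} (hQ' : Q' ≤ S) (hle : Q ≤ Q') (hQ : F.StronglyClosed Q)
    (k : F.autGroup Q') : resHom hQ' hle hQ k ∈ F.autGroup Q :=
  (H85.mem_autGroup hQ.1).2 (H85.hom_congr (H85.restrict ((H85.mem_autGroup hQ').1 k.2) hle)
    fun _ => rfl)

/-- Automorphisms fixing a self-centralizing strongly closed subgroup form a `p`-group. -/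
theorem resHom_ker_isPGroup (hS : IsPGroup p S) {Q Q' : Subgroup Ω} (hQ' : Q' ≤ S) (hle : Q ≤ Q')
    (hQ : F.StronglyClosed Q) (hc : centralizerIn S Q ≤ Q) :
    IsPGroup p (resHom hQ' hle hQ).ker := by
  have : Finite Q' := H85.finite_of_le hQ'
  rintro ⟨⟨k, hkF⟩, hk⟩
  have hfix : ∀ x : Q', (x : Ω) ∈ Q → k x = x := fun x hx =>
    Subtype.ext (congrArg Subtype.val (DFunLike.congr_fun (hk : resHom hQ' hle hQ ⟨k, hkF⟩ = 1)
      ⟨(x : Ω), hx⟩) :)
  obtain ⟨j, hj⟩ := H85.aut_isPElement (hS.to_le hQ') (Q := Q) k hfix fun x => hc (by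
    refine H85.mem_centralizerIn.2 ⟨hQ' (x⁻¹ * k x).2, fun q hq => ?_⟩
    let q' : Q' := ⟨q, hle hq⟩
    have h1 : x * q' * x⁻¹ = k x * q' * (k x)⁻¹ := by
      have h2 := hfix (x * q' * x⁻¹) (H86.normal_of_stronglyClosed F hQ (hQ' x.2) hq)
      rw [map_mul, map_mul, map_inv, hfix q' hq] at h2
      exact h2.symm
    have h3 : q' * (x⁻¹ * k x) = x⁻¹ * k x * q' :=
      calc q' * (x⁻¹ * k x) = x⁻¹ * (x * q' * x⁻¹) * k x := by group
        _ = x⁻¹ * (k x * q' * (k x)⁻¹) * k x := by rw [h1]
        _ = x⁻¹ * k x * q' := by group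
    exact congrArg Subtype.val h3)
  exact ⟨j, Subtype.ext (Subtype.ext hj)⟩

/-- Restriction of the automorphisms of a subgroup to a normal one is onto. -/
theorem autGroup_le_resHom_range {Q Q' : Subgroup Ω} (hQn : F.IsNormal Q') (hle : Q ≤ Q')
    (hQ : F.StronglyClosed Q) :
    F.autGroup Q ≤ (resHom hQn.1 hle hQ).range := by
  intro a ha
  obtain ⟨ψ, hψ, hext, -⟩ := hQn.2 Q _ ((H85.mem_autGroup hQ.1).1 ha)
  have hψ' := H85.restrict hψ (le_sup_right : Q' ≤ Q ⊔ Q')
  have hsc := H85.stronglyClosed_of_isNormal hQn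
  have : Finite Q' := H85.finite_of_le hQn.1
  have hr := H86.range_eq_self_of_le F hψ' (by
    rintro _ ⟨x, rfl⟩
    exact hsc.2 Q' le_rfl _ hψ' x)
  refine ⟨⟨_, H86.autOfHom_mem F hψ' hr⟩, MulEquiv.ext fun x => Subtype.ext ?_⟩
  exact (congrArg ψ (Subtype.ext rfl)).trans (hext x)

/-- Being constrained with `p`-solvable automorphism group of a normal centric subgroup. -/
def IsPS (F : FusionSystem S) (p : ℕ) : Prop :=
  ∃ Q : Subgroup Ω, F.IsNormal Q ∧ F.IsCentric Q ∧ IsPSolvable p (F.autGroup Q)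

theorem IsPS.core (hS : IsPGroup p S) (h : IsPS F p) :
    F.IsCentric F.core ∧ IsPSolvable p (F.autGroup F.core) := by
  obtain ⟨Q, hQ, hc, hsol⟩ := h
  have hcore : F.IsNormal F.core := Cfsg.Agent.S5145.result F
  have hle : Q ≤ F.core := le_sSup hQ
  have : Finite (F.autGroup F.core) := H85.finite_autGroup F hcore.1
  refine ⟨H85.centric_mono hc hle hcore.1, ?_⟩
  set f := resHom hcore.1 hle (H85.stronglyClosed_of_isNormal hQ) with hf
  refine isPSolvable_of_ker f (resHom_ker_isPGroup hS _ _ _ (H85.centric_self hc)) ?_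
  refine H10.isPSolvable_of_injective hsol (Subgroup.inclusion ?_) (Subgroup.inclusion_injective _)
  rintro _ ⟨k, rfl⟩
  exact resHom_mem _ _ _ k

/-- Characteristic subgroups decide normality: a strongly closed subgroup whose characteristic
subgroups are preserved by the maps defined on them. -/
theorem isNormal_of_char (hS : IsPGroup p S) (hF : F.IsSaturated p) {R : Subgroup Ω}
    (hR : F.StronglyClosed R)
    (h : ∀ C : Subgroup Ω, C ≤ R → (C.subgroupOf R).Characteristic →
      ∀ φ ∈ F.Hom C, ∀ x : C, φ x ∈ C) : F.IsNormal R :=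
  H88.isNormal_of_char_wc hS hF hR fun C hCR hC =>
    ⟨hCR.trans hR.1, fun φ hφ => H88.range_eq_of_le (hCR.trans hR.1) hφ (h C hCR hC φ hφ)⟩

/-- Adjoining the centralizer of a normal subgroup, when the centralizer system has no automorphisms
of order prime to `p`. -/
theorem isPS_of_sup_centralizer (hS : IsPGroup p S) (hF : F.IsSaturated p) {R : Subgroup Ω}
    (hR : F.IsNormal R)
    (hK : ∀ P : Subgroup Ω, P ≤ centralizerIn S R → ∀ b ∈ F.autGroup (P ⊔ R),
      Nat.Coprime (orderOf b) p →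
      (∀ x : R, (b (Subgroup.inclusion le_sup_right x) : Ω) = x) → b = 1)
    (hsol : IsPSolvable p (F.autGroup R)) : IsPS F p := by
  set W := centralizerIn S R with hW
  have hWS : W ≤ S := inf_le_left
  have : Finite W := H85.finite_of_le hWS
  set C := H85.centralizerSystem F R hR.1 with hC
  have hCn := H87.isNormalIn_centralizerSystem hS hF hR
  have hCp : ∀ P : Subgroup Ω, P ≤ W → IsPGroup p (C.autGroup P) := by
    intro P hP
    have : Finite (C.autGroup P) := H85.finite_autGroup C hP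
    refine isPGroup_of_coprime fun a hao => ?_
    obtain ⟨b, hb, hbP, hbR⟩ := H86.centAut_ext hR.1 hP a.2
    have hPR : P ⊔ R ≤ S := sup_le (hP.trans hWS) hR.1
    have := H85.finite_autGroup F hPR
    obtain ⟨n, hn, han⟩ := H86.exists_exp_coprime (⟨b, hb⟩ : F.autGroup (P ⊔ R)) (a : MulAut P)
      (by rwa [Subgroup.orderOf_coe])
    rw [← Subgroup.orderOf_coe] at hn
    have hkey : ∀ k : ℕ, (∀ x : P, ((b ^ k) (Subgroup.inclusion le_sup_left x) : Ω) =
        ((a : MulAut P) ^ k) x) ∧
        ∀ x : R, ((b ^ k) (Subgroup.inclusion le_sup_right x) : Ω) = x := by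
      intro k
      induction k with
      | zero => exact ⟨fun _ => rfl, fun _ => rfl⟩
      | succ k ih =>
        constructor
        · intro x
          rw [pow_succ', pow_succ', MulAut.mul_apply, MulAut.mul_apply,
            show (b ^ k) (Subgroup.inclusion le_sup_left x) =
              Subgroup.inclusion le_sup_left (((a : MulAut P) ^ k) x) from Subtype.ext (ih.1 x)]
          exact hbP _
        · intro x
          rw [pow_succ', MulAut.mul_apply,
            show (b ^ k) (Subgroup.inclusion le_sup_right x) =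
              Subgroup.inclusion le_sup_right x from Subtype.ext (ih.2 x)]
          exact hbR _
    have h1 := hK P hP (b ^ n) (pow_mem hb n) hn (hkey n).2
    refine Subtype.ext (MulEquiv.ext fun x => Subtype.ext ?_)
    have h2 := (hkey n).1 x
    rw [h1, han] at h2
    exact h2.symm
  have hWn : F.IsNormal W := by
    have h1 : C = innerFusionSystem W := H85.eq_inner_of_isPGroup (hS.to_le hWS) hCn.1.1 hCp
    have h2 := hCn.1
    rw [← hC, h1] at h2
    exact H88.isNormal_of_inner_weaklyNormal hS hF h2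
  have hQn : F.IsNormal (W ⊔ R) := H86.isNormal_sup F hWn hR
  have hQsc := H85.stronglyClosed_of_isNormal hQn
  have hRsc := H85.stronglyClosed_of_isNormal hR
  have hself : centralizerIn S (W ⊔ R) ≤ W ⊔ R := fun x hx => Subgroup.mem_sup_left
    (H85.mem_centralizerIn.2 ⟨hx.1, fun r hr =>
      (H85.mem_centralizerIn.1 hx).2 r (Subgroup.mem_sup_right hr)⟩)
  have hQc : F.IsCentric (W ⊔ R) := by
    refine ⟨hQn.1, fun Q ⟨φ, hφ, hr⟩ => ?_⟩
    have : Finite ↥(W ⊔ R) := H85.finite_of_le hQn.1
    have h1 := H86.range_eq_self_of_le F hφ (by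
      rintro _ ⟨x, rfl⟩
      exact hQsc.2 _ le_rfl φ hφ x)
    rw [← hr, h1]
    exact hself
  refine ⟨W ⊔ R, hQn, hQc, ?_⟩
  have : Finite (F.autGroup (W ⊔ R)) := H85.finite_autGroup F hQn.1
  set f := resHom hQn.1 (le_sup_right : R ≤ W ⊔ R) hRsc
  refine isPSolvable_of_ker f (isPGroup_of_coprime fun k hk => ?_) ?_
  · refine Subtype.ext (Subtype.ext (hK W le_rfl _ (k : F.autGroup (W ⊔ R)).2 ?_ fun x => ?_))
    · rwa [← Subgroup.orderOf_coe, ← Subgroup.orderOf_coe] at hk
    · exact congrArg Subtype.val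
        (DFunLike.congr_fun (k.2 : f (k : F.autGroup (W ⊔ R)) = 1) x)
  · refine H10.isPSolvable_of_injective hsol (Subgroup.inclusion ?_)
      (Subgroup.inclusion_injective _)
    rintro _ ⟨k, rfl⟩
    exact resHom_mem _ _ _ k

end H75.Res
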