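import Mathlib
import Cfsg.Agent.H87.NormalFunctor
import Cfsg.Agent.H87.FreeSolvable
import Cfsg.Agent.H74.Qd
import Cfsg.Prelude.Def_PLocal

/-!
From a Stellmacher subgroup of 2-groups (as an explicit hypothesis) to a canonical functor that is
normal in every `S₄`-free saturated system; also `Qd(2) ≅ S₄`.
-/

set_option autoImplicit false
set_option linter.unusedSectionVars false

namespace H75.Stell

open Cfsg Cfsg.FusionSystem

universe u

/-- `W` is normal in every `S₄`-free group of characteristic 2 with Sylow 2-subgroup `S`. -/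
def Good (S : Type u) [Group S] (W : Subgroup S) : Prop :=
  W.Characteristic ∧
    ∀ (G : Type u) [Group G] [Finite G] (τ : S →* G), Function.Injective τ →
      (∃ P : Sylow 2 G, (P : Subgroup G) = τ.range) →
      (¬ Cfsg.Involves (Equiv.Perm (Fin 4)) G) →
      Subgroup.centralizer (Cfsg.pCore 2 G : Set G) ≤ Cfsg.pCore 2 G → (W.map τ).Normal

/-- Every nontrivial 2-group has a nontrivial good subgroup. -/
def HasGood : Prop :=
  ∀ (S : Type u) [Group S] [Finite S], IsPGroup 2 S → Nontrivial S →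
    ∃ W : Subgroup S, W ≠ ⊥ ∧ Good S W

/-- The join of the good subgroups. -/
def goodW (S : Type u) [Group S] : Subgroup S := ⨆ W : {W : Subgroup S // Good S W}, (W : Subgroup S)

theorem good_map {Q R : Type u} [Group Q] [Group R] (φ : Q ≃* R) {W : Subgroup Q} (h : Good Q W) :
    Good R (W.map φ.toMonoidHom) := by
  refine ⟨Subgroup.characteristic_iff_map_eq.mpr fun ψ => ?_, fun G _ _ τ hτ hP hfree hc => ?_⟩
  · have h1 := Subgroup.characteristic_iff_map_eq.mp h.1 ((φ.trans ψ).trans φ.symm)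
    conv_rhs => rw [← h1]
    rw [Subgroup.map_map, Subgroup.map_map]
    congr 1
    ext x
    simp
  · rw [Subgroup.map_map]
    refine h.2 G (τ.comp φ.toMonoidHom) (hτ.comp φ.injective) ?_ hfree hc
    obtain ⟨P, hP⟩ := hP
    refine ⟨P, hP.trans ?_⟩
    rw [MonoidHom.range_comp, (MonoidHom.range_eq_top (f := φ.toMonoidHom)).mpr φ.surjective,
      ← MonoidHom.range_eq_map]

theorem goodW_map {Q R : Type u} [Group Q] [Group R] (φ : Q ≃* R) :
    (goodW Q).map φ.toMonoidHom = goodW R := by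
  refine le_antisymm ?_ (iSup_le fun W => ?_)
  · rw [goodW, Subgroup.map_iSup]
    exact iSup_le fun W => le_iSup (fun W : {W : Subgroup R // Good R W} => (W : Subgroup R))
      ⟨_, good_map φ W.2⟩
  · rintro x hx
    refine ⟨φ.symm x, ?_, φ.apply_symm_apply x⟩
    exact (le_iSup (fun V : {V : Subgroup Q // Good Q V} => (V : Subgroup Q))
      ⟨_, good_map φ.symm W.2⟩) ⟨x, hx, rfl⟩

theorem goodW_characteristic (Q : Type u) [Group Q] : (goodW Q).Characteristic :=
  Subgroup.characteristic_iff_map_eq.mpr fun φ => goodW_map φ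

theorem goodW_ne_bot (hW : HasGood.{u}) (Q : Type u) [Group Q] [Finite Q] (hQ : IsPGroup 2 Q)
    (hne : Nontrivial Q) : goodW Q ≠ ⊥ := by
  obtain ⟨W, hW1, hW2⟩ := hW Q hQ hne
  exact fun h => hW1 (le_bot_iff.mp
    ((le_iSup (fun V : {V : Subgroup Q // Good Q V} => (V : Subgroup Q)) ⟨W, hW2⟩).trans h.le))

theorem goodW_normal {G : Type u} [Group G] [Finite G] (P : Sylow 2 G)
    (hfree : ¬ Cfsg.Involves (Equiv.Perm (Fin 4)) G)
    (hc : Subgroup.centralizer (Cfsg.pCore 2 G : Set G) ≤ Cfsg.pCore 2 G) :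
    ((goodW ↥(P : Subgroup G)).map (P : Subgroup G).subtype).Normal := by
  rw [goodW, Subgroup.map_iSup]
  refine Subgroup.normalizer_eq_top_iff.mp (top_le_iff.mp fun g _ => Subgroup.mem_normalizer_fintype ?_)
  intro x hx
  have hn : (⨆ W : {W : Subgroup ↥(P : Subgroup G) // Good ↥(P : Subgroup G) W},
      (W : Subgroup ↥(P : Subgroup G)).map (P : Subgroup G).subtype) ≤
      (⨆ W : {W : Subgroup ↥(P : Subgroup G) // Good ↥(P : Subgroup G) W},
      (W : Subgroup ↥(P : Subgroup G)).map (P : Subgroup G).subtype).comap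
        (MulAut.conj g).toMonoidHom := by
    refine iSup_le fun W z hz => ?_
    have h1 := (W.2.2 G (P : Subgroup G).subtype (P : Subgroup G).subtype_injective
      ⟨P, (Subgroup.range_subtype _).symm⟩ hfree hc).conj_mem z hz g
    exact le_iSup (fun W : {W : Subgroup ↥(P : Subgroup G) // Good ↥(P : Subgroup G) W} =>
      (W : Subgroup ↥(P : Subgroup G)).map (P : Subgroup G).subtype) W h1
  exact hn hx

/-- The canonical subgroup is normal in every system whose models do not involve `H`, when `H` is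
involved wherever `S₄` is. -/
theorem isNormal_goodW (hW : HasGood.{u}) {H : Type} [Group H]
    (hH : ∀ (G : Type u) [Group G], Cfsg.Involves (Equiv.Perm (Fin 4)) G → Cfsg.Involves H G)
    {Ω : Type u} [Group Ω] {S : Subgroup Ω} [Finite S] (hS : IsPGroup 2 S) {F : FusionSystem S}
    (hF : F.IsSaturated 2) (hfree : F.IsSectionFree 2 H) :
    F.IsNormal ((goodW ↥S).map S.subtype) := by
  haveI : Fact (Nat.Prime 2) := ⟨Nat.prime_two⟩
  exact H87.isNormal_subW (H := H) (fun (Q : Type u) (_ : Group Q) => goodW Q)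
    (fun Q _ _ h1 h2 => goodW_ne_bot hW Q h1 h2) (fun Q R _ _ _ _ φ => goodW_map φ)
    (fun L _ _ P hc hL => goodW_normal P (fun h => hL (hH L h)) hc) Ω S hS F hF hfree

/-! ### `Qd(2)` -/

theorem card_affine_two : Fintype.card {v : Fin 3 → ZMod 2 // v 2 = 1} = 4 := by
  decide +kernel

theorem qd_two_equiv : Nonempty (↥(Cfsg.qd 2) ≃* Equiv.Perm (Fin 4)) := by
  classical
  haveI : Fact (Nat.Prime 2) := ⟨Nat.prime_two⟩
  change Nonempty (↥(Cfsg.qdOver (ZMod 2)) ≃* Equiv.Perm (Fin 4))
  let V := {v : Fin 3 → ZMod 2 // v 2 = 1}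
  let act : ↥(Cfsg.qdOver (ZMod 2)) → V → V := fun M v =>
    ⟨(H74.Qd.mat M).mulVec v.1, by
      obtain ⟨h0, h1, h2⟩ := H74.Qd.last_row M
      simp [Matrix.mulVec, dotProduct, Fin.sum_univ_three, h0, h1, h2, v.2]⟩
  have act_mul : ∀ M N v, act (M * N) v = act M (act N v) := fun M N v =>
    Subtype.ext (by simp [act, H74.Qd.mat_mul, Matrix.mulVec_mulVec])
  have act_one : ∀ v, act 1 v = v := fun v => Subtype.ext (by simp [act, H74.Qd.mat])
  let f : ↥(Cfsg.qdOver (ZMod 2)) →* Equiv.Perm V :=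
    { toFun := fun M =>
        { toFun := act M
          invFun := act M⁻¹
          left_inv := fun v => by rw [← act_mul, inv_mul_cancel, act_one]
          right_inv := fun v => by rw [← act_mul, mul_inv_cancel, act_one] }
      map_one' := Equiv.ext act_one
      map_mul' := fun M N => Equiv.ext (act_mul M N) }
  have hinj : Function.Injective f := by
    refine (injective_iff_map_eq_one f).mpr fun M hM => ?_
    have key : ∀ v : V, (H74.Qd.mat M).mulVec v.1 = v.1 := fun v =>
      congrArg Subtype.val (Equiv.congr_fun hM v)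
    have k0 := key ⟨![0, 0, 1], rfl⟩
    have k1 := key ⟨![1, 0, 1], rfl⟩
    have k2 := key ⟨![0, 1, 1], rfl⟩
    refine Subtype.ext (Subtype.ext (Matrix.ext fun i j => ?_))
    have a0 := congrFun k0 i
    have a1 := congrFun k1 i
    have a2 := congrFun k2 i
    fin_cases i <;> fin_cases j <;>
      simp [Matrix.mulVec, dotProduct, Fin.sum_univ_three, H74.Qd.mat] at a0 a1 a2 ⊢ <;>
      simp_all
  have hcV : Nat.card V = 4 := by
    rw [Nat.card_eq_fintype_card]
    exact (Fintype.card_congr (Equiv.refl _)).trans card_affine_two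
  obtain ⟨eV⟩ : Nonempty (V ≃ Fin 4) := ⟨(Finite.equivFin V).trans (finCongr hcV)⟩
  let g := (eV.permCongrHom).toMonoidHom.comp f
  have hg : Function.Injective g := eV.permCongrHom.injective.comp hinj
  have hcard : Nat.card ↥(Cfsg.qdOver (ZMod 2)) = Nat.card (Equiv.Perm (Fin 4)) := by
    rw [H74.Qd.card_qdOver, Nat.card_perm]
    simp [Nat.factorial]
    rw [show Fintype.card (Matrix.SpecialLinearGroup (Fin 2) (ZMod 2)) = 6 by decide +kernel]
  haveI : Finite ↥(Cfsg.qdOver (ZMod 2)) := Finite.of_injective g hg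
  exact ⟨MulEquiv.ofBijective g ((Nat.bijective_iff_injective_and_card g).mpr ⟨hg, hcard⟩)⟩

theorem involves_qd_two {G : Type u} [Group G] (h : Cfsg.Involves (Equiv.Perm (Fin 4)) G) :
    Cfsg.Involves ↥(Cfsg.qd 2) G := by
  obtain ⟨K, R, hR, ⟨e⟩⟩ := h
  obtain ⟨d⟩ := qd_two_equiv
  exact ⟨K, R, hR, ⟨e.trans d.symm⟩⟩

/-- The statement of Stellmacher's theorem (the type of S0665) gives the hypothesis `HasGood`. -/
theorem hasGood_of (h : ∀ (S : Type u) [Group S] [Finite S], IsPGroup 2 S → Nontrivial S →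
    ∃ W : Subgroup S, W ≠ ⊥ ∧ W.Characteristic ∧ ∀ (G : Type u) [Group G] [Finite G] (τ : S →* G),
      Function.Injective τ → (∃ P : Sylow 2 G, (P : Subgroup G) = τ.range) →
      (¬ ∃ (K R : Subgroup G) (hR : (R.subgroupOf K).Normal),
        Nonempty ((K ⧸ R.subgroupOf K) ≃* Equiv.Perm (Fin 4))) →
      Subgroup.centralizer (Cfsg.pCore 2 G : Set G) ≤ Cfsg.pCore 2 G → (W.map τ).Normal) :
    HasGood.{u} := fun S _ _ hS hn => by
  obtain ⟨W, h1, h2, h3⟩ := h S hS hn
  exact ⟨W, h1, h2, h3⟩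

/-- A characteristic subgroup normal in a `Qd(p)`-free saturated system (S5190). -/
theorem exists_char_normal_of_qdFree {Ω : Type u} [Group Ω] {S : Subgroup Ω} [Finite S] {p : ℕ}
    [Fact p.Prime] (hS : IsPGroup p S) (hS1 : S ≠ ⊥) {F : FusionSystem S} (hF : F.IsSaturated p)
    (hfree : F.IsSectionFree p ↥(Cfsg.qd p)) (hW : p = 2 → HasGood.{u}) :
    ∃ W : Subgroup Ω, W ≤ S ∧ W ≠ ⊥ ∧ (W.subgroupOf S).Characteristic ∧ F.IsNormal W := by
  haveI : Nontrivial S := (Subgroup.nontrivial_iff_ne_bot S).mpr hS1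
  have key : ∀ W₀ : Subgroup S, W₀ ≠ ⊥ → W₀.Characteristic → F.IsNormal (W₀.map S.subtype) →
      ∃ W : Subgroup Ω, W ≤ S ∧ W ≠ ⊥ ∧ (W.subgroupOf S).Characteristic ∧ F.IsNormal W := by
    intro W₀ h1 h2 h3
    refine ⟨W₀.map S.subtype, Subgroup.map_subtype_le _, ?_, ?_, h3⟩
    · exact fun h => h1 ((Subgroup.map_eq_bot_iff_of_injective _ S.subtype_injective).mp h)
    · rw [Subgroup.subgroupOf, Subgroup.comap_map_eq_self_of_injective S.subtype_injective]
      exact h2
  by_cases hp : p = 2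
  · subst hp
    exact key _ (goodW_ne_bot (hW rfl) _ hS inferInstance) (goodW_characteristic _)
      (isNormal_goodW (hW rfl) (fun G _ h => involves_qd_two h) hS hF hfree)
  · refine key _ (H87.zjSub_ne_bot (p := p) _ hS inferInstance)
      (Subgroup.characteristic_iff_map_eq.mpr fun φ => H87.zjSub_iso _ _ φ) ?_
    rw [← H88.centerThompsonAOf_eq_map S]
    exact H87.isNormal_zj hp hS hF hfree

end H75.Stell
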