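import Mathlib
import Cfsg.Agent.H87.FreeSolvable
import Cfsg.Agent.H87.SolvableChain
import Cfsg.Agent.H85.ModelExists
import Cfsg.Agent.H75.StellmacherFunctor

/-!
A class of free systems with a nontrivial normal subgroup in each member consists of solvable,
constrained and realizable systems; applied to `Qd(p)` and to `S₄`.
-/

set_option autoImplicit false
set_option linter.style.haveILetI false
set_option linter.unusedSectionVars false

namespace H75.Stell

open Cfsg Cfsg.FusionSystem

universe u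

/-- Every free system over a nontrivial `p`-group has a nontrivial normal subgroup. -/
def FreeHasNormal (p : ℕ) (H : Type) [Group H] : Prop :=
  ∀ {Ω : Type u} [Group Ω] (S : Subgroup Ω) [Finite S], IsPGroup p S → S ≠ ⊥ →
    ∀ F : FusionSystem S, F.IsSaturated p → F.IsSectionFree p H → ∃ W, W ≠ ⊥ ∧ F.IsNormal W

open H87 in
theorem isSolvableSystem_of_freeHasNormal {p : ℕ} [Fact p.Prime] {H : Type} [Group H]
    (hnorm : FreeHasNormal.{u} p H) {Ω : Type u} [Group Ω] {S : Subgroup Ω} [Finite S]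
    (hS : IsPGroup p S) {F : FusionSystem S} (hF : F.IsSaturated p)
    (hfree : F.IsSectionFree p H) : F.IsSolvableSystem := by
  intro R hR hne hn E hE
  have hRS := hR.1
  haveI := H85.finite_of_le hRS
  have hNS : normalizerIn S R = S :=
    le_antisymm inf_le_left fun g hg => ⟨hg, H85.stronglyClosed_normalizer hR hg⟩
  have hRn : F.IsFullyNormalized R := ⟨hRS, fun Q _ => by
    rw [hNS]; exact Subgroup.card_le_of_le (H85.normalizerIn_le Q)⟩
  have hNspec := H85.normalizerSystem_spec F R hRS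
  obtain ⟨D, hD, hDsat, hDfree, hDn⟩ := exists_cast_system hNS
    (H85.isSaturated_normalizerSystem hS hF hRn _ hNspec)
    (sectionFree_normalizerSystem hS hF hfree hRn hNspec)
  have hDR := hDn R (H89.isNormal_normalizerSystem hRS hNspec)
  obtain ⟨hQS, hker, hrange, hEhom⟩ := hE
  have hED : D.IsFactorSystem R (QuotientGroup.mk' (R.subgroupOf S)) E := by
    refine ⟨hQS, hker, hrange, fun P' φ' => ⟨fun h => ?_, fun ⟨h1, φ, hφ, h2⟩ => ?_⟩⟩
    · obtain ⟨h1, φ, hφ, h2⟩ := (hEhom P' φ').1 h
      refine ⟨h1, φ, ?_, h2⟩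
      have hRP : R ≤ preimageAlong (QuotientGroup.mk' (R.subgroupOf S)) P' :=
        le_factor_preimage hQS hker P'
      have hsup := sup_le (le_refl (preimageAlong (QuotientGroup.mk' (R.subgroupOf S)) P')) hRP
      rw [hD]
      refine H85.mem_normalizerHom.2 ⟨hφ, by rw [hNS]; exact factor_preimage_le P',
        fun x => by rw [hNS]; exact H85.map_mem hφ x, _, H85.restrict hφ hsup, fun x => rfl, ?_⟩
      have hi : H85.img (φ.comp (Subgroup.inclusion hsup)) R ≤ R := by
        intro y hy
        obtain ⟨z, hz, rfl⟩ := H85.mem_img.1 hy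
        exact H86.map_mem_of_stronglyClosed hR hφ (x := Subgroup.inclusion hsup z) hz
      haveI : Finite ↥(H85.img (φ.comp (Subgroup.inclusion hsup)) R) := H85.finite_of_le hi
      refine Subgroup.eq_of_le_of_card_ge hi ?_
      rw [H85.img, Subgroup.card_map_of_injective (F.injective_of_mem (H85.restrict hφ hsup)),
        H85.card_subgroupOf _ _ le_sup_right]
    · rw [hD] at hφ
      exact (hEhom P' φ').2 ⟨h1, φ, hφ.1, h2⟩
  have hsm := Cfsg.Agent.S5134.result p hS F hF R hR (QuotientGroup.mk' (R.subgroupOf S)) E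
    ⟨hQS, hker, hrange, hEhom⟩
  have hEfree := sectionFree_factor hS hDsat hDR hED hDfree
  haveI : Finite (⊤ : Subgroup (S ⧸ R.subgroupOf S)) := Subtype.finite
  have hS' : IsPGroup p (⊤ : Subgroup (S ⧸ R.subgroupOf S)) :=
    (hS.to_quotient _).of_equiv Subgroup.topEquiv.symm
  have htop : (⊤ : Subgroup (S ⧸ R.subgroupOf S)) ≠ ⊥ := fun h =>
    hne (le_antisymm hRS fun x hx =>
      (hker ⟨x, hx⟩).1 (Subgroup.mem_bot.1 (h.le (Subgroup.mem_top _))))
  intro hcore
  obtain ⟨W, hW1, hW2⟩ := hnorm _ hS' htop _ (H86.isSaturated_image hS hF hsm) hEfree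
  refine hW1 (eq_bot_iff.2 ?_)
  exact hcore ▸ le_core hW2

/-- Such a system is realized by a model. -/
theorem isRealizable_of_freeHasNormal {p : ℕ} [Fact p.Prime] {H : Type} [Group H]
    (hnorm : FreeHasNormal.{u} p H) {Ω : Type u} [Group Ω] {S : Subgroup Ω} [Finite S]
    (hS : IsPGroup p S) {F : FusionSystem S} (hF : F.IsSaturated p)
    (hfree : F.IsSectionFree p H) : F.IsRealizable p := by
  obtain ⟨G, _, ι, hG, hr, hT, -⟩ := H85.exists_model_of_constrained hS
    (H87.isConstrained_of_solvable hS hF (isSolvableSystem_of_freeHasNormal hnorm hS hF hfree))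
  exact ⟨G, inferInstance, hG, ι, hr, hT⟩

theorem freeHasNormal_qd (p : ℕ) [Fact p.Prime] (hW : p = 2 → HasGood.{u}) :
    FreeHasNormal.{u} p ↥(Cfsg.qd p) := fun S _ hS hS1 F hF hfree => by
  obtain ⟨W, -, h1, -, h2⟩ := exists_char_normal_of_qdFree hS hS1 hF hfree hW
  exact ⟨W, h1, h2⟩

/-- S5282 modulo the Stellmacher interface at `p = 2`. -/
theorem realizable_and_solvable_of_qdFree {Ω : Type u} [Group Ω] {S : Subgroup Ω} [Finite S]
    {p : ℕ} [Fact p.Prime] (hS : IsPGroup p S) {F : FusionSystem S} (hF : F.IsSaturated p)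
    (hfree : F.IsSectionFree p ↥(Cfsg.qd p)) (hW : p = 2 → HasGood.{u}) :
    F.IsRealizable p ∧ F.IsSolvableSystem :=
  ⟨isRealizable_of_freeHasNormal (freeHasNormal_qd p hW) hS hF hfree,
    isSolvableSystem_of_freeHasNormal (freeHasNormal_qd p hW) hS hF hfree⟩

end H75.Stell
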