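import Cfsg.Agent.H75.ResidualSeries
import Cfsg.Agent.H75.CentralNormal
import Cfsg.Agent.H86.WeaklyLeast
import Cfsg.Agent.H86.ExtStep
import Cfsg.Agent.H86.Invariant

/-!
Residual subsystems are monotone along weakly normal subsystems, and a residual of a weakly normal
subsystem is weakly normal.
-/

set_option autoImplicit false
set_option linter.unusedSectionVars false

open Cfsg Cfsg.FusionSystem

namespace H75.Res

variable {Ω : Type*} [Group Ω] {S T : Subgroup Ω} [Finite S] {p : ℕ} [Fact p.Prime]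

/-- A map agreeing on a normalized subgroup `P` with a map of a subsystem having all `p`-elements
of the automorphism groups. -/
theorem restrict_step (hS : IsPGroup p S) {D D' : FusionSystem S}
    (hD' : D'.IsSaturated p) (hsub : D'.IsSubsystemOf D)
    (hp : ∀ P : Subgroup Ω, P ≤ S → ∀ a ∈ D.autGroup P, (∃ k : ℕ, orderOf a = p ^ k) →
      a ∈ D'.autGroup P)
    (hT : D.StronglyClosed T) {P : Subgroup Ω} (hPT : P ≤ T)
    (hc : ∀ Q, D.IsConj P Q → centralizerIn T Q ≤ Q) {ψ : normalizerIn T P →* Ω}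
    (hψ : ψ ∈ D.Hom (normalizerIn T P))
    (hψP : ψ.comp (Subgroup.inclusion (H85.le_normalizerIn hPT)) ∈ D'.Hom P) :
    ψ ∈ D'.Hom (normalizerIn T P) := by
  let N := normalizerIn T P
  have hPN : P ≤ N := H85.le_normalizerIn hPT
  have hNT : N ≤ T := H85.normalizerIn_le P
  have hNS : N ≤ S := hNT.trans hT.1
  have : Finite N := H85.finite_of_le hNS
  have : Finite P := H85.finite_of_le (hPN.trans hNS)
  let Q := (ψ.comp (Subgroup.inclusion hPN)).range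
  have hQS : Q ≤ S := H85.range_le hψP
  have : Finite Q := H85.finite_of_le hQS
  have hψQ : ∀ y : N, ψ y ∈ normalizerIn S Q := fun y => ⟨H85.map_mem hψ y,
    H85.mem_normalizer_of_conj fun z hz => by
      obtain ⟨x, rfl⟩ := hz
      refine ⟨⟨(y : Ω) * x * (y : Ω)⁻¹, H85.conj_mem_of_mem_normalizer y.2.2 x.2⟩, ?_⟩
      show ψ (Subgroup.inclusion hPN _) = ψ y * ψ (Subgroup.inclusion hPN x) * (ψ y)⁻¹
      rw [← map_inv, ← map_mul, ← map_mul]
      exact congrArg ψ (Subtype.ext rfl)⟩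
  obtain ⟨Q₂, hQQ₂, hQ₂⟩ := H85.exists_fullyNormalized D' hQS
  obtain ⟨d, hd, -, hdimg⟩ := H85.exists_map_to_fullyNormalized hS hD' hQ₂ hQQ₂
  let χ₀ : N →* Ω := d.comp (ψ.codRestrict _ hψQ)
  have hχ₀ : χ₀ ∈ D.Hom N := D.comp_mem hψ (hsub _ hd) hψQ
  let φ₂ : P →* Ω := χ₀.comp (Subgroup.inclusion hPN)
  have hφ₂ : φ₂ ∈ D'.Hom P :=
    H85.hom_congr (D'.comp_mem hψP hd fun x => hψQ _) fun x => rfl
  have hφ₂Q : ∀ x : P, φ₂ x ∈ Q₂ := fun x =>
    hdimg.le (H85.apply_mem_img (φ := d) (x := ⟨_, hψQ (Subgroup.inclusion hPN x)⟩) ⟨x, rfl⟩)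
  have hr₂ : φ₂.range = Q₂ := by
    refine le_antisymm ?_ fun z hz => ?_
    · rintro _ ⟨x, rfl⟩
      exact hφ₂Q x
    · obtain ⟨w, ⟨x, hx⟩, rfl⟩ := H85.mem_img.1 (hdimg.ge hz)
      exact ⟨x, congrArg d (Subtype.ext hx)⟩
  obtain ⟨χ, hχ, hext⟩ := (H85.receptive_of_fullyNormalized hS hD' hQ₂).2 P φ₂ hφ₂ hr₂
  have hNX : N ≤ extender S P φ₂ := by
    intro g hg
    refine H85.mem_extender.2 ⟨hNS hg, hg.2, χ₀ ⟨g, hg⟩, H85.map_mem hχ₀ _, fun x hx => ?_⟩
    show χ₀ (Subgroup.inclusion hPN _) = χ₀ ⟨g, hg⟩ * χ₀ (Subgroup.inclusion hPN _) * (χ₀ _)⁻¹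
    rw [← map_inv, ← map_mul, ← map_mul]
    exact congrArg χ₀ (Subtype.ext rfl)
  let χ₁ : N →* Ω := χ.comp (Subgroup.inclusion hNX)
  have hχ₁ : χ₁ ∈ D'.Hom N := H85.restrict hχ hNX
  have hagree : ∀ y : N, (y : Ω) ∈ P → χ₁ y = χ₀ y := fun y hy =>
    (hext y hy (hNX y.2)).trans (congrArg χ₀ (Subtype.ext rfl))
  have hχ₀T : ∀ y : N, χ₀ y ∈ T := fun y => hT.2 N hNT _ hχ₀ y
  have hχ₁T : ∀ y : N, χ₁ y ∈ T := fun y => hT.2 N hNT _ (hsub _ hχ₁) y
  have hcQ₂ : centralizerIn T Q₂ ≤ Q₂ := hc Q₂ ⟨φ₂, hsub _ hφ₂, hr₂⟩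
  have hdiff : ∀ y : N, (χ₀ y)⁻¹ * χ₁ y ∈ Q₂ := fun y => by
    refine hcQ₂ (H85.mem_centralizerIn.2 ⟨T.mul_mem (T.inv_mem (hχ₀T y)) (hχ₁T y), fun q hq => ?_⟩)
    obtain ⟨x, rfl⟩ := hr₂.ge hq
    let w : N := y * Subgroup.inclusion hPN x * y⁻¹
    have hw : (w : Ω) ∈ P := H85.conj_mem_of_mem_normalizer y.2.2 x.2
    have h1 := hagree w hw
    rw [map_mul, map_mul, map_inv, map_mul, map_mul, map_inv, hagree (Subgroup.inclusion hPN x) x.2] at h1
    show χ₀ (Subgroup.inclusion hPN x) * _ = _ * χ₀ (Subgroup.inclusion hPN x)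
    calc χ₀ (Subgroup.inclusion hPN x) * ((χ₀ y)⁻¹ * χ₁ y)
        = (χ₀ y)⁻¹ * (χ₀ y * χ₀ (Subgroup.inclusion hPN x) * (χ₀ y)⁻¹) * χ₁ y := by group
      _ = (χ₀ y)⁻¹ * (χ₁ y * χ₀ (Subgroup.inclusion hPN x) * (χ₁ y)⁻¹) * χ₁ y := by rw [h1]
      _ = (χ₀ y)⁻¹ * χ₁ y * χ₀ (Subgroup.inclusion hPN x) := by group
  have hmem : ∀ y : N, χ₁ y ∈ χ₀.range := fun y => by
    rw [show χ₁ y = χ₀ y * ((χ₀ y)⁻¹ * χ₁ y) by rw [mul_inv_cancel_left]]
    refine χ₀.range.mul_mem ⟨y, rfl⟩ ?_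
    obtain ⟨x, hx⟩ := hr₂.ge (hdiff y)
    exact ⟨_, hx⟩
  obtain ⟨g, hg, hge⟩ := D.inv_mem hχ₀
  let k : N →* Ω := g.comp (χ₁.codRestrict _ hmem)
  have hk : k ∈ D.Hom N := D.comp_mem (hsub _ hχ₁) hg hmem
  have hkN : ∀ y : N, k y ∈ N := fun y => by
    obtain ⟨z, hz⟩ := hmem y
    show g ⟨χ₁ y, _⟩ ∈ N
    rw [show (⟨χ₁ y, hmem y⟩ : χ₀.range) = ⟨χ₀ z, z, rfl⟩ from Subtype.ext hz.symm, hge]
    exact z.2
  have hkr : k.range = N := H86.range_eq_self_of_le D hk (by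
    rintro _ ⟨y, rfl⟩
    exact hkN y)
  have hkχ : ∀ y : N, χ₀ ⟨k y, hkN y⟩ = χ₁ y := fun y => by
    obtain ⟨z, hz⟩ := hmem y
    have : (⟨k y, hkN y⟩ : N) = z := Subtype.ext (by
      show g ⟨χ₁ y, _⟩ = _
      rw [show (⟨χ₁ y, hmem y⟩ : χ₀.range) = ⟨χ₀ z, z, rfl⟩ from Subtype.ext hz.symm, hge])
    rw [this, hz]
  let f := H86.autOfHom k (D.injective_of_mem hk) hkr
  have hf : f ∈ D.autGroup N := H86.autOfHom_mem D hk hkr
  have hffix : ∀ y : N, (y : Ω) ∈ P → f y = y := fun y hy =>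
    D.injective_of_mem hχ₀ ((hkχ y).trans (hagree y hy))
  obtain ⟨j, hj⟩ := H85.aut_isPElement (hS.to_le hNS) (Q := P) f hffix fun y => by
    obtain ⟨x, hx⟩ := hr₂.ge (hdiff y)
    have h1 : χ₀ (y⁻¹ * f y) = χ₀ (Subgroup.inclusion hPN x) := by
      rw [map_mul, map_inv, show χ₀ (f y) = χ₁ y from hkχ y]
      exact hx.symm
    rw [← Subgroup.coe_inv, ← Subgroup.coe_mul, D.injective_of_mem hχ₀ h1]
    exact x.2
  have hfD' : f ∈ D'.autGroup N := by
    obtain ⟨i, -, hi⟩ := (Nat.dvd_prime_pow Fact.out).1 (orderOf_dvd_of_pow_eq_one hj)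
    exact hp N hNS f hf ⟨i, hi⟩
  have hχ₀' : χ₀ ∈ D'.Hom N := by
    refine H85.hom_congr (D'.comp_mem ((H85.mem_autGroup hNS).1 (inv_mem hfD')) hχ₁
      fun y => (f⁻¹ y).2) fun y => ?_
    show χ₁ (f⁻¹ y) = χ₀ y
    refine (hkχ _).symm.trans ?_
    exact congrArg χ₀ (MulAut.apply_inv_self _ f y)
  obtain ⟨d', hd', hd'e⟩ := D'.inv_mem hd
  refine H85.hom_congr (D'.comp_mem hχ₀' hd' fun y => ⟨⟨ψ y, hψQ y⟩, rfl⟩) fun y => ?_
  exact hd'e ⟨ψ y, hψQ y⟩

/-- The `p'`-residual of a weakly normal subsystem lies in every saturated subsystem containing the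
automorphisms of `p`-power order. -/
theorem minSysCl_le_of_pElements (hS : IsPGroup p S) {D D' : FusionSystem S}
    (hD : D.IsSaturated p) (hD' : D'.IsSaturated p) (hsub : D'.IsSubsystemOf D)
    (hp : ∀ P : Subgroup Ω, P ≤ S → ∀ a ∈ D.autGroup P, (∃ k : ℕ, orderOf a = p ^ k) →
      a ∈ D'.autGroup P)
    {E : FusionSystem T} (hE : E.IsWeaklyNormalIn D p) :
    (H86.minSysCl p E).IsSubsystemOf D' := by
  have hTc := hE.2.2.2.1
  have hED := hE.2.2.1
  have hTS := hTc.1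
  have : Finite T := H85.finite_of_le hTS
  have hTp : IsPGroup p T := hS.to_le hTS
  let Y : FusionSystem T :=
    { Hom := fun P => {φ | φ ∈ E.Hom P ∧ φ ∈ D'.Hom P}
      le_of_mem := fun hφ => E.le_of_mem hφ.1
      injective_of_mem := fun hφ => E.injective_of_mem hφ.1
      conj_mem := fun hP hg => ⟨E.conj_mem hP hg, D'.conj_mem (hP.trans hTS) (hTS hg)⟩
      comp_mem := fun hφ hψ hh => ⟨E.comp_mem hφ.1 hψ.1 hh, D'.comp_mem hφ.2 hψ.2 hh⟩
      inv_mem := by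
        intro P φ hφ
        obtain ⟨ψ, hψ, hx⟩ := E.inv_mem hφ.1
        obtain ⟨ψ', hψ', hx'⟩ := D'.inv_mem hφ.2
        refine ⟨ψ, ⟨hψ, H85.hom_congr hψ' ?_⟩, hx⟩
        rintro ⟨_, x, rfl⟩
        rw [hx' x, hx x] }
  suffices h : (H86.minSysCl p E).IsSubsystemOf Y from fun P φ hφ => (h P hφ).2
  refine H86.residual_le E ⟨fun P hP a ha hk => ?_, fun ε hε P hP h => ?_⟩
  · have haD := hED _ ((H85.mem_autGroup hP.1).1 ha)
    exact (H85.mem_autGroup hP.1).2 ⟨(H85.mem_autGroup hP.1).1 ha,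
      (H85.mem_autGroup (hP.1.trans hTS)).1 (hp P (hP.1.trans hTS) a
        ((H85.mem_autGroup (hP.1.trans hTS)).2 haD) hk)⟩
  have hεE : H85.IsFIso E ε := (H85.mem_autGroup le_rfl).1 hε
  suffices H : ∀ (n : ℕ) (P : Subgroup Ω) (hP : E.IsCentric P), Nat.card T - Nat.card P ≤ n →
      (H86.dmap ε).comp (Subgroup.inclusion hP.1) ∈ D'.Hom P → H86.dmap ε ∈ D'.Hom T from
    (H85.mem_autGroup le_rfl).2 ⟨hεE, H _ P hP le_rfl h.2⟩
  intro n
  induction n using Nat.strong_induction_on with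
  | _ n ih =>
  intro P hP hn hφ
  rcases eq_or_lt_of_le hP.1 with heq | hlt
  · subst heq
    exact H85.hom_congr hφ fun _ => rfl
  have hNT : normalizerIn T P ≤ T := H85.normalizerIn_le P
  have hN := restrict_step hS hD' hsub hp hTc hP.1
    (fun Q hQ => H85.centric_self (H86.centric_of_conj hE hP hQ))
    (hED _ (H85.restrict hεE hNT)) (H85.hom_congr hφ fun _ => rfl)
  have hlt' := H86.card_lt_card_normalizerIn hTp le_rfl hlt
  have : Nat.card (normalizerIn T P) ≤ Nat.card T := Subgroup.card_le_of_le hNT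
  exact ih (Nat.card T - Nat.card (normalizerIn T P)) (by omega) _
    (H85.centric_mono hP (H85.le_normalizerIn hP.1) hNT) le_rfl hN

/-- The `p'`-residual contains the automorphisms of `p`-power order. -/
theorem pElement_minSysCl (hS : IsPGroup p S) {F : FusionSystem S} (hF : F.IsSaturated p)
    {P : Subgroup Ω} (hP : P ≤ S) {a : MulAut P} (ha : a ∈ F.autGroup P)
    (hk : ∃ k : ℕ, orderOf a = p ^ k) : a ∈ (H86.minSysCl p F).autGroup P :=
  H86.opAut_le_iff.1 ((H86.isPPrimeResidual_minSysCl hS hF).2.1.2 P hP) a ha hk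

theorem minSysCl_idem (hS : IsPGroup p S) {F : FusionSystem S} (hF : F.IsSaturated p) :
    H86.minSysCl p (H86.minSysCl p F) = H86.minSysCl p F := by
  have h₁ := H86.isPPrimeResidual_minSysCl hS hF
  have h₂ := H86.isPPrimeResidual_minSysCl hS h₁.1
  refine H85.fusionSystem_le_antisymm h₂.2.1.1 (H86.minSysCl_le hS hF h₂.1
    ⟨fun P φ hφ => h₁.2.1.1 P (h₂.2.1.1 P hφ), fun P hP => ?_⟩)
  exact H86.opAut_le_iff.2 fun a ha hk =>
    pElement_minSysCl hS h₁.1 hP (pElement_minSysCl hS hF hP ha hk) hk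

/-- Weak normality passes to an intermediate saturated system. -/
theorem weaklyNormal_of_le {U : Subgroup Ω} (hS : IsPGroup p S) {F : FusionSystem S}
    {E : FusionSystem T} (hE : E.IsWeaklyNormalIn F p) {N : FusionSystem U}
    (hN : N.IsSaturated p) (hNF : N.IsSubsystemOf F) (hEN : E.IsSubsystemOf N) :
    E.IsWeaklyNormalIn N p := by
  have hUS : U ≤ S := H87.subsystem_le hNF
  have hTU : T ≤ U := H87.subsystem_le hEN
  have : Finite U := H85.finite_of_le hUS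
  have hTc := hE.2.2.2.1
  have hTN : N.StronglyClosed T := ⟨hTU, fun P hP φ hφ x => hTc.2 P hP φ (hNF P hφ) x⟩
  refine ⟨hE.1, hN, H86.invariant_of_strongInv (hS.to_le hUS) hN hEN hTN ?_⟩
  exact fun P Q hPQ hQ φ hφ hφQ ψ hψ =>
    H86.strongInv_of_invariant hE.2.2 P Q hPQ hQ φ hφ hφQ ψ (hNF Q hψ)

/-- A weakly normal subsystem equal to its `p'`-residual is normal in every intermediate saturated
system. -/
theorem normal_of_le {U : Subgroup Ω} (hS : IsPGroup p S) {F : FusionSystem S}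
    {E : FusionSystem T} (hE : E.IsWeaklyNormalIn F p) (hEm : H86.minSysCl p E = E)
    {N : FusionSystem U} (hN : N.IsSaturated p) (hNF : N.IsSubsystemOf F)
    (hEN : E.IsSubsystemOf N) : E.IsNormalIn N p := by
  have hUS : U ≤ S := H87.subsystem_le hNF
  have : Finite U := H85.finite_of_le hUS
  have h := H86.residual_normal (hS.to_le hUS) (weaklyNormal_of_le hS hE hN hNF hEN)
  rwa [hEm] at h

theorem hyperfocal_mono {U : Subgroup Ω} [Finite U] {F : FusionSystem U} {E : FusionSystem T}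
    (hE : E.IsSubsystemOf F) : E.hyperfocalSubgroup p ≤ F.hyperfocalSubgroup p := by
  rw [hyperfocalSubgroup, Subgroup.closure_le]
  rintro _ ⟨P, α, x, hP, hα, rfl⟩
  obtain ⟨β, hβ, hβe⟩ := H87.pResidual_map_mono hE P ⟨α, hα, rfl⟩
  refine Subgroup.subset_closure ⟨P, β, x, hP.trans (H87.subsystem_le hE), hβ, ?_⟩
  rw [show (β : MulAut P) = α from hβe]

/-- The hyperfocal subgroup of a weakly normal subsystem is strongly closed. -/
theorem stronglyClosed_hyperfocal (hS : IsPGroup p S) {F : FusionSystem S} {E : FusionSystem T}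
    (hE : E.IsWeaklyNormalIn F p) : F.StronglyClosed (E.hyperfocalSubgroup p) := by
  obtain ⟨hEF, hTc, -, hfr⟩ := hE.2.2
  have : Finite T := H85.finite_of_le hTc.1
  have hle := H86.hyperfocal_le E p
  have hUE := H86.hyperfocal_stronglyClosed (hS.to_le hTc.1) hE.1
  have hα : ∀ α ∈ F.autGroup T, ∀ y : T, (y : Ω) ∈ E.hyperfocalSubgroup p →
      (α y : Ω) ∈ E.hyperfocalSubgroup p := by
    intro α hα y hy
    suffices h : E.hyperfocalSubgroup p ≤
        ((E.hyperfocalSubgroup p).comap (T.subtype.comp α.toMonoidHom)).map T.subtype by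
      obtain ⟨z, hz, hzy⟩ := h hy
      rwa [show y = z from Subtype.ext hzy.symm]
    conv_lhs => rw [hyperfocalSubgroup]
    rw [Subgroup.closure_le]
    rintro _ ⟨P, a, x, hP, ha, rfl⟩
    have hd : H86.dmap α ∈ F.Hom T := (H85.mem_autGroup hTc.1).1 hα
    let e := H85.resIso (H86.dmap α) (F.injective_of_mem hd) hP
    have he : H85.IsFIso F e := H85.isFIso_resIso hd hP
    have hP' : H85.img (H86.dmap α) P ≤ T := fun z hz => by
      obtain ⟨s, -, rfl⟩ := H85.mem_img.1 hz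
      exact SetLike.coe_mem _
    let c : E.autGroup P →* E.autGroup (H85.img (H86.dmap α) P) :=
      ((MulAut.congr e).toMonoidHom.comp (E.autGroup P).subtype).codRestrict _
        fun b => H86.autGroup_transport hE hP hP' he b.2
    refine ⟨(⟨x, hP x.2⟩ : T)⁻¹ * ⟨((a : MulAut P) x : P), hP ((a : MulAut P) x).2⟩, ?_, rfl⟩
    rw [SetLike.mem_coe, Subgroup.mem_comap, map_mul, map_inv]
    refine Subgroup.subset_closure ⟨_, c a, e x, hP',
      H5.pResidual_map_le c (Subgroup.mem_map_of_mem _ ha), ?_⟩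
    show _ = ((e x : H85.img (H86.dmap α) P) : Ω)⁻¹ *
      ((e ((a : MulAut P) (e.symm (e x))) : H85.img (H86.dmap α) P) : Ω)
    rw [MulEquiv.symm_apply_apply]
    rfl
  refine ⟨hle.trans hTc.1, fun P hP φ hφ x => ?_⟩
  obtain ⟨α, hαF, φ₀, hφ₀, he⟩ := hfr P (hP.trans hle) φ hφ
  rw [he x ((E.le_of_mem hφ₀).2 x)]
  exact hα α hαF _ (hUE.2 P hP φ₀ hφ₀ x)

/-- The `p`-residual of a weakly normal subsystem is weakly normal. -/
theorem weaklyNormal_powerIndex (hS : IsPGroup p S) {F : FusionSystem S} {E : FusionSystem T}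
    (hE : E.IsWeaklyNormalIn F p) {E₀ : FusionSystem (E.hyperfocalSubgroup p)}
    (h₀ : E.IsPResidual p E₀) : E₀.IsWeaklyNormalIn F p := by
  obtain ⟨hEF, hTc, -, hfr⟩ := hE.2.2
  have hF := hE.2.1
  have : Finite T := H85.finite_of_le hTc.1
  have hTp : IsPGroup p T := hS.to_le hTc.1
  have hUc := stronglyClosed_hyperfocal hS hE
  have hUT := H86.hyperfocal_le E p
  have hUS := hUc.1
  have hUn : ((E.hyperfocalSubgroup p).subgroupOf T).Normal :=
    ⟨fun n hn g => H86.conj_mem_hyperfocal E p g.2 hn⟩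
  have hsub : E₀.IsSubsystemOf F := fun P φ hφ => hEF P (h₀.2.1 P hφ)
  have : Finite (E.hyperfocalSubgroup p) := H85.finite_of_le hUS
  let F' := H86.restrictSys F hUc
  have hNA : ∀ α ∈ F.autGroup (E.hyperfocalSubgroup p), H86.NormAut E₀ α := by
    intro α hα
    have hd : H86.dmap α ∈ F.Hom _ := (H85.mem_autGroup hUS).1 hα
    have hsub' : E₀.IsSubsystemOf (H86.pullSys F' E₀ α) := by
      refine H87.subsystem_of_pResidual hTp h₀.1 h₀.2.1 _ le_rfl fun P hP => ?_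
      rw [Cfsg.pResidual, MonoidHom.map_closure, Subgroup.closure_le]
      rintro _ ⟨⟨a, ha⟩, hk, rfl⟩
      let e := H85.resIso (H86.dmap α) (F.injective_of_mem hd) hP
      have he : H85.IsFIso F e := H85.isFIso_resIso hd hP
      have haF : a ∈ F.autGroup P :=
        (H85.mem_autGroup (hP.trans hUS)).2 (hEF _ ((H85.mem_autGroup (hP.trans hUT)).1 ha))
      have hI : H85.img (H86.dmap α) P ≤ E.hyperfocalSubgroup p := fun y hy => by
        obtain ⟨s, -, rfl⟩ := H85.mem_img.1 hy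
        exact SetLike.coe_mem _
      have ha' := H86.autGroup_transport hE (hP.trans hUT) (hI.trans hUT) he ha
      have hb := h₀.2.2.2 _ hI ⟨⟨_, ha'⟩, H87.mem_pResidual_of_coprime (by
        rw [Subgroup.orderOf_mk,
          show orderOf (MulAut.congr e a) = orderOf a from MulEquiv.orderOf_eq (MulAut.congr e) a,
          ← Subgroup.orderOf_mk a ha]
        exact hk), rfl⟩
      refine (H85.mem_autGroup hP).2
        ⟨⟨hP, (H85.mem_autGroup (hP.trans hUS)).1 haF⟩, _, (H85.mem_autGroup hI).1 hb,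
          fun x hx => ?_⟩
      show ((e (a (e.symm ⟨_, hx⟩)) : H85.img (H86.dmap α) P) : Ω) = _
      rw [show e.symm ⟨_, hx⟩ = x from (MulEquiv.symm_apply_eq _).2 (Subtype.ext rfl)]
      rfl
    intro P φ hφ
    obtain ⟨_, χ, hχ, he⟩ := hsub' P hφ
    exact ⟨χ, hχ, he⟩
  have hE₀ := H86.isNormalIn_of_powerIndex hTp hE.1 hUT hUn le_rfl h₀.1 h₀.2
  refine ⟨h₀.1, hF, hsub, hUc, fun P hP φ hφ α hα => ?_, fun P hP φ hφ => ?_⟩
  · obtain ⟨χ, hχ, he⟩ := hNA α hα P φ hφ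
    exact ⟨χ, hχ, fun x _ hx => he x hx⟩
  · obtain ⟨α, hα, φ₁, hφ₁, he⟩ := hfr P (hP.trans hUT) φ hφ
    obtain ⟨β, hβ, φ₀, hφ₀, he'⟩ := hE₀.1.2.2.2.2.2 P hP φ₁ hφ₁
    obtain ⟨α', hα', hαe⟩ := Fus.exists_aut_part hTc.1 hUc hUT hα
    have hβF : β ∈ F.autGroup (E.hyperfocalSubgroup p) :=
      (H85.mem_autGroup hUS).2 (hEF _ ((H85.mem_autGroup hUT).1 hβ))
    refine ⟨α' * β, mul_mem hα' hβF, φ₀, hφ₀, fun x hx => ?_⟩
    rw [he x ((E.le_of_mem hφ₁).2 x), MulAut.mul_apply, hαe]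
    exact congrArg (fun z : T => (α z : Ω)) (Subtype.ext (he' x hx))

end H75.Res
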