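import Cfsg.Agent.H75.WeaklyClosed

/-!
Weak closures of a weakly closed subgroup and products of two normal subgroups whose commutator
normalises it.
-/

set_option autoImplicit false

namespace H75

open Subgroup
open scoped commutatorElement
open H70 (cj)

variable {W : Type*} [Group W] [Finite W] {p : ℕ} [Fact p.Prime]

theorem residual_sup_wc_eq_top {Q : Subgroup W} (hQp : IsPGroup p Q)
    (h : Cfsg.IsWeaklyClosedSubgroup p Q) (hcl : normalClosure (Q : Set W) = ⊤) :
    Cfsg.pResidual p W ⊔ Q = ⊤ ∧ ⁅Cfsg.pResidual p W, Q⁆ = Cfsg.pResidual p W := by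
  have hKn := pResidual_normal p W
  set K := Cfsg.pResidual p W
  have h1 := wc_factor_residual hQp h (⊤ : Subgroup W)
  rw [resOf_top, top_inf_eq] at h1
  have hn : (K ⊔ Q).Normal := by
    refine normal_of_top_le (h1.ge.trans (sup_le ?_ (le_sup_left.trans le_normalizer)))
    refine le_trans ?_ (normalizer_inf_le_normalizer_sup K Q)
    exact le_inf (by rw [normalizer_eq_top_iff.mpr hKn]; exact le_top) le_rfl
  have htop : K ⊔ Q = ⊤ := top_le_iff.mp
    (hcl.ge.trans (normalClosure_le_normal (SetLike.coe_subset_coe.mpr le_sup_right)))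
  refine ⟨htop, le_antisymm (commutator_le_left K Q) ?_⟩
  set D := ⁅K, Q⁆ with hD
  have hDn : D.Normal := normal_of_top_le (htop.ge.trans
    (sup_le (normalizer_commutator_ge_left K Q) (normalizer_commutator_ge_right K Q)))
  refine pResidual_le_of_sup_eq_top hQp ?_
  have hn2 : (D ⊔ Q).Normal := by
    refine normal_of_top_le (htop.ge.trans (sup_le ?_ (le_sup_right.trans le_normalizer)))
    refine le_normalizer_of_conj fun k hk a ha => ?_
    obtain ⟨d, hd, q, hq, rfl⟩ := mem_sup_of_normal_left.mp ha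
    have e : k * (d * q) * k⁻¹ = (k * d * k⁻¹ * ⁅k, q⁆) * q := by
      rw [commutatorElement_def]; group
    rw [e]
    exact mul_mem (mem_sup_left (mul_mem (hDn.conj_mem d hd k) (commutator_mem_commutator hk hq)))
      (mem_sup_right hq)
  exact top_le_iff.mp
    (hcl.ge.trans (normalClosure_le_normal (SetLike.coe_subset_coe.mpr le_sup_right)))

/-- `U` generated by conjugates of the weakly closed `Q` inside it. -/
theorem resOf_sup_wc {Q U : Subgroup W} (hQp : IsPGroup p Q)
    (h : Cfsg.IsWeaklyClosedSubgroup p Q) (hQU : Q ≤ U) (hU : Cfsg.weakClosure Q U = U) :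
    resOf p U ⊔ Q = U ∧ ⁅resOf p U, Q⁆ = resOf p U := by
  have hcl : normalClosure ((Q.subgroupOf U : Subgroup U) : Set U) = ⊤ := by
    apply Subgroup.map_injective U.subtype_injective
    rw [normalClosure_subgroupOf_map hQU, ← weakClosure_eq_conj hQp h hQU, hU,
      ← MonoidHom.range_eq_map, Subgroup.range_subtype]
  obtain ⟨h1, h2⟩ := residual_sup_wc_eq_top (IsPGroup.comap_subtype (K := U) hQp)
    (wc_subgroupOf hQp h hQU) hcl
  have e1 := congrArg (Subgroup.map U.subtype) h1
  have e2 := congrArg (Subgroup.map U.subtype) h2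
  have hQ' : (Q.subgroupOf U).map U.subtype = Q := map_subgroupOf_eq_of_le hQU
  rw [Subgroup.map_sup, map_pResidual_eq_resOf, ← MonoidHom.range_eq_map,
    Subgroup.range_subtype] at e1
  rw [Subgroup.map_commutator, map_pResidual_eq_resOf] at e2
  simp only [subgroupOf] at hQ'
  simp only [subgroupOf, hQ'] at e1 e2
  exact ⟨e1, e2⟩

theorem weakClosure_idem (Q L : Subgroup W) :
    Cfsg.weakClosure Q (Cfsg.weakClosure Q L) = Cfsg.weakClosure Q L :=
  le_antisymm (weakClosure_le _ _)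
    (iSup_le fun g => cj_le_weakClosure (g := (g : W)) (cj_le_weakClosure g.2))

theorem commutator_le_pCore_of_central_quot {H₁ H₂ Q : Subgroup W} [H₁.Normal] [H₂.Normal]
    (hQp : IsPGroup p Q) (hcl : normalClosure (Q : Set W) = ⊤) (hprod : H₁ ⊔ H₂ = ⊤)
    (hcomm : ⁅H₁, H₂⁆ ≤ normalizer (Q : Set W)) : ⁅H₁, H₂⁆ ≤ Cfsg.pCore p W := by
  set P := Cfsg.pCore p W
  set f := QuotientGroup.mk' P
  have hf : Function.Surjective f := QuotientGroup.mk'_surjective P
  have hD0n : (⁅H₁, H₂⁆).Normal := inferInstance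
  set D0 := ⁅H₁, H₂⁆
  -- `[D, Q]` lies in `O_p`
  have hDQ : ∀ d ∈ D0, ∀ q ∈ Q, ⁅d, q⁆ ∈ P := by
    intro d hd q hq
    have hs : (Q ⊓ D0).IsSubnormal := by
      refine Subgroup.IsSubnormal.step _ _ inf_le_right hD0n.isSubnormal ?_
      rw [normal_subgroupOf_iff_le_normalizer inf_le_right]
      exact (le_inf hcomm le_normalizer).trans (normalizer_inf_le_normalizer_inf _ _)
    refine le_pCore_of_subnormal hs (hQp.to_le inf_le_left) (mem_inf.mpr ⟨?_, ?_⟩)
    · rw [commutatorElement_def]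
      exact mul_mem (conj_mem_of_mem_normalizer (hcomm hd) hq) (inv_mem hq)
    · rw [commutatorElement_def, mul_assoc, mul_assoc, ← mul_assoc q]
      exact mul_mem hd (hD0n.conj_mem _ (inv_mem hd) q)
  rw [← QuotientGroup.ker_mk' P, ← Subgroup.map_eq_bot_iff, Subgroup.map_commutator]
  haveI hA : (H₁.map f).Normal := Normal.map inferInstance f hf
  haveI hB : (H₂.map f).Normal := Normal.map inferInstance f hf
  set A := H₁.map f
  set B := H₂.map f
  set D := ⁅A, B⁆ with hDdef
  have hDmap : D = D0.map f := (Subgroup.map_commutator H₁ H₂ f).symm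
  have hDn : D.Normal := inferInstance
  have hclQ : normalClosure ((Q.map f : Subgroup (W ⧸ P)) : Set (W ⧸ P)) = ⊤ := by
    rw [← top_le_iff, ← map_top_of_surjective f hf, ← hcl, map_le_iff_le_comap]
    have : (normalClosure ((Q.map f : Subgroup (W ⧸ P)) : Set (W ⧸ P))).Normal :=
      normalClosure_normal
    exact normalClosure_le_normal fun q hq => subset_normalClosure (mem_map_of_mem f hq)
  -- `D` is central
  have hcen : ∀ d ∈ D, ∀ x : W ⧸ P, Commute d x := by
    have hle : (⊤ : Subgroup (W ⧸ P)) ≤ centralizer (D : Set (W ⧸ P)) := by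
      rw [← hclQ]
      refine normalClosure_le_normal ?_
      rintro _ ⟨q, hq, rfl⟩
      rw [SetLike.mem_coe, mem_centralizer_iff]
      intro d hd
      rw [hDmap] at hd
      obtain ⟨d, hd, rfl⟩ := hd
      have : f ⁅d, q⁆ = 1 := (QuotientGroup.eq_one_iff _).mpr (hDQ d hd q hq)
      rwa [map_commutatorElement, commutatorElement_eq_one_iff_commute] at this
    exact fun d hd x => mem_centralizer_iff.mp (hle (mem_top x)) d hd
  -- and of order prime to `p`
  have hbot : Cfsg.pCore p (W ⧸ P) = ⊥ := by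
    rw [H1.pCore_quotient p P (H1.isPGroup_pCore p W), Subgroup.map_eq_bot_iff,
      QuotientGroup.ker_mk']
  have hDp : ∀ d ∈ D, ∀ n, d ^ p ^ n = 1 → d = 1 := by
    intro d hd n hn
    have hnorm : (zpowers d).Normal := ⟨fun x hx g => by
      obtain ⟨i, rfl⟩ := mem_zpowers_iff.mp hx
      rw [← ((hcen d hd g).zpow_left i).eq, mul_inv_cancel_right]
      exact zpow_mem (mem_zpowers d) i⟩
    have hp : IsPGroup p (zpowers d) := by
      rintro ⟨x, hx⟩
      obtain ⟨i, rfl⟩ := mem_zpowers_iff.mp hx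
      refine ⟨n, Subtype.ext ?_⟩
      show (d ^ i) ^ p ^ n = 1
      rw [← zpow_natCast, ← _root_.zpow_mul, mul_comm, _root_.zpow_mul, zpow_natCast, hn,
        _root_.one_zpow]
    have := H1.le_pCore hp (mem_zpowers d)
    rwa [hbot, mem_bot] at this
  -- `p`-elements of one factor centralise the other
  have hpc : ∀ a ∈ A, ∀ b ∈ B, (∃ n, a ^ p ^ n = 1 ∨ b ^ p ^ n = 1) → Commute a b := by
    rintro a ha b hb ⟨n, hn⟩
    have hd : ⁅a, b⁆ ∈ D := commutator_mem_commutator ha hb
    rw [← commutatorElement_eq_one_iff_commute]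
    rcases hn with hn | hn
    · refine hDp _ hd n ?_
      have e : b * a * b⁻¹ = ⁅a, b⁆⁻¹ * a := by rw [commutatorElement_def]; group
      have h1 : (b * a * b⁻¹) ^ p ^ n = 1 := by rw [conj_pow, hn, mul_one, mul_inv_cancel]
      rw [e, ((hcen _ hd a).inv_left).mul_pow, hn, mul_one, inv_pow, inv_eq_one] at h1
      exact h1
    · refine hDp _ hd n ?_
      have e : a * b * a⁻¹ = ⁅a, b⁆ * b := by rw [commutatorElement_def]; group
      have h1 : (a * b * a⁻¹) ^ p ^ n = 1 := by rw [conj_pow, hn, mul_one, mul_inv_cancel]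
      rwa [e, (hcen _ hd b).mul_pow, hn, mul_one] at h1
  set C₁ := A ⊓ centralizer (B : Set (W ⧸ P))
  set C₂ := B ⊓ centralizer (A : Set (W ⧸ P))
  have hDC : D ≤ C₁ := le_inf (commutator_le_left A B) fun d hd =>
    mem_centralizer_iff.mpr fun b _ => (hcen d hd b).eq.symm
  have htop : A ⊔ B = ⊤ := by
    rw [← Subgroup.map_sup, hprod, map_top_of_surjective f hf]
  have hC : C₁ ⊔ C₂ = ⊤ := by
    rw [← top_le_iff, ← hclQ]
    refine normalClosure_le_normal fun x hx => ?_
    obtain ⟨a, ha, b, hb, rfl⟩ := mem_sup_of_normal_left.mp (htop.ge (mem_top x))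
    obtain ⟨k, hk⟩ := (hQp.map f) ⟨a * b, hx⟩
    have hk' : (a * b) ^ p ^ k = 1 := by simpa using congrArg Subtype.val hk
    obtain ⟨n, m, hm, hcard⟩ : ∃ n m, ¬ p ∣ m ∧ Nat.card (W ⧸ P) = p ^ n * m :=
      Nat.exists_eq_pow_mul_and_not_dvd Nat.card_pos.ne' p (Fact.out : p.Prime).ne_one
    have hco : (p ^ n).Coprime m := ((Fact.out : p.Prime).coprime_iff_not_dvd.mpr hm).pow_left n
    obtain ⟨e, he1, he2⟩ := Nat.chineseRemainder hco 1 0
    have hpel : ∀ y : W ⧸ P, (y ^ e) ^ p ^ n = 1 := fun y => by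
      obtain ⟨t, ht⟩ := (Nat.modEq_zero_iff_dvd.mp he2)
      rw [← pow_mul, show e * p ^ n = (p ^ n * m) * t by rw [ht]; ring, pow_mul, ← hcard,
        pow_card_eq_one', one_pow]
    have hxe : (a * b) ^ e = a * b := by
      have hord : orderOf (a * b) ∣ p ^ n := by
        refine Nat.Coprime.dvd_of_dvd_mul_right ?_ (by rw [← hcard]; exact _root_.orderOf_dvd_natCard _)
        obtain ⟨i, -, hi⟩ := (Nat.dvd_prime_pow Fact.out).mp (orderOf_dvd_of_pow_eq_one hk')
        rw [hi]
        exact ((Fact.out : p.Prime).coprime_iff_not_dvd.mpr hm).pow_left i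
      conv_rhs => rw [← pow_one (a * b)]
      exact pow_eq_pow_iff_modEq.mpr (he1.of_dvd hord)
    set φ := QuotientGroup.mk' D
    have hab : φ (a ^ e * b ^ e) = φ (a * b) := by
      have hc : Commute (φ a) (φ b) := by
        rw [← commutatorElement_eq_one_iff_commute, ← map_commutatorElement]
        exact (QuotientGroup.eq_one_iff _).mpr (commutator_mem_commutator ha hb)
      conv_rhs => rw [← hxe, map_pow, map_mul, hc.mul_pow]
      rw [map_mul, map_pow, map_pow]
    have hd : (a ^ e * b ^ e)⁻¹ * (a * b) ∈ D := by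
      rw [← QuotientGroup.eq_one_iff]
      show φ _ = 1
      rw [map_mul, map_inv, hab, inv_mul_cancel]
    have h1 : a ^ e ∈ C₁ := mem_inf.mpr ⟨pow_mem ha e, mem_centralizer_iff.mpr fun b' hb' =>
      (hpc _ (pow_mem ha e) b' hb' ⟨n, Or.inl (hpel a)⟩).eq.symm⟩
    have h2 : b ^ e ∈ C₂ := mem_inf.mpr ⟨pow_mem hb e, mem_centralizer_iff.mpr fun a' ha' =>
      (hpc a' ha' _ (pow_mem hb e) ⟨n, Or.inr (hpel b)⟩).eq⟩
    have := mul_mem (mul_mem (mem_sup_left (T := C₂) h1) (mem_sup_right (S := C₁) h2))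
      (mem_sup_left (T := C₂) (hDC hd))
    rwa [mul_inv_cancel_left] at this
  rw [hDdef, commutator_eq_bot_iff_le_centralizer]
  intro k hk
  rw [mem_centralizer_iff]
  intro h hh
  haveI : C₁.Normal := inferInstance
  obtain ⟨c₁, hc₁, c₂, hc₂, rfl⟩ := mem_sup_of_normal_left.mp (hC.ge (mem_top k))
  obtain ⟨d₁, hd₁, d₂, hd₂, rfl⟩ := mem_sup_of_normal_left.mp (hC.ge (mem_top h))
  have hc₂A : c₂ ∈ A := by
    have := mul_mem (inv_mem (mem_inf.mp hc₁).1) hk
    rwa [inv_mul_cancel_left] at this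
  have e1 : Commute (d₁ * d₂) c₁ := mem_centralizer_iff.mp (mem_inf.mp hc₁).2 _ hh
  have e2 : Commute (d₁ * d₂) c₂ :=
    Commute.mul_left (mem_centralizer_iff.mp (mem_inf.mp hc₂).2 d₁ (mem_inf.mp hd₁).1)
      (mem_centralizer_iff.mp (mem_inf.mp hd₂).2 c₂ hc₂A).symm
  exact (e1.mul_right e2).eq

/-- The ambient form. -/
theorem commutator_le_pCoreOf_of_factorization {H₁ H₂ Q Hc : Subgroup W} (hQp : IsPGroup p Q)
    (h : Cfsg.IsWeaklyClosedSubgroup p Q) (hQ : Q ≤ Hc) (hHc : Cfsg.weakClosure Q Hc = Hc)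
    (h1 : H₁ ≤ Hc) (n1 : Hc ≤ normalizer (H₁ : Set W))
    (h2 : H₂ ≤ Hc) (n2 : Hc ≤ normalizer (H₂ : Set W)) (hprod : H₁ ⊔ H₂ = Hc)
    (hcomm : ⁅H₁, H₂⁆ ≤ normalizer (Q : Set W)) : ⁅H₁, H₂⁆ ≤ Cfsg.pCoreOf p Hc := by
  haveI := normal_subgroupOf_of_le_normalizer n1
  haveI := normal_subgroupOf_of_le_normalizer n2
  have hcl : normalClosure ((Q.subgroupOf Hc : Subgroup Hc) : Set Hc) = ⊤ := by
    apply Subgroup.map_injective Hc.subtype_injective
    rw [normalClosure_subgroupOf_map hQ, ← weakClosure_eq_conj hQp h hQ, hHc,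
      ← MonoidHom.range_eq_map, Subgroup.range_subtype]
  have key := commutator_le_pCore_of_central_quot (p := p) (H₁ := H₁.subgroupOf Hc)
    (H₂ := H₂.subgroupOf Hc) (IsPGroup.comap_subtype (K := Hc) hQp) hcl
    (by rw [← subgroupOf_sup h1 h2, hprod, subgroupOf_self]) ?_
  · have := Subgroup.map_mono (f := Hc.subtype) key
    rwa [Subgroup.map_commutator, map_subgroupOf_eq_of_le h1, map_subgroupOf_eq_of_le h2] at this
  · intro x hx
    have hx' : (x : W) ∈ normalizer (Q : Set W) := by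
      refine hcomm ?_
      have := mem_map_of_mem Hc.subtype hx
      rwa [Subgroup.map_commutator, map_subgroupOf_eq_of_le h1, map_subgroupOf_eq_of_le h2] at this
    rw [mem_normalizer_iff]
    intro y
    exact (mem_normalizer_iff.mp hx' (y : W))

end H75
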